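import Groth.Agent.Props.QProj
import Groth.Agent.LFFrame.Basic
import Groth.Agent.QCoh.Exact
import Groth.Agent.QCoh.FiniteType
import Groth.Agent.AssSch.Structure
import Groth.Agent.PullStalk.Exact
import Groth.Prelude.Def_Coh
import Mathlib.AlgebraicGeometry.FunctionField
import Mathlib.AlgebraicGeometry.Noetherian
import Mathlib.LinearAlgebra.FreeModule.PID
import Mathlib.LinearAlgebra.Dimension.Constructions
import Mathlib.LinearAlgebra.FiniteDimensional.Lemmas

/-!
# Vector bundles on schemes with principal ideal local rings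

On an integral locally Noetherian scheme all of whose local rings are principal ideal domains (for
instance a smooth curve) coherent modules with torsion-free stalks are finite locally free.
-/

universe u

open CategoryTheory AlgebraicGeometry Limits TopologicalSpace
open Groth.Agent.PullStalk.Sky Groth.Agent.PullStalk.Exact

set_option linter.style.haveILetI false

namespace Groth.Agent.VBLib

variable {X : Scheme.{u}}

lemma isQuasicoherent_of_iso {M N : X.Modules} (e : M ≅ N) (h : M.IsQuasicoherent) : N.IsQuasicoherent :=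
  (SheafOfModules.isQuasicoherent.{u} X.ringCatSheaf).prop_of_iso e h

lemma isQuasicoherent_freeMod (Z : Scheme.{u}) (n : ℕ) : (FlatMod.freeMod Z n).IsQuasicoherent := by
  haveI : ∀ i : ULift.{u} (Fin n), ((fun _ => Coh.structureModule Z) i).IsQuasicoherent :=
    fun _ => inferInstance
  exact isQuasicoherent_of_iso (Props.QProj.freeModIso Z n)
    (QCoh.isQuasicoherent_coproduct (fun _ : ULift.{u} (Fin n) => Coh.structureModule Z))

/-- A trivialisation gives a frame of the same rank. -/
theorem exists_isFrame_of_iso {M : X.Modules} {U : X.Opens} {n : ℕ}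
    (φ : M.restrict U.ι ≅ FlatMod.freeMod (U : Scheme.{u}) n) :
    ∃ e : Fin n → Γ(M, U), LFFrame.IsFrame M U e := by
  classical
  let p : Fin n → (FlatMod.freeMod (U : Scheme.{u}) n ⟶ Coh.structureModule (U : Scheme.{u})) :=
    fun j => Sigma.desc fun i => if i = j then 𝟙 _ else 0
  exact LFFrame.exists_isFrame_of_split (M := M)
    (fun i => Sigma.ι (fun _ : Fin n => Coh.structureModule (U : Scheme.{u})) i ≫ φ.inv)
    (fun j => φ.hom ≫ p j) (fun i j => by simp [p]) (by
      rw [← cancel_epi φ.inv, ← cancel_mono φ.hom]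
      apply Sigma.hom_ext
      intro j
      simp [p, Preadditive.comp_sum, Preadditive.sum_comp, Finset.sum_ite_eq', ite_comp])

/-- Finite locally free modules are coherent. -/
theorem isCoh_of_isFinLocFree {M : X.Modules} (h : FlatMod.IsFinLocFree M) : Coh.IsCoh M := by
  haveI hq : M.IsQuasicoherent := by
    refine QCoh.isQuasicoherent_of_forall_exists M fun x => ?_
    obtain ⟨U, n, hx, ⟨φ⟩⟩ := h x
    obtain ⟨_, ⟨W, hW, rfl⟩, hxW, hWU⟩ := X.isBasis_affineOpens.exists_subset_of_mem_open hx U.2
    refine ⟨W, hW, hxW, ?_⟩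
    haveI := hW.isOpenImmersion_fromSpec
    have hrange : Set.range hW.fromSpec ⊆ Set.range U.ι := by
      rw [hW.range_fromSpec, Scheme.Opens.range_ι]; exact hWU
    let g : Spec Γ(X, W) ⟶ (U : Scheme.{u}) := IsOpenImmersion.lift U.ι hW.fromSpec hrange
    have hg : g ≫ U.ι = hW.fromSpec := IsOpenImmersion.lift_fac _ _ _
    haveI : IsOpenImmersion (g ≫ U.ι) := by rw [hg]; infer_instance
    haveI : IsOpenImmersion g := IsOpenImmersion.of_comp g U.ι
    haveI := isQuasicoherent_freeMod (U : Scheme.{u}) n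
    exact isQuasicoherent_of_iso
      ((Scheme.Modules.restrictFunctor g).mapIso φ.symm ≪≫
        ((Scheme.Modules.restrictFunctorComp g U.ι).app M).symm ≪≫
        (Scheme.Modules.restrictFunctorCongr hg).app M)
      (Scheme.Modules.isQuasicoherent_restrictFunctor g _)
  refine ⟨hq, QCoh.isFiniteType_of_forall_exists M fun x => ?_⟩
  obtain ⟨U, n, hx, ⟨φ⟩⟩ := h x
  obtain ⟨e, he⟩ := exists_isFrame_of_iso φ
  obtain ⟨_, ⟨W, hW, rfl⟩, hxW, hWU⟩ := X.isBasis_affineOpens.exists_subset_of_mem_open hx U.2
  refine ⟨W, hW, hxW, ?_⟩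
  exact Module.Finite.of_surjective
    (Fintype.linearCombination Γ(X, W) fun i => M.presheaf.map (homOfLE hWU).op (e i))
    (he W hWU).2

lemma isFinLocFree_of_ofRank {M : X.Modules} {n : ℕ} (h : FlatMod.IsFinLocFreeOfRank n M) :
    FlatMod.IsFinLocFree M := fun x => let ⟨U, hx, e⟩ := h x; ⟨U, n, hx, e⟩

lemma isCoh_of_ofRank {M : X.Modules} {n : ℕ} (h : FlatMod.IsFinLocFreeOfRank n M) : Coh.IsCoh M :=
  isCoh_of_isFinLocFree (isFinLocFree_of_ofRank h)

lemma stalkLin_injective {M N : X.Modules} (i : M ⟶ N) [Mono i] (x : X) :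
    Function.Injective (stalkLin i x) :=
  TopCat.Presheaf.stalkFunctor_map_injective_of_app_injective
    (F := M.presheaf) (G := N.presheaf) (f := i.mapPresheaf)
    (fun U => QCoh.app_injective_of_mono i U) x

/-- A quasi-coherent submodule of a coherent module on a locally Noetherian scheme is coherent. -/
theorem isCoh_of_mono [IsLocallyNoetherian X] {M N : X.Modules} (i : M ⟶ N) [Mono i]
    [M.IsQuasicoherent] (hN : Coh.IsCoh N) : Coh.IsCoh M := by
  haveI := hN.1
  haveI := hN.2
  refine ⟨inferInstance, (QCoh.isFiniteType_iff M).mpr fun U hU => ?_⟩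
  haveI : IsNoetherianRing Γ(X, U) := IsLocallyNoetherian.component_noetherian ⟨U, hU⟩
  haveI : Module.Finite Γ(X, U) Γ(N, U) := QCoh.finite_sections_of_isFiniteType N hU
  exact Module.Finite.of_injective
    ({ toFun := i.app U, map_add' := map_add _,
       map_smul' := fun r m => Scheme.Modules.Hom.app_smul i r m } : Γ(M, U) →ₗ[Γ(X, U)] Γ(N, U))
    (QCoh.app_injective_of_mono i U)

lemma isCoh_kernel [IsLocallyNoetherian X] {M N : X.Modules} (f : M ⟶ N) (hM : Coh.IsCoh M)
    (hN : Coh.IsCoh N) : Coh.IsCoh (kernel f) := by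
  haveI := hM.1
  haveI := hN.1
  exact isCoh_of_mono (kernel.ι f) hM

lemma isCoh_image [IsLocallyNoetherian X] {M N : X.Modules} (f : M ⟶ N) (hM : Coh.IsCoh M)
    (hN : Coh.IsCoh N) : Coh.IsCoh (Abelian.image f) := by
  haveI := hM.1
  haveI := hN.1
  exact isCoh_of_mono (Abelian.image.ι f) hN

lemma isCoh_cokernel {M N : X.Modules} (f : M ⟶ N) (hM : Coh.IsCoh M)
    (hN : Coh.IsCoh N) : Coh.IsCoh (cokernel f) := by
  haveI := hM.1
  haveI := hN.1
  haveI := hN.2
  refine ⟨inferInstance, (QCoh.isFiniteType_iff (cokernel f)).mpr fun U hU => ?_⟩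
  haveI : Module.Finite Γ(X, U) Γ(N, U) := QCoh.finite_sections_of_isFiniteType N hU
  refine Module.Finite.of_surjective
    ({ toFun := (cokernel.π f).app U, map_add' := map_add _,
       map_smul' := fun r m => Scheme.Modules.Hom.app_smul _ r m } :
      Γ(N, U) →ₗ[Γ(X, U)] Γ(cokernel f, U)) ?_
  exact QCoh.app_surjective_of_epi (cokernel.π f) hU

section Integral

variable [IsIntegral X]

/-- The stalk dimension at the generic point. -/
noncomputable def rk (M : X.Modules) : ℕ :=
  Module.finrank (X.presheaf.stalk (genericPoint X)) (M.presheaf.stalk (genericPoint X))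

lemma rk_eq_of_isFrame {M : X.Modules} {U : X.Opens} {n : ℕ} {e : Fin n → Γ(M, U)}
    (he : LFFrame.IsFrame M U e) (hU : genericPoint X ∈ U) : rk M = n := by
  rw [rk, ← LinearEquiv.finrank_eq
    (LinearEquiv.ofBijective _ (he.stalkComb_bijective (genericPoint X) hU))]
  exact Module.finrank_fin_fun _

lemma genericPoint_mem_of_mem {U : X.Opens} {x : X} (hx : x ∈ U) : genericPoint X ∈ U :=
  ((genericPoint_spec X).specializes trivial).mem_open U.2 hx

/-- The rank of a module locally free of rank `n` is `n`. -/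
theorem rk_eq {M : X.Modules} {n : ℕ} (h : FlatMod.IsFinLocFreeOfRank n M) : rk M = n := by
  obtain ⟨U, hx, ⟨φ⟩⟩ := h (genericPoint X)
  obtain ⟨e, he⟩ := exists_isFrame_of_iso φ
  exact rk_eq_of_isFrame he hx

/-- A finite locally free module on an integral scheme has constant rank. -/
theorem ofRank_rk {M : X.Modules} (h : FlatMod.IsFinLocFree M) :
    FlatMod.IsFinLocFreeOfRank (rk M) M := fun x => by
  obtain ⟨U, n, hx, ⟨φ⟩⟩ := h x
  obtain ⟨e, he⟩ := exists_isFrame_of_iso φ
  obtain rfl := rk_eq_of_isFrame he (genericPoint_mem_of_mem hx)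
  exact ⟨U, hx, ⟨φ⟩⟩

lemma finite_stalk {M : X.Modules} (hM : Coh.IsCoh M) (x : X) :
    Module.Finite (X.presheaf.stalk x) (M.presheaf.stalk x) := by
  haveI := hM.1
  haveI := hM.2
  obtain ⟨_, ⟨U, hU, rfl⟩, hx, -⟩ :=
    X.isBasis_affineOpens.exists_subset_of_mem_open (Set.mem_univ x) isOpen_univ
  haveI := QCoh.finite_sections_of_isFiniteType M (show IsAffineOpen U from hU)
  exact Props.QProj.finite_stalk M hU hx

/-- The rank is additive on short exact sequences of coherent modules. -/
theorem rk_add {S : ShortComplex X.Modules} (hS : S.ShortExact) (h₂ : Coh.IsCoh S.X₂) :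
    rk S.X₂ = rk S.X₁ + rk S.X₃ := by
  obtain ⟨hi, he, hs⟩ := stalk_exact hS (genericPoint X)
  let η := genericPoint X
  letI : Field (X.presheaf.stalk η) := inferInstanceAs (Field X.functionField)
  haveI : Module.Finite (X.presheaf.stalk η) (S.X₂.presheaf.stalk η) := finite_stalk h₂ η
  have h := (stalkLin S.g η).finrank_range_add_finrank_ker
  rw [LinearMap.range_eq_top.mpr hs, finrank_top, he.linearMap_ker_eq,
    LinearMap.finrank_range_of_inj hi] at h
  simp only [rk]
  simp only [η] at h
  omega

lemma rk_le_of_mono {M N : X.Modules} (i : M ⟶ N) [Mono i] (hN : Coh.IsCoh N) : rk M ≤ rk N := by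
  let η := genericPoint X
  letI : Field (X.presheaf.stalk η) := inferInstanceAs (Field X.functionField)
  haveI : Module.Finite (X.presheaf.stalk η) (N.presheaf.stalk η) := finite_stalk hN η
  exact LinearMap.finrank_le_finrank_of_injective (stalkLin_injective i η)

/-- A finite locally free module of rank zero vanishes. -/
theorem isZero_of_rk_eq_zero {M : X.Modules} (h : FlatMod.IsFinLocFree M) (h0 : rk M = 0) :
    IsZero M := by
  have hr := ofRank_rk h
  rw [h0] at hr
  rw [IsZero.iff_id_eq_zero]
  ext U m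
  change m = 0
  choose V hxV φ using fun x : U => hr x.1
  refine TopCat.Sheaf.eq_of_locally_eq' (⟨M.presheaf, M.isSheaf⟩ : TopCat.Sheaf Ab X)
    (fun x : U => U ⊓ V x) U (fun x => homOfLE inf_le_left)
    (fun x hx => Opens.mem_iSup.mpr ⟨⟨x, hx⟩, hx, hxV ⟨x, hx⟩⟩) _ _ fun x => ?_
  obtain ⟨e, he⟩ := exists_isFrame_of_iso (φ x).some
  obtain ⟨a, ha⟩ := (he (U ⊓ V x) inf_le_right).2 (M.presheaf.map (homOfLE inf_le_left).op m)
  refine Eq.trans ?_ (map_zero (M.presheaf.map (homOfLE inf_le_left).op).hom).symm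
  refine ha.symm.trans ?_
  simp [LFFrame.comb]

variable [IsLocallyNoetherian X]

/-- Coherent modules with torsion-free stalks are finite locally free when the local rings are
principal ideal domains. -/
theorem isFinLocFree_of_torsionFree (hP : ∀ x : X, IsPrincipalIdealRing (X.presheaf.stalk x))
    {M : X.Modules} (hM : Coh.IsCoh M)
    (htf : ∀ x : X, Module.IsTorsionFree (X.presheaf.stalk x) (M.presheaf.stalk x)) :
    FlatMod.IsFinLocFree M := by
  haveI := hM.1
  haveI := hM.2
  refine Props.QProj.isFinLocFree_of M (fun x => ?_) fun x => ?_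
  · obtain ⟨_, ⟨U, hU, rfl⟩, hx, -⟩ :=
      X.isBasis_affineOpens.exists_subset_of_mem_open (Set.mem_univ x) isOpen_univ
    haveI : IsNoetherianRing Γ(X, U) := IsLocallyNoetherian.component_noetherian ⟨U, hU⟩
    haveI := QCoh.finite_sections_of_isFiniteType M (show IsAffineOpen U from hU)
    exact ⟨U, hU, hx, Module.finitePresentation_of_finite _ _⟩
  · haveI := finite_stalk hM x
    haveI := hP x
    haveI := htf x
    exact Module.free_of_finite_type_torsion_free'

/-- A quasi-coherent submodule of a finite locally free module is finite locally free. -/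
theorem isFinLocFree_of_mono (hP : ∀ x : X, IsPrincipalIdealRing (X.presheaf.stalk x))
    {M N : X.Modules} (i : M ⟶ N) [Mono i] [M.IsQuasicoherent] (hN : FlatMod.IsFinLocFree N) :
    FlatMod.IsFinLocFree M := by
  refine isFinLocFree_of_torsionFree hP (isCoh_of_mono i (isCoh_of_isFinLocFree hN)) fun x => ?_
  haveI := (isCoh_of_isFinLocFree hN).1
  haveI := (Props.QProj.free_stalk N hN x).1
  exact (stalkLin_injective i x).moduleIsTorsionFree (stalkLin i x) (map_smul _)

theorem isFinLocFree_kernel (hP : ∀ x : X, IsPrincipalIdealRing (X.presheaf.stalk x))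
    {M N : X.Modules} (f : M ⟶ N) (hM : FlatMod.IsFinLocFree M) (hN : Coh.IsCoh N) :
    FlatMod.IsFinLocFree (kernel f) := by
  haveI := (isCoh_of_isFinLocFree hM).1
  haveI := hN.1
  exact isFinLocFree_of_mono hP (kernel.ι f) hM

theorem isFinLocFree_image (hP : ∀ x : X, IsPrincipalIdealRing (X.presheaf.stalk x))
    {M N : X.Modules} (f : M ⟶ N) (hM : Coh.IsCoh M) (hN : FlatMod.IsFinLocFree N) :
    FlatMod.IsFinLocFree (Abelian.image f) := by
  haveI := (isCoh_of_isFinLocFree hN).1
  haveI := hM.1
  exact isFinLocFree_of_mono hP (Abelian.image.ι f) hN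

end Integral

end Groth.Agent.VBLib
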