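import Groth.Agent.VBLib.Simple
import Groth.Prelude.Def_Pic

/-!
# Maps between line bundles and line subbundles on a curve
-/

universe u

open CategoryTheory AlgebraicGeometry Limits

set_option linter.style.haveILetI false

namespace Groth.Agent.VBLib

variable {k : Type u} [Field k] {X : Scheme.{u}}

/-- An invertible module is locally free of rank one. -/
theorem ofRank_one_of_invertible {L : X.Modules} (h : PicF.IsInvertible L) :
    FlatMod.IsFinLocFreeOfRank 1 L := fun x => by
  obtain ⟨U, hx, ⟨e⟩⟩ := h x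
  exact ⟨U, hx, ⟨e ≪≫ (coproductUniqueIso fun _ : Fin 1 => Coh.structureModule (U : Scheme.{u})).symm⟩⟩

variable [X.Over (Spec (CommRingCat.of k))] [IsIntegral X] (hX : GoodCurve k X)

lemma stable_of_rk_one {E : X.Modules} (h : rk E = 1) : Stable k E := by
  intro G i hi hG hpos hlt
  omega

include hX

/-- A nonzero map between bundles of rank one. -/
theorem GoodCurve.line_hom {M N : X.Modules} (hM : FlatMod.IsFinLocFree M) (hN : FlatMod.IsFinLocFree N)
    (h1 : rk M = 1) (h2 : rk N = 1) (f : M ⟶ N) (hf : f ≠ 0) :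
    Mono f ∧ dg k M ≤ dg k N ∧ (dg k M = dg k N → IsIso f) := by
  haveI := hX.isLocallyNoetherian
  have hMc := isCoh_of_isFinLocFree hM
  have hNc := isCoh_of_isFinLocFree hN
  have hI := isFinLocFree_image hX.pid f hMc hN
  have hK := isFinLocFree_kernel hX.pid f hM hNc
  obtain ⟨-, hr⟩ := hX.dg_kernel_image f hMc hNc
  have hIpos : rk (Abelian.image f) ≠ 0 := fun h => hf (eq_zero_of_rk_image f hI h)
  have hm : Mono f := mono_of_rk_kernel f hK (by omega)
  haveI := hm
  exact ⟨hm, hX.dg_le_of_mono f hMc hNc (by omega)⟩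

/-- No nonzero map to a line bundle of smaller degree. -/
theorem GoodCurve.line_hom_eq_zero {M N : X.Modules} (hM : FlatMod.IsFinLocFree M)
    (hN : FlatMod.IsFinLocFree N) (h1 : rk M = 1) (h2 : rk N = 1) (h : dg k N < dg k M) (f : M ⟶ N) :
    f = 0 := by
  by_contra hf
  have h3 := (hX.line_hom hM hN h1 h2 f hf).2.1
  omega

/-- Two saturated subbundles of the same rank, one contained in the other, are equal. -/
theorem GoodCurve.sub_eq {A B E : X.Modules} (hA : FlatMod.IsFinLocFree A) (hB : FlatMod.IsFinLocFree B)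
    (hr : rk B = rk A) (i : A ⟶ E) [Mono i] (j : B ⟶ E) [Mono j]
    (hq : FlatMod.IsFinLocFree (cokernel j)) (h : j ≫ cokernel.π i = 0) :
    ∃ φ : B ≅ A, φ.hom ≫ i = j := by
  haveI := hX.isLocallyNoetherian
  let t := Abelian.monoLift i j h
  have ht : t ≫ i = j := Abelian.monoLift_comp i j h
  haveI : Mono (t ≫ i) := by rw [ht]; infer_instance
  haveI : Mono t := mono_of_mono t i
  have hAc := isCoh_of_isFinLocFree hA
  have hBc := isCoh_of_isFinLocFree hB
  have hTc := isCoh_cokernel t hBc hAc
  have hT0 : rk (cokernel t) = 0 := by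
    have := (hX.dg_mono_cokernel t hBc hAc).2
    omega
  let u : cokernel t ⟶ cokernel j := cokernel.desc t (i ≫ cokernel.π j)
    (by rw [← Category.assoc, ht, cokernel.condition])
  have hu : u = 0 := by
    refine eq_zero_of_rk_image u (isFinLocFree_image hX.pid u hTc hq) ?_
    have := (hX.dg_kernel_image u hTc (isCoh_of_isFinLocFree hq)).2
    omega
  have hi : i ≫ cokernel.π j = 0 := by
    rw [← cokernel.π_desc t (i ≫ cokernel.π j) (by rw [← Category.assoc, ht, cokernel.condition])]
    show cokernel.π t ≫ u = 0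
    rw [hu, comp_zero]
  let s := Abelian.monoLift j i hi
  have hs : s ≫ j = i := Abelian.monoLift_comp j i hi
  exact ⟨⟨t, s, (cancel_mono j).mp (by rw [Category.assoc, hs, ht, Category.id_comp]),
    (cancel_mono i).mp (by rw [Category.assoc, ht, hs, Category.id_comp])⟩, ht⟩

end Groth.Agent.VBLib
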