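import Groth.Agent.VBLib.RR
import Groth.Agent.VarBC.H0

/-!
# Global functions of geometrically integral proper schemes
-/

universe u

open CategoryTheory AlgebraicGeometry Limits

namespace Groth.Agent.VBLib

/-- Global functions of a proper geometrically connected and reduced scheme. -/
theorem bijective_toGlobal_of_geometrically (k : Type u) [Field k] (X : Scheme.{u})
    [X.Over (Spec (CommRingCat.of k))] [IsProper (X ↘ Spec (CommRingCat.of k))] [Nonempty X]
    [GeometricallyConnected (X ↘ Spec (CommRingCat.of k))]
    [GeometricallyReduced (X ↘ Spec (CommRingCat.of k))] :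
    Function.Bijective (Coh.toGlobal (X ↘ Spec (CommRingCat.of k))) :=
  VarBC.H0.bijective_algebraMap k X

end Groth.Agent.VBLib
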