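import Groth.Agent.Props.GenTensor
import Groth.Agent.PullStalk.Exact

/-!
# Multiplication by a section of an invertible module

`mulSec M σ : M ⟶ M ⊗ L` sends `m` to `m ⊗ σ`; in trivialisations it multiplies the coefficient by the
coefficient of `σ`.
-/

universe u

open CategoryTheory Limits AlgebraicGeometry Opposite TopologicalSpace
open scoped TensorProduct

noncomputable section

namespace Groth.Agent.VBLib.MulSec

open Groth.Agent.QCoh Groth.Agent.Props.GenLocus Groth.Agent.Props.GenTensor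
open Groth.Agent.PullStalk.Sky Groth.Agent.PullStalk.Exact

variable {X : Scheme.{u}} (M : X.Modules) {L : X.Modules} (σ : Γ(L, ⊤))

lemma tmul_add_left {N : X.Modules} {V : X.Opens} (m m' : Γ(M, V)) (n : Γ(N, V)) :
    tmul (m + m') n = tmul m n + tmul m' n :=
  (congrArg (fun z : Γ(M, V) ⊗[Γ(X, V)] Γ(N, V) =>
    (η M N).app (op V) (show (pre M N).obj (op V) from z)) (TensorProduct.add_tmul m m' n)).trans
    (map_add ((η M N).app (op V)).hom _ _)

/-- The map `m ↦ m ⊗ σ`. -/
def mulSec : M ⟶ CohB1.tensorMod M L :=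
  ⟨PresheafOfModules.homMk (M₁ := M.val) (M₂ := (CohB1.tensorMod M L).val)
    { app := fun U => AddCommGrpCat.ofHom
        (AddMonoidHom.mk' (fun m : Γ(M, U.unop) => tmul m (res L (le_top : U.unop ≤ ⊤) σ))
          fun m m' => tmul_add_left M m m' _)
      naturality := fun U V f => by
        ext m
        refine Eq.trans ?_ (res_tmul f.unop.le m (res L (le_top : U.unop ≤ ⊤) σ)).symm
        exact congrArg (tmul (res M f.unop.le m)) (res_res L le_top f.unop.le σ).symm }
    (fun U r m => tmul_smul_left r m _)⟩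

lemma mulSec_app {U : X.Opens} (m : Γ(M, U)) :
    (mulSec M σ).app U m = tmul m (res L (le_top : U ≤ ⊤) σ) := rfl

variable {M σ}

/-- In a trivialisation, multiplication by a section multiplies coefficients. -/
lemma mulSec_app_smul {U : X.Opens} {e : Γ(L, U)} {u : Γ(X, U)}
    (hu : res L (le_top : U ≤ ⊤) σ = u • e) (a : Γ(X, U)) (g : Γ(M, U)) :
    (mulSec M σ).app U (a • g) = (a * u) • tmul g e := by
  rw [mulSec_app, hu, tmul_smul_left, tmul_smul_right, smul_smul]

/-- The germ form of `mulSec_app_smul`. -/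
lemma stalkLin_mulSec {U : X.Opens} {e : Γ(L, U)} {u : Γ(X, U)}
    (hu : res L (le_top : U ≤ ⊤) σ = u • e) (g : Γ(M, U)) (x : X) (hx : x ∈ U)
    (a : X.presheaf.stalk x) :
    stalkLin (mulSec M σ) x (a • germM M U x hx g) =
      (a * X.presheaf.germ U x hx u) • germM (CohB1.tensorMod M L) U x hx (tmul g e) := by
  rw [map_smul, stalkLin_germ, ← smul_smul]
  refine congrArg (a • ·) ?_
  refine Eq.trans ?_ (germM_smul _ U x hx u (tmul g e))
  refine congrArg (germM _ U x hx) ?_
  have h := mulSec_app_smul (M := M) hu 1 g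
  rwa [one_smul, one_mul] at h

/-- Morphisms agreeing on the members of a cover by trivialisations are equal. -/
theorem hom_ext_of_gen {N P : X.Modules} (f g : N ⟶ P)
    (h : ∀ x : X, ∃ (W : X.Opens) (e : Γ(N, W)), x ∈ W ∧ IsGen N W e ∧ f.app W e = g.app W e) :
    f = g := by
  choose W e hxW he heq using h
  refine Scheme.Modules.hom_ext _ _ fun U => ?_
  ext m
  refine eq_of_locally_eq P (U := fun x : U => U ⊓ W x.1) (fun x => inf_le_left)
    (fun x hx => Opens.mem_iSup.mpr ⟨⟨x, hx⟩, hx, hxW x⟩) _ _ fun x => ?_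
  obtain ⟨a, ha, -⟩ := (he x.1).exists_eq (inf_le_right : U ⊓ W x.1 ≤ W x.1) (res N inf_le_left m)
  rw [← app_res, ← app_res, ha, Scheme.Modules.Hom.app_smul, Scheme.Modules.Hom.app_smul, app_res,
    app_res, heq]

/-- Multiplications by two sections commute. -/
theorem mulSec_comm (hM : PicF.IsInvertible M) (hL : PicF.IsInvertible L) (σ τ : Γ(L, ⊤)) :
    mulSec M σ ≫ mulSec (CohB1.tensorMod M L) τ = mulSec M τ ≫ mulSec (CohB1.tensorMod M L) σ := by
  refine hom_ext_of_gen _ _ fun x => ?_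
  obtain ⟨U, g, hxU, hg⟩ := exists_isGen hM x
  obtain ⟨V, e, hxV, he⟩ := exists_isGen hL x
  have he' := he.restrict (inf_le_right : U ⊓ V ≤ V)
  obtain ⟨u, hu, -⟩ := he'.exists_eq le_rfl (res L (le_top : U ⊓ V ≤ ⊤) σ)
  obtain ⟨v, hv, -⟩ := he'.exists_eq le_rfl (res L (le_top : U ⊓ V ≤ ⊤) τ)
  rw [res_self] at hu hv
  refine ⟨U ⊓ V, res M inf_le_left g, ⟨hxU, hxV⟩, hg.restrict _, ?_⟩
  have h1 := mulSec_app_smul (M := M) hu 1 (res M (inf_le_left : U ⊓ V ≤ U) g)
  have h2 := mulSec_app_smul (M := M) hv 1 (res M (inf_le_left : U ⊓ V ≤ U) g)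
  rw [one_smul, one_mul] at h1 h2
  show (mulSec (CohB1.tensorMod M L) τ).app _ ((mulSec M σ).app _ _) =
    (mulSec (CohB1.tensorMod M L) σ).app _ ((mulSec M τ).app _ _)
  rw [h1, h2, mulSec_app_smul hv, mulSec_app_smul hu, mul_comm]

end Groth.Agent.VBLib.MulSec

end
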