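import Groth.Agent.VBLib.Deg
import Mathlib.Data.Nat.Factorial.Basic
import Mathlib.Tactic.Linarith

/-!
# Slope semistability on a curve
-/

universe u

open CategoryTheory AlgebraicGeometry Limits

set_option linter.style.haveILetI false

namespace Groth.Agent.VBLib

variable {k : Type u} [Field k] {X : Scheme.{u}} [X.Over (Spec (CommRingCat.of k))] [IsIntegral X]

variable (k) in
/-- Semistability, tested on subbundles. -/
def SS (E : X.Modules) : Prop :=
  ∀ (G : X.Modules) (i : G ⟶ E), Mono i → FlatMod.IsFinLocFree G → 0 < rk G →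
    dg k G * (rk E : ℤ) ≤ dg k E * (rk G : ℤ)

variable (k) in
/-- Stability, tested on subbundles of smaller rank. -/
def Stable (E : X.Modules) : Prop :=
  ∀ (G : X.Modules) (i : G ⟶ E), Mono i → FlatMod.IsFinLocFree G → 0 < rk G → rk G < rk E →
    dg k G * (rk E : ℤ) < dg k E * (rk G : ℤ)

variable (hX : GoodCurve k X)
include hX

lemma GoodCurve.ss_of_stable {E : X.Modules} (hE : FlatMod.IsFinLocFree E) (h : Stable k E) :
    SS k E := by
  intro G i hi hG hpos
  rcases (rk_le_of_mono i (isCoh_of_isFinLocFree hE)).lt_or_eq with hlt | heq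
  · exact (h G i hi hG hpos hlt).le
  · rw [heq]
    exact mul_le_mul_of_nonneg_right
      (hX.dg_le_of_mono i (isCoh_of_isFinLocFree hG) (isCoh_of_isFinLocFree hE) heq).1
      (Int.natCast_nonneg _)

/-- The degree and rank are invariant under isomorphism. -/
theorem GoodCurve.dg_iso {M N : X.Modules} (e : M ≅ N) (hM : Coh.IsCoh M) (hN : Coh.IsCoh N) :
    dg k M = dg k N ∧ rk M = rk N := by
  have hr : rk M = rk N := le_antisymm (rk_le_of_mono e.hom hN) (rk_le_of_mono e.inv hM)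
  exact ⟨le_antisymm (hX.dg_le_of_mono e.hom hM hN hr).1 (hX.dg_le_of_mono e.inv hN hM hr.symm).1, hr⟩

/-- A zero module has degree zero. -/
theorem GoodCurve.dg_eq_zero_of_isZero {M : X.Modules} (hM : Coh.IsCoh M) (hz : IsZero M) :
    dg k M = 0 := by
  obtain ⟨h1, -⟩ := hX.dg_mono_cokernel (𝟙 M) hM hM
  have hC : IsZero (cokernel (𝟙 M)) := isZero_cokernel_of_epi _
  have h2 := (hX.dg_iso (hz.iso hC) hM (isCoh_cokernel _ hM hM)).1
  omega

omit hX in
lemma mono_of_rk_kernel {E F : X.Modules} (f : E ⟶ F) (hK : FlatMod.IsFinLocFree (kernel f))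
    (h : rk (kernel f) = 0) : Mono f :=
  Preadditive.mono_of_isZero_kernel f (isZero_of_rk_eq_zero hK h)

omit hX in
lemma eq_zero_of_rk_image {E F : X.Modules} (f : E ⟶ F) (hI : FlatMod.IsFinLocFree (Abelian.image f))
    (h : rk (Abelian.image f) = 0) : f = 0 := by
  rw [← Abelian.image.fac f, (isZero_of_rk_eq_zero hI h).eq_of_tgt (Abelian.factorThruImage f) 0,
    zero_comp]

/-- The image of a map out of a semistable bundle has slope at least that of the bundle. -/
theorem GoodCurve.slope_image {E F : X.Modules} (f : E ⟶ F) (hE : FlatMod.IsFinLocFree E)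
    (hF : Coh.IsCoh F) (hss : SS k E) :
    dg k E * (rk (Abelian.image f) : ℤ) ≤ dg k (Abelian.image f) * (rk E : ℤ) := by
  haveI := hX.isLocallyNoetherian
  have hK := isFinLocFree_kernel hX.pid f hE hF
  obtain ⟨h1, h2⟩ := hX.dg_kernel_image f (isCoh_of_isFinLocFree hE) hF
  rcases Nat.eq_zero_or_pos (rk (kernel f)) with h0 | hpos
  · have : dg k (kernel f) = 0 := hX.dg_eq_zero_of_isZero (isCoh_of_isFinLocFree hK) (isZero_of_rk_eq_zero hK h0)
    rw [h1, h2, h0, this]
    simp [mul_comm]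
  · have := hss (kernel f) (kernel.ι f) inferInstance hK hpos
    rw [h1, h2] at this ⊢
    push_cast at this ⊢
    linarith

/-- No maps from a semistable bundle to a bundle of smaller maximal slope. -/
theorem GoodCurve.hom_eq_zero {E F : X.Modules} (hE : FlatMod.IsFinLocFree E)
    (hF : FlatMod.IsFinLocFree F) (hss : SS k E)
    (hlt : ∀ (G : X.Modules) (i : G ⟶ F), Mono i → FlatMod.IsFinLocFree G → 0 < rk G →
      dg k G * (rk E : ℤ) < dg k E * (rk G : ℤ)) (f : E ⟶ F) : f = 0 := by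
  haveI := hX.isLocallyNoetherian
  have hI := isFinLocFree_image hX.pid f (isCoh_of_isFinLocFree hE) hF
  refine eq_zero_of_rk_image f hI (by_contra fun hne => ?_)
  have h1 := hlt _ (Abelian.image.ι f) inferInstance hI (Nat.pos_of_ne_zero hne)
  have h2 := hX.slope_image f hE (isCoh_of_isFinLocFree hF) hss
  exact (h1.trans_le h2).false

/-- Nonzero maps between semistable bundles of equal slope, one of them stable, are isomorphisms
when the bundles have the same rank or both are stable. -/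
theorem GoodCurve.isIso_of_stable {E F : X.Modules} (hE : FlatMod.IsFinLocFree E)
    (hF : FlatMod.IsFinLocFree F) (hE' : SS k E) (hF' : SS k F)
    (hst : (Stable k E ∧ Stable k F) ∨ ((Stable k E ∨ Stable k F) ∧ rk E = rk F))
    (hμ : dg k E * (rk F : ℤ) = dg k F * (rk E : ℤ)) (f : E ⟶ F) (hf : f ≠ 0) : IsIso f := by
  haveI := hX.isLocallyNoetherian
  have hEc := isCoh_of_isFinLocFree hE
  have hFc := isCoh_of_isFinLocFree hF
  have hI := isFinLocFree_image hX.pid f hEc hF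
  have hK := isFinLocFree_kernel hX.pid f hE hFc
  obtain ⟨h1, h2⟩ := hX.dg_kernel_image f hEc hFc
  have hIpos : 0 < rk (Abelian.image f) :=
    Nat.pos_of_ne_zero fun h => hf (eq_zero_of_rk_image f hI h)
  have hIle := rk_le_of_mono (Abelian.image.ι f) hFc
  have a1 := hX.slope_image f hE hFc hE'
  have a2 := hF' _ (Abelian.image.ι f) inferInstance hI hIpos
  have a1' := mul_le_mul_of_nonneg_right a1 (Int.natCast_nonneg (rk F))
  have a2' := mul_le_mul_of_nonneg_right a2 (Int.natCast_nonneg (rk E))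
  have hμ' := congrArg (fun z : ℤ => z * (rk (Abelian.image f) : ℤ)) hμ
  have key1 : Stable k E → rk (kernel f) = 0 := by
    intro hs
    by_contra hne
    have hKpos := Nat.pos_of_ne_zero hne
    have h3 := hs _ (kernel.ι f) inferInstance hK hKpos (by omega)
    have hFpos : (0 : ℤ) < (rk F : ℤ) := by exact_mod_cast (by omega : 0 < rk F)
    have h3' := mul_lt_mul_of_pos_right h3 hFpos
    rw [h2] at h3' a1' a2' hμ'
    rw [h1] at h3' a1' hμ'
    push_cast at h3' a1' a2' hμ'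
    linarith
  have key2 : Stable k F → rk (Abelian.image f) = rk F := by
    intro hs
    by_contra hne
    have h3 := hs _ (Abelian.image.ι f) inferInstance hI hIpos (by omega)
    have hEpos : (0 : ℤ) < (rk E : ℤ) := by exact_mod_cast (by omega : 0 < rk E)
    have h3' := mul_lt_mul_of_pos_right h3 hEpos
    linarith
  have hrk : rk (kernel f) = 0 ∧ rk E = rk F := by
    rcases hst with ⟨hs1, hs2⟩ | ⟨hs, hr⟩
    · exact ⟨key1 hs1, by have := key1 hs1; have := key2 hs2; omega⟩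
    · refine ⟨?_, hr⟩
      rcases hs with hs | hs
      · exact key1 hs
      · have := key2 hs; omega
  haveI := mono_of_rk_kernel f hK hrk.1
  refine (hX.dg_le_of_mono f hEc hFc hrk.2).2 ?_
  have hpos : (0 : ℤ) < (rk E : ℤ) := by exact_mod_cast (by omega : 0 < rk E)
  rw [← hrk.2] at hμ
  exact mul_right_cancel₀ hpos.ne' hμ

/-- The preimage of a subsheaf of a quotient. -/
theorem GoodCurve.exists_preimage {E C Q : X.Modules} (g : E ⟶ C) [Epi g] (j : Q ⟶ C) [Mono j]
    (hE : FlatMod.IsFinLocFree E) (hC : Coh.IsCoh C) (hQ : Coh.IsCoh Q) :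
    ∃ (P : X.Modules) (i : P ⟶ E), Mono i ∧ FlatMod.IsFinLocFree P ∧
      dg k P + dg k C = dg k E + dg k Q ∧ rk P + rk C = rk E + rk Q := by
  haveI := hX.isLocallyNoetherian
  have hEc := isCoh_of_isFinLocFree hE
  have hD := isCoh_cokernel j hQ hC
  obtain ⟨c1, c2⟩ := hX.dg_mono_cokernel j hQ hC
  let q := g ≫ cokernel.π j
  let S := ShortComplex.mk (kernel.ι q) q (kernel.condition q)
  haveI : Epi q := epi_comp g (cokernel.π j)
  have hS : S.ShortExact := { exact := S.exact_of_f_is_kernel (kernelIsKernel q) }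
  have h1 := hX.dg_add hS (isCoh_kernel q hEc hD) hEc hD
  have h2 := rk_add hS hEc
  refine ⟨kernel q, kernel.ι q, inferInstance, isFinLocFree_kernel hX.pid q hE hD, ?_, ?_⟩
  · simp only [S] at h1; omega
  · simp only [S] at h2; omega

/-- Among the subbundles of positive rank one has maximal slope and, among those, maximal rank. -/
theorem GoodCurve.exists_max_slope {E : X.Modules} (hE : FlatMod.IsFinLocFree E) (hr : 0 < rk E) :
    ∃ (E₁ : X.Modules) (i₁ : E₁ ⟶ E), Mono i₁ ∧ FlatMod.IsFinLocFree E₁ ∧ 0 < rk E₁ ∧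
      ∀ (G : X.Modules) (j : G ⟶ E), Mono j → FlatMod.IsFinLocFree G → 0 < rk G →
        dg k G * (rk E₁ : ℤ) ≤ dg k E₁ * (rk G : ℤ) ∧
          (dg k G * (rk E₁ : ℤ) = dg k E₁ * (rk G : ℤ) → rk G ≤ rk E₁) := by
  have hEc := isCoh_of_isFinLocFree hE
  obtain ⟨N, hN⟩ := hX.dg_bddAbove hEc
  let r := rk E
  let L : ℕ := r.factorial
  let key : ℤ → ℕ → ℤ := fun d n => d * ((L / n : ℕ) : ℤ) * ((r : ℤ) + 1) + (n : ℤ)
  let P : ℤ → Prop := fun z => ∃ (G : X.Modules) (i : G ⟶ E), Mono i ∧ FlatMod.IsFinLocFree G ∧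
    0 < rk G ∧ key (dg k G) (rk G) = z
  have hbdd : ∃ b, ∀ z, P z → z ≤ b := by
    refine ⟨max N 0 * (L : ℤ) * ((r : ℤ) + 1) + r, ?_⟩
    rintro z ⟨G, i, hi, hG, -, rfl⟩
    have h1 : dg k G ≤ max N 0 := (hN G i hi (isCoh_of_isFinLocFree hG)).trans (le_max_left _ _)
    have h2 : ((L / rk G : ℕ) : ℤ) ≤ (L : ℤ) := by exact_mod_cast Nat.div_le_self _ _
    have h3 : (rk G : ℤ) ≤ (r : ℤ) := by exact_mod_cast rk_le_of_mono i hEc
    have h4 : dg k G * ((L / rk G : ℕ) : ℤ) ≤ max N 0 * (L : ℤ) :=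
      (mul_le_mul_of_nonneg_right h1 (Int.natCast_nonneg _)).trans
        (mul_le_mul_of_nonneg_left h2 (le_max_right _ _))
    exact add_le_add (mul_le_mul_of_nonneg_right h4 (by omega)) h3
  obtain ⟨z, ⟨E₁, i₁, hi₁, hE₁, hpos, rfl⟩, hmax⟩ :=
    Int.exists_greatest_of_bdd hbdd ⟨key (dg k E) r, E, 𝟙 E, inferInstance, hE, hr, rfl⟩
  refine ⟨E₁, i₁, hi₁, hE₁, hpos, fun G j hj hG hGpos => ?_⟩
  have hkey := hmax _ ⟨G, j, hj, hG, hGpos, rfl⟩
  have hG' : rk G ≤ r := rk_le_of_mono j hEc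
  have h1' : rk E₁ ≤ r := rk_le_of_mono i₁ hEc
  have hLG : (L : ℤ) = ((L / rk G : ℕ) : ℤ) * (rk G : ℤ) := by
    exact_mod_cast (Nat.div_mul_cancel (Nat.dvd_factorial hGpos hG')).symm
  have hL1 : (L : ℤ) = ((L / rk E₁ : ℕ) : ℤ) * (rk E₁ : ℤ) := by
    exact_mod_cast (Nat.div_mul_cancel (Nat.dvd_factorial hpos h1')).symm
  have hLpos : (0 : ℤ) < L := by exact_mod_cast r.factorial_pos
  simp only [key] at hkey
  set a := dg k G * ((L / rk G : ℕ) : ℤ) with ha
  set b := dg k E₁ * ((L / rk E₁ : ℕ) : ℤ) with hb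
  have hab : a ≤ b := by
    by_contra hlt
    have h5 : (b + 1) * ((r : ℤ) + 1) ≤ a * ((r : ℤ) + 1) :=
      mul_le_mul_of_nonneg_right (by omega) (by omega)
    have h6 : (rk E₁ : ℤ) ≤ (r : ℤ) := by exact_mod_cast h1'
    have h7 : (0 : ℤ) ≤ (rk G : ℤ) := Int.natCast_nonneg _
    linarith
  have eG : dg k G * (rk E₁ : ℤ) * (L : ℤ) = a * (rk G : ℤ) * (rk E₁ : ℤ) := by rw [hLG, ha]; ring
  have e1 : dg k E₁ * (rk G : ℤ) * (L : ℤ) = b * (rk G : ℤ) * (rk E₁ : ℤ) := by rw [hL1, hb]; ring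
  refine ⟨le_of_mul_le_mul_right ?_ hLpos, fun heq => ?_⟩
  · rw [eG, e1]
    exact mul_le_mul_of_nonneg_right (mul_le_mul_of_nonneg_right hab (Int.natCast_nonneg _))
      (Int.natCast_nonneg _)
  · have h8 := congrArg (fun z : ℤ => z * (L : ℤ)) heq
    simp only [eG, e1] at h8
    have h9 : a = b := mul_right_cancel₀ (by exact_mod_cast hGpos.ne' : (rk G : ℤ) ≠ 0)
      (mul_right_cancel₀ (by exact_mod_cast hpos.ne' : (rk E₁ : ℤ) ≠ 0) h8)
    rw [h9] at hkey
    omega

omit hX in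
/-- Semistability from the form with explicit ranks. -/
lemma ss_of {E : X.Modules} {r : ℕ} (hE : FlatMod.IsFinLocFreeOfRank r E)
    (h : ∀ (G : X.Modules) (r' : ℕ) (i : G ⟶ E), Mono i → 0 < r' → FlatMod.IsFinLocFreeOfRank r' G →
      Curv2.deg k X G r' * (r : ℤ) ≤ Curv2.deg k X E r * (r' : ℤ)) : SS k E := by
  intro G i hi hG hpos
  have := h G (rk G) i hi hpos (ofRank_rk hG)
  rwa [dg_eq hE, ← rk_eq hE] at this

omit hX in
/-- Stability from the form with explicit ranks. -/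
lemma stable_of {E : X.Modules} {r : ℕ} (hE : FlatMod.IsFinLocFreeOfRank r E)
    (h : ∀ (G : X.Modules) (r' : ℕ) (i : G ⟶ E), Mono i → 0 < r' → r' < r → FlatMod.IsFinLocFreeOfRank r' G →
      Curv2.deg k X G r' * (r : ℤ) < Curv2.deg k X E r * (r' : ℤ)) : Stable k E := by
  intro G i hi hG hpos hlt
  have := h G (rk G) i hi hpos (rk_eq hE ▸ hlt) (ofRank_rk hG)
  rwa [dg_eq hE, ← rk_eq hE] at this

omit hX in
/-- Semistability gives back the form with explicit ranks. -/
lemma SS.le {E : X.Modules} (h : SS k E) {r : ℕ} (hE : FlatMod.IsFinLocFreeOfRank r E) {G : X.Modules}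
    {r' : ℕ} (i : G ⟶ E) (hi : Mono i) (hpos : 0 < r') (hG : FlatMod.IsFinLocFreeOfRank r' G) :
    Curv2.deg k X G r' * (r : ℤ) ≤ Curv2.deg k X E r * (r' : ℤ) := by
  have := h G i hi (isFinLocFree_of_ofRank hG) (rk_eq hG ▸ hpos)
  rwa [rk_eq hG, rk_eq hE, ← dg_eq hG, ← dg_eq hE] at this

end Groth.Agent.VBLib
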