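import Groth.Agent.VBLib.Deg
import Mathlib.FieldTheory.IsAlgClosed.Basic
import Mathlib.AlgebraicGeometry.Morphisms.Proper

/-!
# Riemann-Roch in Euler characteristic form
-/

universe u

open CategoryTheory AlgebraicGeometry Limits Opposite

set_option linter.style.haveILetI false

namespace Groth.Agent.VBLib

variable {k : Type u} [Field k] {X : Scheme.{u}} [X.Over (Spec (CommRingCat.of k))]

/-- If every global function is a constant, the structure sheaf has one-dimensional `H⁰`. -/
theorem finrank_H0_structure_eq_one [Nonempty X]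
    (h : Function.Bijective (Coh.toGlobal (X ↘ Spec (CommRingCat.of k)))) :
    Module.finrank k (Coh.HH X (Coh.structureModule X) 0) = 1 := by
  let e : Coh.HH X (Coh.structureModule X) 0 ≃+ Γ(Coh.structureModule X, ⊤) :=
    Sheaf.H.equiv₀ (Coh.toAb (Coh.structureModule X)) isTerminalTop
  let one : Γ(Coh.structureModule X, ⊤) := (1 : Γ(X, ⊤))
  let y := e.symm one
  let φ : k →ₗ[k] Coh.HH X (Coh.structureModule X) 0 := LinearMap.toSpanSingleton k _ y
  have key : ∀ c : k, e (φ c) = (Coh.toGlobal (X ↘ Spec (CommRingCat.of k)) c : Γ(X, ⊤)) := by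
    intro c
    have he : e (c • y) =
        X.presheaf.map (homOfLE (le_refl (⊤ : X.Opens))).op
          (Coh.toGlobal (X ↘ Spec (CommRingCat.of k)) c) • e y :=
      (Sheaf.H.equiv₀_naturality
        (f := Coh.smulAb (Coh.structureModule X) (Coh.toGlobal (X ↘ Spec (CommRingCat.of k)) c))
        isTerminalTop y).symm
    show e (c • y) = _
    rw [he, show e y = one from e.apply_symm_apply one,
      show X.presheaf.map (homOfLE (le_refl (⊤ : X.Opens))).op = 𝟙 _ from X.presheaf.map_id _]
    exact mul_one (M := Γ(X, ⊤)) _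
  have hb : Function.Bijective φ := by
    refine ⟨fun a b hab => h.1 ?_, fun z => ?_⟩
    · exact (key a).symm.trans ((congrArg e hab).trans (key b))
    · obtain ⟨c, hc⟩ := h.2 (e z)
      exact ⟨c, e.injective ((key c).trans hc)⟩
  rw [← (LinearEquiv.ofBijective φ hb).finrank_eq, Module.finrank_self]

/-- Global functions of an integral proper scheme over an algebraically closed field. -/
theorem bijective_toGlobal_of_isAlgClosed [IsAlgClosed k] [IsIntegral X]
    [IsProper (X ↘ Spec (CommRingCat.of k))] :
    Function.Bijective (Coh.toGlobal (X ↘ Spec (CommRingCat.of k))) := by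
  haveI : Nonempty (⊤ : X.Opens) := ⟨⟨Nonempty.some inferInstance, trivial⟩⟩
  letI : Algebra k Γ(X, ⊤) := (Coh.toGlobal (X ↘ Spec (CommRingCat.of k))).toAlgebra
  haveI : Algebra.IsIntegral k Γ(X, ⊤) :=
    algebraMap_isIntegral_iff.mp ((RingHom.isIntegral_of_surjective _
      (ConcreteCategory.bijective_of_isIso (Scheme.ΓSpecIso (CommRingCat.of k)).inv).2).trans _ _
      (isIntegral_appTop_of_universallyClosed (X ↘ Spec (CommRingCat.of k))))
  exact IsAlgClosed.algebraMap_bijective_of_isIntegral (k := k) (K := Γ(X, ⊤))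

variable [IsIntegral X] (hX : GoodCurve k X)
include hX

/-- `χ(O) = 1 - g`. -/
theorem GoodCurve.euler_structure (h : Function.Bijective (Coh.toGlobal (X ↘ Spec (CommRingCat.of k)))) :
    Curv2.euler k X (Coh.structureModule X) = 1 - (Curv2.genus k X : ℤ) := by
  haveI := hX.proper
  haveI : (Coh.structureModule X).IsQuasicoherent := inferInstance
  rw [CurveCoh.euler_eq (Coh.structureModule X) hX.val hX.dim, finrank_H0_structure_eq_one h, Curv2.genus]
  rfl

/-- Riemann-Roch: `h⁰ - h¹ = deg + rk (1 - g)`. -/
theorem GoodCurve.riemannRoch (h : Function.Bijective (Coh.toGlobal (X ↘ Spec (CommRingCat.of k))))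
    {M : X.Modules} (hM : Coh.IsCoh M) :
    (Module.finrank k (Coh.HH X M 0) : ℤ) - Module.finrank k (Coh.HH X M 1) =
      dg k M + rk M * (1 - (Curv2.genus k X : ℤ)) := by
  haveI := hX.proper
  haveI := hM.1
  rw [← CurveCoh.euler_eq M hX.val hX.dim, ← hX.euler_structure h]
  simp only [dg, Curv2.deg]
  ring

/-- The dimension of global sections is monotone on subsheaves. -/
theorem GoodCurve.finrank_H0_le {F E : X.Modules} (i : F ⟶ E) [Mono i] (hE : Coh.IsCoh E) :
    Module.finrank k (Coh.HH X F 0) ≤ Module.finrank k (Coh.HH X E 0) := by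
  haveI := hX.proper
  haveI := hE.1
  haveI := CurveCoh.finite_HH_zero (k := k) E hX.val hX.dim hE
  let S := ShortComplex.mk i (cokernel.π i) (cokernel.condition i)
  have hS : S.ShortExact := { exact := S.exact_of_g_is_cokernel (cokernelIsCokernel i) }
  exact LinearMap.finrank_le_finrank_of_injective (CurveCoh.injective_mapL_zero k hS)

/-- Subbundles have degree bounded by sections. -/
theorem GoodCurve.dg_le_H0 (h : Function.Bijective (Coh.toGlobal (X ↘ Spec (CommRingCat.of k))))
    {F E : X.Modules} (i : F ⟶ E) [Mono i] (hF : Coh.IsCoh F) (hE : Coh.IsCoh E) :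
    dg k F ≤ (Module.finrank k (Coh.HH X E 0) : ℤ) + rk F * ((Curv2.genus k X : ℤ) - 1) := by
  have h1 := hX.riemannRoch h hF
  have h2 := hX.finrank_H0_le i hE
  rw [mul_sub] at h1
  rw [mul_sub]
  omega

end Groth.Agent.VBLib
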