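import Groth.Agent.HomShQC.Stalk

/-!
# Pairings of modules and the induced maps into the sheaf Hom
-/

universe u

open CategoryTheory AlgebraicGeometry Limits Opposite TopologicalSpace
open Groth.Agent.PullStalk.Sky

noncomputable section

namespace Groth.Agent.VBLib.Curry

open Groth.Agent.QCoh

variable {X : Scheme.{u}} {F F' G : X.Modules}
  (B : ∀ U : X.Opens, Γ(F, U) →ₗ[Γ(X, U)] Γ(F', U) →ₗ[Γ(X, U)] Γ(G, U))
  (hB : ∀ (U V : X.Opens) (h : V ≤ U) (m : Γ(F, U)) (m' : Γ(F', U)),
    res G h (B U m m') = B V (res F h m) (res F' h m'))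

include hB

lemma germ_indep {U W W' : X.Opens} (hW : W ≤ U) (hW' : W' ≤ U) (m : Γ(F, U)) (y : X) (hy : y ∈ W)
    (hy' : y ∈ W') (b : Γ(F', W)) (b' : Γ(F', W'))
    (e : germM F' W y hy b = germM F' W' y hy' b') :
    germM G W y hy (B W (res F hW m) b) = germM G W' y hy' (B W' (res F hW' m) b') := by
  obtain ⟨V, hV, i, j, eq⟩ := F'.presheaf.germ_eq y hy hy' b b' e
  rw [← HomShQC.germM_res G i.le y hV, ← HomShQC.germM_res G j.le y hV, hB, hB]
  have e1 : res F i.le (res F hW m) = res F j.le (res F hW' m) := by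
    rw [res_res, res_res]
  rw [e1]
  exact congrArg (fun t => germM G V y hV (B V (res F j.le (res F hW' m)) t)) eq

lemma exists_stalk {U : X.Opens} (m : Γ(F, U)) (y : X) (hy : y ∈ U) :
    ∃ ψ : RefHull.StalkHom F' G y, ∀ (W : X.Opens) (hW : W ≤ U) (hyW : y ∈ W) (b : Γ(F', W)),
      ψ (germM F' W y hyW b) = germM G W y hyW (B W (res F hW m) b) := by
  have hrep : ∀ v : F'.presheaf.stalk y, ∃ (W : X.Opens) (_ : W ≤ U) (hyW : y ∈ W) (b : Γ(F', W)),
      germM F' W y hyW b = v := fun v => by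
    obtain ⟨W, hW, b, rfl⟩ := exists_germM_eq F' y v
    exact ⟨W ⊓ U, inf_le_right, ⟨hW, hy⟩, res F' inf_le_left b, HomShQC.germM_res F' _ y _ b⟩
  choose Wv hWv hyv bv hbv using hrep
  let g : F'.presheaf.stalk y → G.presheaf.stalk y :=
    fun v => germM G (Wv v) y (hyv v) (B (Wv v) (res F (hWv v) m) (bv v))
  have hg : ∀ (W : X.Opens) (hW : W ≤ U) (hyW : y ∈ W) (b : Γ(F', W)),
      g (germM F' W y hyW b) = germM G W y hyW (B W (res F hW m) b) := fun W hW hyW b =>
    germ_indep B hB _ hW m y _ hyW _ b (hbv _)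
  refine ⟨{ toFun := g, map_add' := fun v w => ?_, map_smul' := fun a v => ?_ }, hg⟩
  · let W := Wv v ⊓ Wv w
    have hW : W ≤ U := inf_le_left.trans (hWv v)
    have hyW : y ∈ W := ⟨hyv v, hyv w⟩
    let b := res F' (inf_le_left : W ≤ Wv v) (bv v)
    let c := res F' (inf_le_right : W ≤ Wv w) (bv w)
    have hb : germM F' W y hyW b = v := (HomShQC.germM_res F' _ y hyW _).trans (hbv v)
    have hc : germM F' W y hyW c = w := (HomShQC.germM_res F' _ y hyW _).trans (hbv w)
    have hbc : germM F' W y hyW (b + c) = v + w := by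
      refine (map_add (F'.presheaf.germ W y hyW).hom b c).trans ?_
      exact congrArg₂ (· + ·) hb hc
    conv_lhs => rw [← hbc]
    conv_rhs => rw [← hb, ← hc]
    rw [hg W hW hyW, hg W hW hyW, hg W hW hyW, map_add]
    exact map_add (G.presheaf.germ W y hyW).hom _ _
  · obtain ⟨Wa, ha, r, rfl⟩ := TopCat.Presheaf.exists_germ_eq X.presheaf a
    let W := Wv v ⊓ Wa
    have hW : W ≤ U := inf_le_left.trans (hWv v)
    have hyW : y ∈ W := ⟨hyv v, ha⟩
    let b := res F' (inf_le_left : W ≤ Wv v) (bv v)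
    have hb : germM F' W y hyW b = v := (HomShQC.germM_res F' _ y hyW _).trans (hbv v)
    rw [RingHom.id_apply, ← HomShQC.germ_rres (inf_le_right : W ≤ Wa) y hyW r]
    refine (congrArg (fun t => g (X.presheaf.germ W y hyW (rres inf_le_right r) • t)) hb.symm).trans ?_
    refine Eq.trans ?_ (congrArg (fun t => X.presheaf.germ W y hyW (rres inf_le_right r) • g t) hb)
    simp only []
    rw [← germM_smul, hg W hW hyW, hg W hW hyW, map_smul, germM_smul]

/-- The value at a point of the linear map attached to a section. -/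
def val {U : X.Opens} (m : Γ(F, U)) (y : U) : RefHull.StalkHom F' G y.1 :=
  (exists_stalk B hB m y.1 y.2).choose

lemma val_germ {U : X.Opens} (m : Γ(F, U)) (y : U) (W : X.Opens) (hW : W ≤ U) (hyW : y.1 ∈ W)
    (b : Γ(F', W)) :
    val B hB m y (germM F' W y.1 hyW b) = germM G W y.1 hyW (B W (res F hW m) b) :=
  (exists_stalk B hB m y.1 y.2).choose_spec W hW hyW b

lemma val_eq {U : X.Opens} (m : Γ(F, U)) (y : U) (f : RefHull.StalkHom F' G y.1)
    (h : ∀ (W : X.Opens) (hW : W ≤ U) (hyW : y.1 ∈ W) (b : Γ(F', W)),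
      f (germM F' W y.1 hyW b) = germM G W y.1 hyW (B W (res F hW m) b)) : val B hB m y = f := by
  refine LinearMap.ext fun v => ?_
  obtain ⟨W, hW, b, rfl⟩ := exists_germM_eq F' y.1 v
  rw [← HomShQC.germM_res F' (inf_le_left : W ⊓ U ≤ W) y.1 ⟨hW, y.2⟩,
    val_germ B hB m y _ inf_le_right, h _ inf_le_right]

lemma isLocSect_val {U : X.Opens} (m : Γ(F, U)) : RefHull.IsLocSect F' G (val B hB m) :=
  fun V i b x => ⟨V, x.2, 𝟙 V, B V (res F i.le m) b, fun y => val_germ B hB m _ V i.le y.2 b⟩

/-- The morphism into the sheaf Hom attached to a pairing. -/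
def hom : F ⟶ RefHull.homSh F' G :=
  ⟨PresheafOfModules.homMk
    { app := fun U => AddCommGrpCat.ofHom (AddMonoidHom.mk'
        (fun m : Γ(F, U.unop) => (⟨val B hB m, isLocSect_val B hB m⟩ : Γ(RefHull.homSh F' G, U.unop)))
        (fun m m' => Subtype.ext <| funext fun y => val_eq B hB _ y _ fun W hW hyW b => by
          show val B hB m y _ + val B hB m' y _ = _
          rw [val_germ B hB m y W hW hyW b, val_germ B hB m' y W hW hyW b]
          refine Eq.trans ?_ (congrArg (fun t => germM G W y.1 hyW (B W t b))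
            (map_add (ConcreteCategory.hom (res F hW)) m m').symm)
          simp only []
          rw [map_add, LinearMap.add_apply]
          exact (map_add (G.presheaf.germ W y.1 hyW).hom _ _).symm))
      naturality := fun {U V} i => by
        ext (m : Γ(F, U.unop))
        refine Subtype.ext (funext fun y => val_eq B hB (res F i.unop.le m) y
          (val B hB m ⟨y.1, i.unop.le y.2⟩) fun W hW hyW b => ?_)
        rw [val_germ B hB m _ W (hW.trans i.unop.le) hyW b, res_res] }
    (fun U (r : Γ(X, U.unop)) (m : Γ(F, U.unop)) => by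
      refine Subtype.ext (funext fun y => val_eq B hB (r • m) y
        (X.presheaf.germ U.unop y.1 y.2 r • val B hB m y) fun W hW hyW b => ?_)
      rw [LinearMap.smul_apply, val_germ B hB m y W hW hyW b, res_smul, map_smul, LinearMap.smul_apply,
        germM_smul, HomShQC.germ_rres])⟩

lemma hom_germ {U : X.Opens} (m : Γ(F, U)) (y : U) (W : X.Opens) (hW : W ≤ U) (hyW : y.1 ∈ W)
    (b : Γ(F', W)) :
    ((hom B hB).app U m).1 y (germM F' W y.1 hyW b) = germM G W y.1 hyW (B W (res F hW m) b) :=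
  val_germ B hB m y W hW hyW b

end Groth.Agent.VBLib.Curry
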