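import Groth.Agent.VBLib.Line
import Groth.Agent.HomShQC.Stalk
import Groth.Agent.EulerChar.Deg
import Groth.Agent.PicLaw.Basic
import Groth.Agent.Omega.Stalks
import Mathlib.RingTheory.LocalRing.Module

/-!
# Duals of vector bundles on a curve: `deg E^∨ = - deg E`
-/

universe u

open CategoryTheory AlgebraicGeometry Limits Opposite TopologicalSpace
open Groth.Agent.PullStalk.Sky Groth.Agent.PullStalk.Exact

set_option linter.style.haveILetI false

namespace Groth.Agent.VBLib.DualDeg

variable {X : Scheme.{u}}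

/-- Precomposition on linear forms. -/
noncomputable def dualFun {A B : X.Modules} (g : A ⟶ B) (U : X.Opens) :
    Γ(RefHull.dual B, U) →+ Γ(RefHull.dual A, U) where
  toFun h := ⟨fun x => (h.1 x).comp (RefHull.stalkMapₗ g x.1), fun V i m x => by
    obtain ⟨W, hW, j, n, w⟩ := RefHull.isLocSect_of_mem h V i (g.app V m) x
    refine ⟨W, hW, j, n, fun y => ?_⟩
    rw [LinearMap.comp_apply, RefHull.stalkMapₗ_germ]
    exact w y⟩
  map_zero' := Subtype.ext <| funext fun _ => LinearMap.zero_comp _
  map_add' _ _ := Subtype.ext <| funext fun _ => LinearMap.add_comp _ _ _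

/-- The dual of a morphism. -/
noncomputable def dualMap {A B : X.Modules} (g : A ⟶ B) : RefHull.dual B ⟶ RefHull.dual A :=
  ⟨PresheafOfModules.homMk
    { app := fun U => AddCommGrpCat.ofHom (dualFun g U.unop)
      naturality := fun {U V} i => by ext h; rfl }
    (fun U r h => Subtype.ext <| funext fun x => LinearMap.smul_comp _ _ _)⟩

lemma evalStalk_dualMap {A B : X.Modules} (g : A ⟶ B) (x : X) (θ : (RefHull.dual B).presheaf.stalk x) :
    RefHull.evalStalk A (Coh.structureModule X) x (stalkLin (dualMap g) x θ) =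
      (RefHull.evalStalk B (Coh.structureModule X) x θ).comp (stalkLin g x) := by
  obtain ⟨U, hx, h, rfl⟩ := exists_germM_eq (RefHull.dual B) x θ
  rw [stalkLin_germ]
  refine (RefHull.evalStalk_germ A (Coh.structureModule X) x hx _).trans ?_
  refine Eq.trans ?_ (congrArg (fun l => LinearMap.comp l (stalkLin g x))
    (RefHull.evalStalk_germ B (Coh.structureModule X) x hx h).symm)
  rfl

lemma dualMap_comp {A B C : X.Modules} (f : A ⟶ B) (g : B ⟶ C) :
    dualMap (f ≫ g) = dualMap g ≫ dualMap f := by
  ext U h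
  refine Subtype.ext (funext fun x => ?_)
  show (h.1 x).comp (RefHull.stalkMapₗ (f ≫ g) x.1) =
    ((h.1 x).comp (RefHull.stalkMapₗ g x.1)).comp (RefHull.stalkMapₗ f x.1)
  refine LinearMap.ext fun t => congrArg (h.1 x) ?_
  obtain ⟨W, hW, m, rfl⟩ := exists_germM_eq A x.1 t
  rw [RefHull.stalkMapₗ_germ, RefHull.stalkMapₗ_germ, RefHull.stalkMapₗ_germ]
  rfl

/-- The dual of an invertible module is an inverse of it. -/
theorem invertible_dual {L : X.Modules} (hL : PicF.IsInvertible L) :
    PicF.IsInvertible (RefHull.dual L) ∧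
      Nonempty (CohB1.tensorMod L (RefHull.dual L) ≅ Coh.structureModule X) := by
  open Groth.Agent.QCoh Groth.Agent.Props.GenLocus Groth.Agent.Props.GenTensor Groth.Agent.PicLaw in
  refine ⟨AmpleLib.isInvertible_of_exists_isGen fun x =>
    let ⟨U, e, hx, he⟩ := exists_isGen hL x; ⟨U, dualGen he, hx, isGen_dualGen he⟩, ?_⟩
  open Groth.Agent.QCoh Groth.Agent.Props.GenLocus Groth.Agent.Props.GenTensor Groth.Agent.PicLaw in
  refine nonempty_iso_of_transition (fun i : Σ U : X.Opens, {e : Γ(L, U) // IsGen L U e} => i.1)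
    (fun x => let ⟨U, e, hx, he⟩ := exists_isGen hL x; ⟨⟨U, e, he⟩, hx⟩)
    (fun i => tmul i.2.1 (dualGen i.2.2)) (fun i => isGen_tmul i.2.2 (isGen_dualGen i.2.2))
    (fun i => one' i.1) (fun i => isGen_one _) ?_
  open Groth.Agent.QCoh Groth.Agent.Props.GenLocus Groth.Agent.Props.GenTensor Groth.Agent.PicLaw in
  rintro ⟨U, e, he⟩ ⟨U', e', he'⟩ V hi hj
  open Groth.Agent.QCoh Groth.Agent.Props.GenLocus Groth.Agent.Props.GenTensor Groth.Agent.PicLaw in
  obtain ⟨u, hu, -⟩ := he.exists_eq hi (res L hj e')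
  open Groth.Agent.QCoh Groth.Agent.Props.GenLocus Groth.Agent.Props.GenTensor Groth.Agent.PicLaw in
  obtain ⟨w, hw, -⟩ := he'.exists_eq hj (res L hi e)
  open Groth.Agent.QCoh Groth.Agent.Props.GenLocus Groth.Agent.Props.GenTensor Groth.Agent.PicLaw in
  have huw : w * u = 1 := he.injective hi (by rw [mul_smul, ← hu, ← hw, one_smul])
  open Groth.Agent.QCoh Groth.Agent.Props.GenLocus Groth.Agent.Props.GenTensor Groth.Agent.PicLaw in
  have hd : res _ hj (dualGen he') = w • res (RefHull.homSh L (Coh.structureModule X)) hi (dualGen he) := by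
    refine eq_of_eval he' hj _ _ fun y => ?_
    rw [smul_apply, res_dualGen_apply, res_dualGen_apply, dualAt_gen he' ⟨y.1, hj y.2⟩,
      ← germM_res' L hj y.1 y.2 e', hu, germM_smul, map_smul, LinearMap.smul_apply, smul_smul,
      germM_res', dualAt_gen he ⟨y.1, hi y.2⟩, ← map_mul, mul_comm, huw, map_one, one_smul,
      ← germM_res' _ hj y.1 y.2, ← germM_res' _ hi y.1 y.2, res_one', res_one']
  open Groth.Agent.QCoh Groth.Agent.Props.GenLocus Groth.Agent.Props.GenTensor Groth.Agent.PicLaw in
  refine ⟨1, ?_, by rw [one_smul, res_one', res_one']⟩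
  open Groth.Agent.QCoh Groth.Agent.Props.GenLocus Groth.Agent.Props.GenTensor Groth.Agent.PicLaw in
  dsimp only
  open Groth.Agent.QCoh Groth.Agent.Props.GenLocus Groth.Agent.Props.GenTensor Groth.Agent.PicLaw in
  rw [res_tmul, res_tmul, hu, hd, tmul_smul_left, tmul_smul_right, smul_smul, mul_comm, huw]

/-- Linear forms extend along split injections. -/
lemma exists_comp_eq {R A B C G : Type*} [CommRing R] [AddCommGroup A] [AddCommGroup B] [AddCommGroup C]
    [AddCommGroup G] [Module R A] [Module R B] [Module R C] [Module R G] [Module.Projective R C]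
    (f : A →ₗ[R] B) (g : B →ₗ[R] C) (hf : Function.Injective f) (h : Function.Exact f g)
    (hg : Function.Surjective g) (θ : A →ₗ[R] G) : ∃ ψ : B →ₗ[R] G, ψ.comp f = θ := by
  obtain ⟨s, hs⟩ := Module.projective_lifting_property g LinearMap.id hg
  let p : B →ₗ[R] LinearMap.range f := LinearMap.codRestrict _ (LinearMap.id - s.comp g) fun y => by
    refine (h _).mp ?_
    show g (y - s (g y)) = 0
    rw [map_sub, show g (s (g y)) = g y from LinearMap.congr_fun hs (g y), sub_self]
  refine ⟨θ.comp ((LinearEquiv.ofInjective f hf).symm.toLinearMap.comp p), LinearMap.ext fun a => ?_⟩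
  refine congrArg θ ?_
  show (LinearEquiv.ofInjective f hf).symm (p (f a)) = a
  rw [LinearEquiv.symm_apply_eq]
  refine Subtype.ext ?_
  show f a - s (g (f a)) = f a
  rw [h.apply_apply_eq_zero a, map_zero, sub_zero]

variable [IsLocallyNoetherian X]

lemma bijective_evalStalk {F : X.Modules} (hF : Coh.IsCoh F) (x : X) :
    Function.Bijective (RefHull.evalStalk F (Coh.structureModule X) x) :=
  HomShQC.evalStalk_bijective F _ (HomShQC.isFP_of_isCoh F hF) x

/-- The dual sequence of a short exact sequence with locally free quotient. -/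
theorem shortExact_dual {S : ShortComplex X.Modules} (hS : S.ShortExact) (h₁ : Coh.IsCoh S.X₁)
    (h₂ : Coh.IsCoh S.X₂) (h₃ : FlatMod.IsFinLocFree S.X₃) (w : dualMap S.g ≫ dualMap S.f = 0) :
    (ShortComplex.mk (dualMap S.g) (dualMap S.f) w).ShortExact := by
  have h₃c := isCoh_of_isFinLocFree h₃
  haveI := h₃c.1
  have key : ∀ x : X, Function.Injective (stalkLin (dualMap S.g) x) ∧
      Function.Exact (stalkLin (dualMap S.g) x) (stalkLin (dualMap S.f) x) ∧
      Function.Surjective (stalkLin (dualMap S.f) x) := by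
    intro x
    obtain ⟨hi, he, hs⟩ := stalk_exact hS x
    obtain ⟨b₁, b₁'⟩ := bijective_evalStalk h₁ x
    obtain ⟨b₂, b₂'⟩ := bijective_evalStalk h₂ x
    obtain ⟨b₃, b₃'⟩ := bijective_evalStalk h₃c x
    haveI := (Props.QProj.free_stalk S.X₃ h₃ x).1
    haveI : Module.Projective (X.presheaf.stalk x) (S.X₃.presheaf.stalk x) := inferInstance
    refine ⟨fun a b hab => b₃ ?_, fun t => ⟨fun ht => ?_, ?_⟩, fun t => ?_⟩
    · refine LinearMap.ext fun c => ?_
      obtain ⟨c, rfl⟩ := hs c
      have := congrArg (RefHull.evalStalk S.X₂ (Coh.structureModule X) x) hab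
      rw [evalStalk_dualMap, evalStalk_dualMap] at this
      exact LinearMap.congr_fun this c
    · have h1 := congrArg (RefHull.evalStalk S.X₁ (Coh.structureModule X) x) ht
      rw [evalStalk_dualMap, map_zero] at h1
      have h2 : Function.Exact ((stalkLin S.g x).lcomp (X.presheaf.stalk x) ((Coh.structureModule X).presheaf.stalk x))
          ((stalkLin S.f x).lcomp (X.presheaf.stalk x) ((Coh.structureModule X).presheaf.stalk x)) :=
        LinearMap.exact_lcomp_of_exact_of_surjective _ he hs
      obtain ⟨ψ, hψ⟩ := (h2 _).mp h1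
      obtain ⟨θ, rfl⟩ := b₃' ψ
      exact ⟨θ, b₂ ((evalStalk_dualMap S.g x θ).trans hψ)⟩
    · rintro ⟨θ, rfl⟩
      apply b₁
      rw [evalStalk_dualMap, evalStalk_dualMap, map_zero]
      refine LinearMap.ext fun a => ?_
      show RefHull.evalStalk S.X₃ (Coh.structureModule X) x θ (stalkLin S.g x (stalkLin S.f x a)) = 0
      rw [he.apply_apply_eq_zero a, map_zero]
    · obtain ⟨ψ, hψ⟩ := exists_comp_eq _ _ hi he hs (RefHull.evalStalk S.X₁ (Coh.structureModule X) x t)
      obtain ⟨θ, rfl⟩ := b₂' ψ
      exact ⟨θ, b₁ ((evalStalk_dualMap S.f x θ).trans hψ)⟩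
  exact
    { exact := Omega.Stalks.exact_of_stalk _ fun x t ht => ((key x).2.1 t).mp ht
      mono_f := Omega.Stalks.mono_of_stalk fun x => (key x).1
      epi_g := Omega.Stalks.epi_of_stalk fun x => (key x).2.2 }

variable [IsIntegral X] (hP : ∀ x : X, IsPrincipalIdealRing (X.presheaf.stalk x))
include hP

/-- The dual of a vector bundle is a vector bundle of the same rank. -/
theorem isFinLocFree_dual {E : X.Modules} (hE : FlatMod.IsFinLocFree E) :
    FlatMod.IsFinLocFree (RefHull.dual E) ∧ rk (RefHull.dual E) = rk E := by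
  have hEc := isCoh_of_isFinLocFree hE
  haveI := hEc.1
  have hfp := HomShQC.isFP_of_isCoh E hEc
  refine ⟨isFinLocFree_of_torsionFree hP (HomShQC.isCoh_dual E hEc) fun x =>
    (HomShQC.dualEquiv E hfp x).injective.moduleIsTorsionFree _ (map_smul _), ?_⟩
  haveI := (Props.QProj.free_stalk E hE (genericPoint X)).1
  haveI := finite_stalk hEc (genericPoint X)
  letI : Field (X.presheaf.stalk (genericPoint X)) := inferInstanceAs (Field X.functionField)
  rw [rk, rk, (HomShQC.dualEquiv E hfp (genericPoint X)).finrank_eq, Subspace.dual_finrank_eq]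

end Groth.Agent.VBLib.DualDeg

namespace Groth.Agent.VBLib

variable {k : Type u} [Field k] {X : Scheme.{u}} [X.Over (Spec (CommRingCat.of k))] [IsIntegral X]
  (hX : GoodCurve k X)
include hX

/-- `deg E^∨ = - deg E`. -/
theorem GoodCurve.dg_dual {E : X.Modules} (hE : FlatMod.IsFinLocFree E) :
    dg k (RefHull.dual E) = - dg k E := by
  haveI := hX.isLocallyNoetherian
  haveI := hX.proper
  induction hn : rk E using Nat.strong_induction_on generalizing E with
  | _ n ih =>
    subst hn
    obtain ⟨hD, hDr⟩ := DualDeg.isFinLocFree_dual hX.pid hE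
    have hEc := isCoh_of_isFinLocFree hE
    have hDc := isCoh_of_isFinLocFree hD
    rcases lt_trichotomy (rk E) 1 with h0 | h1 | h2
    · rw [hX.dg_eq_zero_of_isZero hDc (isZero_of_rk_eq_zero hD (by omega)),
        hX.dg_eq_zero_of_isZero hEc (isZero_of_rk_eq_zero hE (by omega)), neg_zero]
    · have hEr : FlatMod.IsFinLocFreeOfRank 1 E := h1 ▸ ofRank_rk hE
      have hDr' : FlatMod.IsFinLocFreeOfRank 1 (RefHull.dual E) := by
        have := ofRank_rk hD
        rwa [hDr, h1] at this
      have hinv : PicF.IsInvertible E := fun x => by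
        obtain ⟨U, hx, ⟨e⟩⟩ := hEr x
        exact ⟨U, hx, ⟨e ≪≫ coproductUniqueIso fun _ : Fin 1 => Coh.structureModule (U : Scheme.{u})⟩⟩
      obtain ⟨-, ⟨e⟩⟩ := DualDeg.invertible_dual hinv
      have h := EulerChar.deg_tens k hEr hX.dim.le hDr'
      have he : Curv2.euler k X (CohDev.tens E (RefHull.dual E)) = Curv2.euler k X (Coh.structureModule X) :=
        EulerChar.euler_iso k e
      simp only [Curv2.deg, he] at h
      simp only [dg, Curv2.deg, hDr, h1]
      push_cast at h ⊢
      linarith
    · let η := genericPoint X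
      letI : Field (X.presheaf.stalk η) := inferInstanceAs (Field X.functionField)
      haveI := finite_stalk hEc η
      haveI : Nontrivial (E.presheaf.stalk η) := Module.nontrivial_of_finrank_pos
        (R := X.presheaf.stalk η) (by show 0 < rk E; omega)
      obtain ⟨v, hv⟩ := exists_ne (0 : E.presheaf.stalk η)
      let V : Submodule (X.presheaf.stalk η) (E.presheaf.stalk η) := Submodule.span (X.presheaf.stalk η) {v}
      haveI := hEc.1
      have hL : FlatMod.IsFinLocFree (genSub V) := hX.sub (genIncl V) (isQuasicoherent_genSub V) hE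
      have hLc := isCoh_of_isFinLocFree hL
      have hQ : FlatMod.IsFinLocFree (cokernel (genIncl V)) :=
        isFinLocFree_of_torsionFree hX.pid (isCoh_cokernel _ hLc hEc) (isTorsionFree_stalk_cokernel V)
      have hL1 : rk (genSub V) = 1 := by rw [rk_genSub]; exact finrank_span_singleton hv
      obtain ⟨d1, r1⟩ := hX.dg_mono_cokernel (genIncl V) hLc hEc
      let S := ShortComplex.mk (genIncl V) (cokernel.π (genIncl V)) (cokernel.condition _)
      have hS : S.ShortExact := { exact := S.exact_of_g_is_cokernel (cokernelIsCokernel (genIncl V)) }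
      have w : DualDeg.dualMap S.g ≫ DualDeg.dualMap S.f = 0 := by
        rw [← DualDeg.dualMap_comp, S.zero]
        ext U h
        refine Subtype.ext (funext fun x => LinearMap.ext fun t => ?_)
        show h.1 x (RefHull.stalkMapₗ (0 : S.X₁ ⟶ S.X₃) x.1 t) = 0
        obtain ⟨W, hW, m, rfl⟩ := exists_germM_eq S.X₁ x.1 t
        rw [RefHull.stalkMapₗ_germ]
        exact (congrArg (h.1 x) (map_zero (S.X₃.presheaf.germ W x.1 hW).hom)).trans (map_zero _)
      have hd := DualDeg.shortExact_dual hS hLc hEc hQ w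
      have e := hX.dg_add hd (HomShQC.isCoh_dual _ (isCoh_of_isFinLocFree hQ)) (HomShQC.isCoh_dual _ hEc)
        (HomShQC.isCoh_dual _ hLc)
      have i1 := ih _ (by omega) hL rfl
      have i2 := ih _ (by omega) hQ rfl
      simp only [S] at e
      omega

end Groth.Agent.VBLib
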