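import Groth.Agent.VBLib.DualDeg
import Groth.Agent.KFlat.TensorLocFree
import Groth.Agent.ProjTwist.Tensor
import Groth.Agent.AmpleLib.Basic

/-!
# Tensoring vector bundles on a curve with line bundles
-/

universe u

open CategoryTheory AlgebraicGeometry Limits Opposite

set_option linter.style.haveILetI false

noncomputable section

namespace Groth.Agent.VBLib

variable {X : Scheme.{u}}

/-- The tensor product of modules locally free of ranks `r` and `m` is locally free of rank `r m`. -/
theorem ofRank_tensor {M N : X.Modules} {r m : ℕ} (hM : FlatMod.IsFinLocFreeOfRank r M)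
    (hN : FlatMod.IsFinLocFreeOfRank m N) : FlatMod.IsFinLocFreeOfRank (r * m) (CohB1.tensorMod M N) :=
  fun x => by
  obtain ⟨U, hU, ⟨e⟩⟩ := hM x
  obtain ⟨U', hU', ⟨e'⟩⟩ := hN x
  obtain ⟨a⟩ := KFlat.TensorLocFree.restrict_freeOn_mono (inf_le_left : U ⊓ U' ≤ U) e
  obtain ⟨b⟩ := KFlat.TensorLocFree.restrict_freeOn_mono (inf_le_right : U ⊓ U' ≤ U') e'
  obtain ⟨c⟩ := KFlat.TensorLocFree.exists_free_tensor (X := (U ⊓ U' : X.Opens)) r m
  rw [finsum_eq_sum_of_fintype, Finset.sum_const, Finset.card_univ, Fintype.card_fin, smul_eq_mul] at c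
  exact ⟨U ⊓ U', ⟨hU, hU'⟩, ⟨KFlat.TensorLocFree.restrictTensorIso M N _ ≪≫
    ((ModSite.tensorBi (U ⊓ U' : X.Opens).toScheme.sheaf).mapIso a).app _ ≪≫
    ((ModSite.tensorBi (U ⊓ U' : X.Opens).toScheme.sheaf).obj _).mapIso b ≪≫ c⟩⟩

/-- Tensoring with an invertible module preserves monomorphisms. -/
theorem exists_mono_tensor {L A B : X.Modules} (hL : PicF.IsInvertible L) (i : A ⟶ B) [Mono i] :
    ∃ i' : CohB1.tensorMod A L ⟶ CohB1.tensorMod B L, Mono i' := by
  let S := ShortComplex.mk i (cokernel.π i) (cokernel.condition i)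
  have hS : S.ShortExact := { exact := S.exact_of_g_is_cokernel (cokernelIsCokernel i) }
  exact ⟨_, (ProjTwist.shortExact_tensor hL hS).mono_f⟩

/-- Tensoring with an invertible module preserves epimorphisms. -/
theorem exists_epi_tensor {L A B : X.Modules} (hL : PicF.IsInvertible L) (q : A ⟶ B) [Epi q] :
    ∃ q' : CohB1.tensorMod A L ⟶ CohB1.tensorMod B L, Epi q' := by
  let S := ShortComplex.mk (kernel.ι q) q (kernel.condition q)
  have hS : S.ShortExact := { exact := S.exact_of_f_is_kernel (kernelIsKernel q) }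
  exact ⟨_, (ProjTwist.shortExact_tensor hL hS).epi_g⟩

variable {k : Type u} [Field k] [X.Over (Spec (CommRingCat.of k))] [IsIntegral X] (hX : GoodCurve k X)
include hX

/-- The degree and the rank of the twist of a bundle by a line bundle. -/
theorem GoodCurve.dg_tensor_line {E L : X.Modules} (hE : FlatMod.IsFinLocFree E) (hL : PicF.IsInvertible L) :
    FlatMod.IsFinLocFree (CohB1.tensorMod E L) ∧ rk (CohB1.tensorMod E L) = rk E ∧
      dg k (CohB1.tensorMod E L) = dg k E + rk E * dg k L := by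
  haveI := hX.proper
  have hEr := ofRank_rk hE
  have hLr := ofRank_one_of_invertible hL
  have h := ofRank_tensor hEr hLr
  have hd := EulerChar.deg_tens k hEr hX.dim.le hLr
  rw [mul_one] at h
  refine ⟨isFinLocFree_of_ofRank h, rk_eq h, ?_⟩
  rw [← dg_eq h, ← dg_eq hLr]
  simp only [mul_one, Nat.cast_one, one_mul] at hd
  simp only [dg]
  refine hd.trans ?_
  ring

/-- Degree bounds on sub line bundles move with twists. -/
theorem GoodCurve.lines_tensor {E L : X.Modules} (hL : PicF.IsInvertible L)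
    (a : ℤ) (h : ∀ (M : X.Modules) (i : M ⟶ E), Mono i → FlatMod.IsFinLocFree M → rk M = 1 → dg k M ≤ a)
    (M : X.Modules) (i : M ⟶ CohB1.tensorMod E L) (hi : Mono i) (hM : FlatMod.IsFinLocFree M)
    (h1 : rk M = 1) : dg k M ≤ a + dg k L := by
  haveI := hX.isLocallyNoetherian
  obtain ⟨hD, ⟨e⟩⟩ := DualDeg.invertible_dual hL
  obtain ⟨i', hi'⟩ := exists_mono_tensor hD i
  haveI := hi'
  let φ : CohB1.tensorMod (CohB1.tensorMod E L) (RefHull.dual L) ≅ E :=
    ProjTwist.tensAssoc E L (RefHull.dual L) ≪≫ ProjTwist.tensCongr (Iso.refl E) e ≪≫ ProjTwist.tensOne E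
  obtain ⟨hf, hr, hd⟩ := hX.dg_tensor_line hM hD
  have := h _ (i' ≫ φ.hom) inferInstance hf (hr.trans h1)
  rw [hd, hX.dg_dual (isFinLocFree_of_ofRank (ofRank_one_of_invertible hL)), h1] at this
  push_cast at this
  omega

end Groth.Agent.VBLib
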