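import Groth.Agent.VBLib.HomOne
import Groth.Agent.VBLib.TwistLine
import Groth.Agent.ExtFilt.Stalkwise
import Groth.Agent.KFlat.StalkTensor
import Groth.Agent.FFCurve.Canonical
import Mathlib.LinearAlgebra.Contraction

/-!
# Serre duality for vector bundles on a curve
-/

universe u

open CategoryTheory CategoryTheory.Limits AlgebraicGeometry TopologicalSpace Opposite TensorProduct
open Groth.Agent.PullStalk.Sky Groth.Agent.PullStalk.Exact Groth.Agent.QCoh
open Groth.Agent.KFlat.StalkTensor Groth.Agent.ExtFilt.Stalkwise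

set_option linter.style.haveILetI false
set_option backward.isDefEq.respectTransparency.types false

noncomputable section

namespace Groth.Agent.VBLib.SerreGen

variable {X : Scheme.{u}} (E W : X.Modules)

/-- The rank one maps, bilinearly. -/
def rankOne (x : X) :
    RefHull.StalkHom E (Coh.structureModule X) x →ₗ[X.presheaf.stalk x]
      W.presheaf.stalk x →ₗ[X.presheaf.stalk x] RefHull.StalkHom E W x :=
  LinearMap.mk₂ _ (fun θ w => LinearMap.smulRight (HomOne.scal x θ) w)
    (fun θ θ' w => LinearMap.ext fun v => by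
      show HomOne.scal x (θ + θ') v • w = HomOne.scal x θ v • w + HomOne.scal x θ' v • w
      rw [← add_smul, HomOne.scal, HomOne.scal, HomOne.scal, LinearMap.comp_add, LinearMap.add_apply])
    (fun r θ w => LinearMap.ext fun v => by
      show HomOne.scal x (r • θ) v • w = r • (HomOne.scal x θ v • w)
      rw [smul_smul, HomOne.scal, HomOne.scal, LinearMap.comp_smul, LinearMap.smul_apply, smul_eq_mul])
    (fun θ w w' => LinearMap.ext fun v => by
      show HomOne.scal x θ v • (w + w') = HomOne.scal x θ v • w + HomOne.scal x θ v • w'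
      rw [smul_add])
    (fun r θ w => LinearMap.ext fun v => by
      show HomOne.scal x θ v • (r • w) = r • (HomOne.scal x θ v • w)
      rw [smul_comm])

lemma bijective_lift_rankOne (x : X) [Module.Free (X.presheaf.stalk x) (E.presheaf.stalk x)]
    [Module.Finite (X.presheaf.stalk x) (E.presheaf.stalk x)] :
    Function.Bijective (TensorProduct.lift (rankOne E W x)) := by
  let e : RefHull.StalkHom E (Coh.structureModule X) x ⊗[X.presheaf.stalk x] W.presheaf.stalk x ≃ₗ[X.presheaf.stalk x]
      RefHull.StalkHom E W x :=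
    (TensorProduct.congr (LinearEquiv.congrRight (HomShEval.Reflexive.structureStalkEquiv x).symm)
      (LinearEquiv.refl _ _)).trans
      (dualTensorHomEquiv (X.presheaf.stalk x) (E.presheaf.stalk x) (W.presheaf.stalk x))
  have h : TensorProduct.lift (rankOne E W x) = e.toLinearMap := TensorProduct.ext' fun θ w => by
    refine LinearMap.ext fun v => ?_
    rfl
  rw [h]
  exact e.bijective

variable [IsLocallyNoetherian X] [IsIntegral X]

/-- `E^∨ ⊗ W ≅ Hom(E, W)`. -/
theorem nonempty_iso (hE : FlatMod.IsFinLocFree E) :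
    Nonempty (CohB1.tensorMod (RefHull.dual E) W ≅ RefHull.homSh E W) := by
  have hEc := isCoh_of_isFinLocFree hE
  haveI := hEc.1
  have hfp := HomShQC.isFP_of_isCoh E hEc
  let ev : ∀ x : X, (RefHull.homSh E W).presheaf.stalk x ≃ₗ[X.presheaf.stalk x] RefHull.StalkHom E W x :=
    fun x => LinearEquiv.ofBijective _ (HomShQC.evalStalk_bijective E W hfp x)
  let dv : ∀ x : X, (RefHull.dual E).presheaf.stalk x ≃ₗ[X.presheaf.stalk x]
      RefHull.StalkHom E (Coh.structureModule X) x :=
    fun x => LinearEquiv.ofBijective _ (HomShQC.evalStalk_bijective E (Coh.structureModule X) hfp x)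
  let φ : ∀ x : X, (tensM (RefHull.dual E) W).presheaf.stalk x →ₗ[X.presheaf.stalk x]
      (RefHull.homSh E W).presheaf.stalk x := fun x =>
    (ev x).symm.toLinearMap ∘ₗ TensorProduct.lift (rankOne E W x) ∘ₗ
      (LinearEquiv.rTensor (W.presheaf.stalk x) (dv x)).toLinearMap ∘ₗ toTensor (RefHull.dual E) W x
  have hloc : ∀ x t, Loc φ x t := by
    intro x t
    rw [← (stalkTensorEquiv (RefHull.dual E) W x).symm_apply_apply t]
    generalize stalkTensorEquiv (RefHull.dual E) W x t = z
    induction z using TensorProduct.induction_on with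
    | zero => rw [map_zero]; exact loc_zero x
    | add p q hp hq => rw [map_add]; exact loc_add hp hq
    | tmul p q =>
      obtain ⟨U, hx, m, g, rfl, rfl⟩ := exists_rep p q
      refine ⟨U, hx, tmulSec U m g, HomOne.tensSec m g, (fromTensor_germ U hx m g).symm, fun y hy => ?_⟩
      show (ev y).symm (TensorProduct.lift (rankOne E W y) ((LinearEquiv.rTensor (W.presheaf.stalk y) (dv y))
        (toTensor (RefHull.dual E) W y (tgerm (RefHull.dual E) W y U hy m g)))) = _
      rw [toTensor_tgerm, LinearEquiv.symm_apply_eq]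
      show LinearMap.smulRight (HomOne.scal y (dv y (germM (RefHull.dual E) U y hy m))) (germM W U y hy g) = _
      refine Eq.trans ?_ (RefHull.evalStalk_germ E W y hy (HomOne.tensSec m g)).symm
      rw [show dv y (germM (RefHull.dual E) U y hy m) = m.1 ⟨y, hy⟩ from RefHull.evalStalk_germ E _ y hy m]
      rfl
  obtain ⟨h, hh⟩ := exists_hom hloc
  haveI : IsIso h := Omega.Stalks.isIso_of_stalk fun x => by
    rw [show ⇑(stalkLin h x) = ⇑(φ x) from funext (hh x)]
    haveI := (Props.QProj.free_stalk E hE x).1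
    haveI := finite_stalk hEc x
    exact (ev x).symm.bijective.comp ((bijective_lift_rankOne E W x).comp
      ((LinearEquiv.rTensor (W.presheaf.stalk x) (dv x)).bijective.comp
        (stalkTensorEquiv (RefHull.dual E) W x).bijective))
  exact ⟨@asIso _ _ _ _ h ‹_›⟩

/-- Evaluation `E → Hom(Hom(E, W), W)` is injective for a line bundle `W`. -/
theorem exists_mono_double (hE : FlatMod.IsFinLocFree E) (hW : FlatMod.IsFinLocFreeOfRank 1 W) :
    ∃ j : E ⟶ RefHull.homSh (RefHull.homSh E W) W, Mono j := by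
  have hEc := isCoh_of_isFinLocFree hE
  haveI := hEc.1
  have hfp := HomShQC.isFP_of_isCoh E hEc
  let B : ∀ U : X.Opens, Γ(E, U) →ₗ[Γ(X, U)] Γ(RefHull.homSh E W, U) →ₗ[Γ(X, U)] Γ(W, U) := fun U =>
    LinearMap.mk₂ Γ(X, U) (fun m g => HomShEval.QCoh.app E W g le_rfl m)
      (fun m m' g => sec_ext fun y hy => by
        rw [HomShEval.QCoh.germ_app]
        refine (congrArg (g.1 ⟨y, hy⟩) (map_add (E.presheaf.germ U y hy).hom m m')).trans ?_
        refine (map_add _ _ _).trans (Eq.trans ?_ (map_add (W.presheaf.germ U y hy).hom _ _).symm)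
        exact congrArg₂ (· + ·) (HomShEval.QCoh.germ_app E W g le_rfl m y hy).symm
          (HomShEval.QCoh.germ_app E W g le_rfl m' y hy).symm)
      (fun r m g => sec_ext fun y hy => by
        rw [HomShEval.QCoh.germ_app, germM_smul, map_smul, germM_smul, HomShEval.QCoh.germ_app])
      (fun m g g' => sec_ext fun y hy => by
        rw [HomShEval.QCoh.germ_app]
        refine Eq.trans ?_ (map_add (W.presheaf.germ U y hy).hom _ _).symm
        exact congrArg₂ (· + ·) (HomShEval.QCoh.germ_app E W g le_rfl m y hy).symm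
          (HomShEval.QCoh.germ_app E W g' le_rfl m y hy).symm)
      (fun r m g => sec_ext fun y hy => by
        rw [HomShEval.QCoh.germ_app, germM_smul, HomShEval.QCoh.germ_app]
        rfl)
  have hB : ∀ (U V : X.Opens) (h : V ≤ U) (m : Γ(E, U)) (g : Γ(RefHull.homSh E W, U)),
      res W h (B U m g) = B V (res E h m) (res (RefHull.homSh E W) h g) := fun U V h m g => sec_ext fun y hy => by
    rw [HomShQC.germM_res]
    show germM W U y (h hy) (HomShEval.QCoh.app E W g le_rfl m) =
      germM W V y hy (HomShEval.QCoh.app E W (res (RefHull.homSh E W) h g) le_rfl (res E h m))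
    rw [HomShEval.QCoh.germ_app, HomShEval.QCoh.germ_app, HomShQC.germM_res]
    rfl
  refine ⟨Curry.hom B hB, Omega.Stalks.mono_of_stalk fun x => (injective_iff_map_eq_zero _).mpr fun v hv => ?_⟩
  haveI := (Props.QProj.free_stalk E hE x).1
  haveI := finite_stalk hEc x
  obtain ⟨U, hxU, ⟨ψ⟩⟩ := hW x
  obtain ⟨e, he⟩ := exists_isFrame_of_iso ψ
  let c : (Fin 1 → X.presheaf.stalk x) ≃ₗ[X.presheaf.stalk x] W.presheaf.stalk x :=
    LinearEquiv.ofBijective _ (he.stalkComb_bijective x hxU)
  let b := Module.Free.chooseBasis (X.presheaf.stalk x) (E.presheaf.stalk x)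
  obtain ⟨U₀, hx₀, m, rfl⟩ := exists_germM_eq E x v
  rw [stalkLin_germ] at hv
  refine b.repr.injective (Finsupp.ext fun i => ?_)
  obtain ⟨θ, hθ⟩ := (HomShQC.evalStalk_bijective E W hfp x).2
    (LinearMap.smulRight (b.coord i) (c fun _ => 1))
  obtain ⟨U₁, hx₁, g, rfl⟩ := exists_germM_eq (RefHull.homSh E W) x θ
  have hθ' := (RefHull.evalStalk_germ E W x hx₁ g).symm.trans hθ
  let U' := U₀ ⊓ U₁
  have hx' : x ∈ U' := ⟨hx₀, hx₁⟩
  have h1 := Curry.hom_germ B hB m ⟨x, hx₀⟩ U' inf_le_left hx' (res (RefHull.homSh E W) inf_le_right g)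
  have hz := congrArg (fun t => RefHull.evalStalk (RefHull.homSh E W) W x t
    (germM (RefHull.homSh E W) U' x hx' (res (RefHull.homSh E W) inf_le_right g))) hv
  simp only [map_zero, LinearMap.zero_apply] at hz
  rw [RefHull.evalStalk_germ] at hz
  rw [hz] at h1
  have h2 : b.coord i (germM E U₀ x hx₀ m) • (c fun _ => (1 : X.presheaf.stalk x)) = 0 := by
    refine Eq.trans ?_ h1.symm
    show _ = germM W U' x hx' (HomShEval.QCoh.app E W (res (RefHull.homSh E W) inf_le_right g) le_rfl (res E inf_le_left m))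
    rw [HomShEval.QCoh.germ_app, HomShQC.germM_res]
    exact (LinearMap.congr_fun hθ' _).symm
  rw [← map_smul] at h2
  have h3 := congrFun (c.map_eq_zero_iff.mp h2) 0
  rw [map_zero, Finsupp.zero_apply]
  simpa using h3

end Groth.Agent.VBLib.SerreGen

namespace Groth.Agent.VBLib

variable {k : Type u} [Field k] {X : Scheme.{u}} [X.Over (Spec (CommRingCat.of k))] [IsIntegral X]
  (hX : GoodCurve k X)
include hX

/-- Serre duality relative to a line bundle `W` with `h¹ = 1` and degree `2 g - 2`. -/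
theorem GoodCurve.serre (h : Function.Bijective (Coh.toGlobal (X ↘ Spec (CommRingCat.of k))))
    {W : X.Modules} (hW : PicF.IsInvertible W) (hW1 : Module.finrank k (Coh.HH X W 1) = 1)
    (hWd : dg k W = 2 * (Curv2.genus k X : ℤ) - 2) {E : X.Modules} (hE : FlatMod.IsFinLocFree E) :
    Module.finrank k (Coh.HH X E 1) = Module.finrank k (Coh.HH X (RefHull.homSh E W) 0) := by
  haveI := hX.isLocallyNoetherian
  have hWr := ofRank_one_of_invertible hW
  have hWc := isCoh_of_ofRank hWr
  obtain ⟨hD, hDr⟩ := DualDeg.isFinLocFree_dual hX.pid hE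
  obtain ⟨hTf, hTr, hTd⟩ := hX.dg_tensor_line hD hW
  obtain ⟨e⟩ := SerreGen.nonempty_iso E W hE
  have hEc := isCoh_of_isFinLocFree hE
  have hHc : Coh.IsCoh (RefHull.homSh E W) := HomShEval.QCoh.isCoh_homSh E W hEc hWc
  obtain ⟨hd, hr⟩ := hX.dg_iso e (isCoh_of_isFinLocFree hTf) hHc
  have h1 := hX.finrank_H0_homSh_le hEc hWr hW1
  have h2 := hX.finrank_H0_homSh_le (E := RefHull.homSh E W) hHc hWr hW1
  obtain ⟨j, hj⟩ := SerreGen.exists_mono_double E W hE hWr
  haveI := hj
  have h3 := hX.finrank_H0_le j (HomShEval.QCoh.isCoh_homSh _ W hHc hWc)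
  have hrE := hX.riemannRoch h hEc
  have hrH := hX.riemannRoch h hHc
  rw [← hr, ← hd, hTd, hTr, hDr, hX.dg_dual hE, hWd] at hrH
  have h1' := Int.ofNat_le.mpr h1
  have h2' := Int.ofNat_le.mpr h2
  have h3' := Int.ofNat_le.mpr h3
  linarith

/-- `H¹` vanishes when there is no map to the canonical bundle. -/
theorem GoodCurve.subsingleton_h1 [IsAlgClosed k] [Smooth (X ↘ Spec (CommRingCat.of k))]
    {E : X.Modules} (hE : FlatMod.IsFinLocFree E)
    (hz : ∀ f : E ⟶ Omega.sheaf (X ↘ Spec (CommRingCat.of k)), f = 0) :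
    Subsingleton (Coh.HH X E 1) := by
  haveI := hX.proper
  haveI := hX.isLocallyNoetherian
  have hdim := hX.dim
  haveI := FFCurve.regCurve_of_smooth k (X := X) hdim
  have hb := bijective_toGlobal_of_isAlgClosed (k := k) (X := X)
  have hΩ := FFCurve.isInvertible_omega (X := X) k hdim
  have hΩr := ofRank_one_of_invertible hΩ
  obtain ⟨hD, ⟨d⟩⟩ := DualDeg.invertible_dual hΩ
  have hTc : Coh.IsCoh (CohB1.tensorMod (Omega.sheaf (X ↘ Spec (CommRingCat.of k)))
      (RefHull.dual (Omega.sheaf (X ↘ Spec (CommRingCat.of k))))) :=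
    isCoh_of_isFinLocFree (hX.dg_tensor_line (isFinLocFree_of_ofRank hΩr) hD).1
  have hOc := isCoh_of_ofRank (ofRank_one_of_invertible (LFFrame.isInvertible_structureModule X))
  have hW1 : Module.finrank k (Coh.HH X (Omega.sheaf (X ↘ Spec (CommRingCat.of k))) 1) = 1 := by
    rw [FFCurve.finrank_one_eq_dual (X := X) k hdim hΩ ⟨d⟩ hD]
    have h1 := hX.finrank_H0_le d.hom hOc
    have h2 := hX.finrank_H0_le d.inv hTc
    have h3 := finrank_H0_structure_eq_one hb
    omega
  have hWd : dg k (Omega.sheaf (X ↘ Spec (CommRingCat.of k))) = 2 * (Curv2.genus k X : ℤ) - 2 := by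
    rw [← dg_eq hΩr]
    exact FFCurve.deg_omega (X := X) k hdim
  haveI := (isCoh_of_isFinLocFree hE).1
  haveI := CurveCoh.finite_HH_one (k := k) E hX.val hX.dim (isCoh_of_isFinLocFree hE)
  haveI : Subsingleton (Coh.HH X (RefHull.homSh E (Omega.sheaf (X ↘ Spec (CommRingCat.of k)))) 0) := ⟨fun a b =>
    (ProperFin.h0Sec _).injective (Serre.toHom_injective E _ ((hz _).trans (hz _).symm))⟩
  exact Module.finrank_zero_iff.mp ((hX.serre hb hΩ hW1 hWd hE).trans
    (Module.finrank_zero_of_subsingleton (R := k)))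

/-- A semistable bundle of slope above `2 g - 2` has no `H¹`. -/
theorem GoodCurve.subsingleton_h1_of_ss_gt [IsAlgClosed k] [Smooth (X ↘ Spec (CommRingCat.of k))]
    {E : X.Modules} (hE : FlatMod.IsFinLocFree E) (hss : SS k E)
    (hd : (rk E : ℤ) * (2 * (Curv2.genus k X : ℤ) - 2) < dg k E) : Subsingleton (Coh.HH X E 1) := by
  haveI := hX.proper
  haveI := hX.isLocallyNoetherian
  refine hX.subsingleton_h1 hE fun f => ?_
  have hdim := hX.dim
  haveI := FFCurve.regCurve_of_smooth k (X := X) hdim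
  have hΩr := ofRank_one_of_invertible (FFCurve.isInvertible_omega (X := X) k hdim)
  have hΩd := FFCurve.deg_omega (X := X) k hdim
  refine hX.hom_eq_zero hE (isFinLocFree_of_ofRank hΩr) hss (fun G i hi hG hr => ?_) f
  haveI := hi
  have h1 : rk G = 1 := by
    have := rk_le_of_mono i (isCoh_of_ofRank hΩr)
    rw [rk_eq hΩr] at this
    omega
  have h2 := (hX.dg_le_of_mono i (isCoh_of_isFinLocFree hG) (isCoh_of_ofRank hΩr) (by rw [rk_eq hΩr, h1])).1
  rw [← dg_eq hΩr, hΩd] at h2
  rw [h1]
  push_cast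
  calc dg k G * (rk E : ℤ) ≤ (2 * (Curv2.genus k X : ℤ) - 2) * rk E := mul_le_mul_of_nonneg_right h2 (Int.natCast_nonneg _)
    _ = (rk E : ℤ) * (2 * (Curv2.genus k X : ℤ) - 2) := mul_comm _ _
    _ < dg k E := hd
    _ = dg k E * 1 := (mul_one _).symm

end Groth.Agent.VBLib
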