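import Groth.Agent.ProperFin.FinEx
import Groth.Prelude.Def_CurvBase

/-!
# Cohomology and Euler characteristic of an affine direct image
-/

universe u

open CategoryTheory Limits Opposite TopologicalSpace AlgebraicGeometry
open Groth.Agent.CohAff Groth.Agent.ProperFin

noncomputable section

namespace Groth.Agent.VBLib.PushEuler

variable {k : Type u} [Field k] {X Y : Scheme.{u}} [X.Over (Spec (CommRingCat.of k))]
  [Y.Over (Spec (CommRingCat.of k))] (f : X ⟶ Y) [IsAffineHom f]

/-- The cohomology of an affine direct image, linearly over the base field. -/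
theorem nonempty_linearEquiv (w : f ≫ (Y ↘ Spec (CommRingCat.of k)) = X ↘ Spec (CommRingCat.of k))
    (M : X.Modules) [Coh.IsQCoh M] (i : ℕ) :
    Nonempty (Coh.HH X M i ≃ₗ[k] Coh.HH Y ((Coh.push f).obj M) i) := by
  let R := FRes.ofMod M
  let R' := R.pushAff f
  let e : Coh.HH X M i ≃+ Coh.HH Y ((Coh.push f).obj M) i :=
    addEquivOfKer (R.clsTop i) (R'.clsTop i) (R.clsTop_surjective i)
      (R'.clsTop_surjective i) fun a ↦ (R.clsTop_eq_zero_iff i a).trans
        ((R.ex_pushAff_iff f i ⊤ a).symm.trans (R'.clsTop_eq_zero_iff i a).symm)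
  have he : ∀ a, e (R.clsTop i a) = R'.clsTop i a := fun a => by
    have h : (QuotientAddGroup.quotientKerEquivOfSurjective (R.clsTop i) (R.clsTop_surjective i)).symm
        (R.clsTop i a) = QuotientAddGroup.mk a := (AddEquiv.symm_apply_eq _).mpr rfl
    show ((QuotientAddGroup.quotientKerEquivOfSurjective (R.clsTop i) (R.clsTop_surjective i)).symm.trans
      ((QuotientAddGroup.quotientAddEquivOfEq _).trans
        (QuotientAddGroup.quotientKerEquivOfSurjective (R'.clsTop i) (R'.clsTop_surjective i))))
      (R.clsTop i a) = R'.clsTop i a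
    rw [AddEquiv.trans_apply, h]
    rfl
  refine ⟨e.toLinearEquiv fun c y => ?_⟩
  obtain ⟨a, rfl⟩ := R.clsTop_surjective i y
  refine (congrArg e (R.clsTop_smul i (glob k X c) a).symm).trans ?_
  refine (he (glob k X c • a)).trans ?_
  refine Eq.trans (congrArg (R'.clsTop i) ?_)
    ((R'.clsTop_smul i (glob k Y c) a).trans (congrArg ((show Coh.Γtop Y from glob k Y c) • ·) (he a).symm))
  exact (congrArg (fun r : Γ(X, ⊤) => r • a) (toGlobal_comp f w c)).symm.trans
    (push_smul' f (R.Z i) (glob k Y c) a).symm

/-- Affine direct image preserves the Euler characteristic. -/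
theorem euler_push (w : f ≫ (Y ↘ Spec (CommRingCat.of k)) = X ↘ Spec (CommRingCat.of k))
    (M : X.Modules) [Coh.IsQCoh M] :
    Curv2.euler k Y ((Coh.push f).obj M) = Curv2.euler k X M := by
  refine finsum_congr fun i => ?_
  obtain ⟨e⟩ := nonempty_linearEquiv f w M i
  rw [e.finrank_eq]

end Groth.Agent.VBLib.PushEuler

end
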