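import Mathlib.RingTheory.Trace.Basic
import Mathlib.RingTheory.Localization.NormTrace
import Mathlib.RingTheory.Algebraic.Integral

/-!
# Ring-level lemmas on trace forms
-/

universe u v w z

set_option linter.style.haveILetI false

open scoped nonZeroDivisors

namespace Groth.Agent.VBLib.TraceRing

/-- The trace form of a finite free extension of domains with separable fraction field extension is nondegenerate. -/
theorem eq_zero_of_trace {R : Type u} {B : Type v} (K : Type w) (L : Type z) [CommRing R] [CommRing B]
    [IsDomain R] [IsDomain B] [Algebra R B] [Module.Free R B] [Module.Finite R B] [Field K] [Field L]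
    [Algebra R K] [IsFractionRing R K] [Algebra B L] [IsFractionRing B L] [Algebra R L]
    [IsScalarTower R B L] [Algebra K L] [IsScalarTower R K L] [Algebra.IsSeparable K L] {a : B}
    (h : ∀ b : B, Algebra.trace R B (a * b) = 0) : a = 0 := by
  have hinj : Function.Injective (algebraMap R L) := by
    rw [IsScalarTower.algebraMap_eq R K L]
    exact (algebraMap K L).injective.comp (IsFractionRing.injective R K)
  have hinj' : Function.Injective (algebraMap R B) := by
    rw [IsScalarTower.algebraMap_eq R B L] at hinj
    exact Function.Injective.of_comp hinj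
  haveI : FaithfulSMul R B := (faithfulSMul_iff_algebraMap_injective R B).mpr hinj'
  haveI : Algebra.IsIntegral R B := Algebra.IsIntegral.of_finite R B
  haveI : Algebra.IsAlgebraic R B := Algebra.IsIntegral.isAlgebraic
  haveI : IsLocalization (Algebra.algebraMapSubmonoid B R⁰) L := inferInstance
  haveI : FiniteDimensional K L :=
    Module.Finite.of_basis ((Module.Free.chooseBasis R B).localizationLocalization K R⁰ L)
  apply IsFractionRing.injective B L
  rw [map_zero]
  refine (traceForm_nondegenerate K L).1 _ fun z => ?_
  obtain ⟨b, ⟨s', s, hs, rfl⟩, rfl⟩ := IsLocalization.exists_mk'_eq (Algebra.algebraMapSubmonoid B R⁰) z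
  rw [Algebra.traceForm_apply]
  have hs0 : algebraMap R K s ≠ 0 := fun e =>
    nonZeroDivisors.ne_zero hs ((map_eq_zero_iff _ (IsFractionRing.injective R K)).mp e)
  apply (mul_eq_zero_iff_left hs0).mp
  rw [← smul_eq_mul (algebraMap R K s), ← map_smul, Algebra.smul_def, ← IsScalarTower.algebraMap_apply,
    IsScalarTower.algebraMap_apply R B L, mul_left_comm, IsLocalization.mk'_spec'_mk, ← map_mul,
    Algebra.trace_localization R R⁰, h, map_zero]

/-- An algebra free of rank one is the base ring. -/
theorem bijective_algebraMap_of_basis {R : Type u} {B : Type v} [CommRing R] [CommRing B] [Algebra R B]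
    (b : Module.Basis (Fin 1) R B) : Function.Bijective (algebraMap R B) := by
  have hx : ∀ x : B, x = b.repr x 0 • b 0 := fun x => by
    conv_lhs => rw [← b.sum_repr x]
    simp
  have hc : b.repr 1 0 * b.repr (b 0 * b 0) 0 = 1 := by
    have e : b 0 = (b.repr 1 0 * b.repr (b 0 * b 0) 0) • b 0 := by
      conv_lhs => rw [← one_mul (b 0), hx 1, smul_mul_assoc, hx (b 0 * b 0), smul_smul]
    have := congrArg (fun t => b.repr t 0) e
    simpa using this.symm
  have hb : b 0 = b.repr (b 0 * b 0) 0 • (1 : B) := by
    conv_rhs => rw [hx 1, smul_smul, mul_comm, hc, one_smul]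
  refine ⟨fun r r' e => ?_, fun x => ⟨b.repr x 0 * b.repr (b 0 * b 0) 0, ?_⟩⟩
  · have e' : r • b 0 = r' • b 0 := by rw [Algebra.smul_def, Algebra.smul_def, e]
    have := congrArg (fun t => b.repr t 0) e'
    simpa using this
  · rw [Algebra.algebraMap_eq_smul_one, mul_smul, ← hb]
    exact (hx x).symm

end Groth.Agent.VBLib.TraceRing
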