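import Groth.Agent.VBLib.Curry
import Groth.Agent.VBLib.TraceRing
import Groth.Agent.VBLib.DualDeg
import Groth.Agent.VBLib.PushEuler
import Groth.Agent.FinCov71.Basic
import Groth.Agent.CycLib.ModStalk
import Groth.Agent.VarDim.Curve
import Groth.Agent.TraceEtale.Basic
import Groth.Agent.CohDev.Coh

/-!
# The trace pairing on the direct image of the structure sheaf of a finite cover of curves
-/

universe u

open CategoryTheory AlgebraicGeometry Limits Opposite TopologicalSpace
open Groth.Agent.PullStalk.Sky Groth.Agent.PullStalk.Exact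

set_option linter.style.haveILetI false

noncomputable section

namespace Groth.Agent.VBLib.PushTrace

open Groth.Agent.FinCov71

variable {X Y : Scheme.{u}} (f : X ⟶ Y) [IsFinite f]

/-- `f_* O_X` as an algebra. -/
abbrev alg : RelSpec.QCAlg Y := RelSpec.QCAlg.directImage f

/-- `f_* O_X` as a module. -/
abbrev pushO : Y.Modules := (alg f).toModule

/-- The two spellings of `f_* O_X`. -/
def pushIso : pushO f ≅ (Coh.push f).obj (Coh.structureModule X) where
  hom := ⟨PresheafOfModules.homMk
    { app := fun U => AddCommGrpCat.ofHom (AddMonoidHom.mk'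
        (fun m : Γ(pushO f, U.unop) => (m : Γ((Coh.push f).obj (Coh.structureModule X), U.unop)))
        fun _ _ => rfl)
      naturality := fun {U V} i => rfl } (fun U r m => rfl)⟩
  inv := ⟨PresheafOfModules.homMk
    { app := fun U => AddCommGrpCat.ofHom (AddMonoidHom.mk'
        (fun m : Γ((Coh.push f).obj (Coh.structureModule X), U.unop) => (m : Γ(pushO f, U.unop)))
        fun _ _ => rfl)
      naturality := fun {U V} i => rfl } (fun U r m => rfl)⟩
  hom_inv_id := rfl
  inv_hom_id := rfl

theorem isCoh_pushO [IsLocallyNoetherian X] : Coh.IsCoh (pushO f) :=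
  CohDev.isCoh_of_iso (pushIso f).symm (CycLib.isCoh_push _ f HomShQC.isCoh_structureModule)

section Generic

variable [IsIntegral X] [IsIntegral Y] (e : f (genericPoint X) = genericPoint Y)

/-- The extension of function fields. -/
def genMap : Y.functionField →+* X.functionField :=
  (Y.presheaf.stalkSpecializes (specializes_of_eq e) ≫ f.stalkMap (genericPoint X)).hom

omit [IsFinite f] in
lemma genMap_germ (U : Y.Opens) (hU : genericPoint Y ∈ U) (hU' : genericPoint X ∈ f ⁻¹ᵁ U) (s : Γ(Y, U)) :
    genMap f e (Y.presheaf.germ U (genericPoint Y) hU s) =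
      X.presheaf.germ (f ⁻¹ᵁ U) (genericPoint X) hU' (f.app U s) := by
  show f.stalkMap (genericPoint X)
    (Y.presheaf.stalkSpecializes (specializes_of_eq e) (Y.presheaf.germ U (genericPoint Y) hU s)) = _
  rw [TopCat.Presheaf.germ_stalkSpecializes_apply]
  exact Scheme.Hom.germ_stalkMap_apply f U (genericPoint X) hU' s

include e in
omit [IsFinite f] in
lemma genericPoint_mem_preimage {U : Y.Opens} (hU : genericPoint Y ∈ U) :
    genericPoint X ∈ f ⁻¹ᵁ U := by
  show f (genericPoint X) ∈ U
  rwa [e]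

include e in
omit [IsFinite f] in
lemma app_injective {U : Y.Opens} (hU : genericPoint Y ∈ U) : Function.Injective (f.app U) := by
  intro s t hst
  apply germ_injective_of_isIntegral Y (genericPoint Y) hU
  apply (genMap f e).injective
  rw [genMap_germ f e U hU (genericPoint_mem_preimage f e hU),
    genMap_germ f e U hU (genericPoint_mem_preimage f e hU), hst]

include e in
theorem isTorsionFree_stalk (y : Y) :
    Module.IsTorsionFree (Y.presheaf.stalk y) ((pushO f).presheaf.stalk y) := by
  refine .of_smul_eq_zero fun r v hrv => ?_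
  obtain ⟨W₁, h₁, s, rfl⟩ := TopCat.Presheaf.exists_germ_eq Y.presheaf r
  obtain ⟨W₂, h₂, m, rfl⟩ := exists_germM_eq (pushO f) y v
  rw [← HomShQC.germ_rres (inf_le_left : W₁ ⊓ W₂ ≤ W₁) y ⟨h₁, h₂⟩,
    ← HomShQC.germM_res (pushO f) (inf_le_right : W₁ ⊓ W₂ ≤ W₂) y ⟨h₁, h₂⟩] at hrv ⊢
  rw [← germM_smul] at hrv
  obtain ⟨W, hW, i, j, hz⟩ := (pushO f).presheaf.germ_eq y (⟨h₁, h₂⟩ : y ∈ W₁ ⊓ W₂) (⟨h₁, h₂⟩ : y ∈ W₁ ⊓ W₂)
    (QCoh.rres inf_le_left s • QCoh.res (pushO f) inf_le_right m) (0 : Γ(pushO f, W₁ ⊓ W₂))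
    (hrv.trans (map_zero _).symm)
  have hzero : QCoh.res (pushO f) i.le
      (QCoh.rres inf_le_left s • QCoh.res (pushO f) inf_le_right m) = 0 := hz.trans (map_zero _)
  rw [QCoh.res_smul] at hzero
  have hη : genericPoint Y ∈ W := genericPoint_mem_of_mem hW
  haveI : Nonempty (f ⁻¹ᵁ W : X.Opens) := ⟨⟨_, genericPoint_mem_preimage f e hη⟩⟩
  have hmul : (f.app W (QCoh.rres i.le (QCoh.rres inf_le_left s)) : Γ(X, f ⁻¹ᵁ W)) *
      (show Γ(X, f ⁻¹ᵁ W) from QCoh.res (pushO f) i.le (QCoh.res (pushO f) inf_le_right m)) = 0 := hzero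
  rcases mul_eq_zero.mp hmul with hs | hm
  · left
    have : QCoh.rres i.le (QCoh.rres (inf_le_left : W₁ ⊓ W₂ ≤ W₁) s) = 0 :=
      app_injective f e hη (hs.trans (map_zero _).symm)
    rw [← HomShQC.germ_rres i.le y hW, this, map_zero]
  · right
    rw [← HomShQC.germM_res (pushO f) i.le y hW]
    exact (congrArg (germM (pushO f) W y hW) hm).trans (map_zero _)

end Generic

section Trace

variable (hA : FlatMod.IsFinLocFree (pushO f))

lemma trAt_add {W : Y.Opens} (a b : Sec (alg f) W) : trAt hA (a + b) = trAt hA a + trAt hA b :=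
  (trAt_unique hA fun V hV hf => by
    rw [map_add, map_add, isTr_trAt hA _ V hV hf, isTr_trAt hA _ V hV hf, ← map_add]).symm

lemma trAt_smul {W : Y.Opens} (r : Γ(Y, W)) (a : Sec (alg f) W) :
    trAt hA (r • a) = r * trAt hA a :=
  (trAt_unique hA fun V hV hf => by
    rw [map_mul, FinCov71.res_smul, map_smul, isTr_trAt hA _ V hV hf, smul_eq_mul]).symm

lemma resO_trAt {U V : Y.Opens} (h : V ≤ U) (a : Sec (alg f) U) :
    resO h (trAt hA a) = trAt hA (FinCov71.res (alg f) h a) :=
  trAt_unique hA fun W hW hf => by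
    rw [res_resO, FinCov71.res_res]
    exact isTr_trAt hA _ W _ hf

lemma trAt_of_hasFrame {V : Y.Opens} (hf : HasFrame (pushO f) V) (a : Sec (alg f) V) :
    trAt hA a = tr (alg f) V a := by
  have h := isTr_trAt hA a V le_rfl hf
  simpa [resO, FinCov71.res] using h

/-- The trace pairing on sections. -/
def pairing (U : Y.Opens) :
    Γ(pushO f, U) →ₗ[Γ(Y, U)] Γ(pushO f, U) →ₗ[Γ(Y, U)] Γ(Coh.structureModule Y, U) :=
  LinearMap.mk₂ _ (fun a b => (show Γ(Coh.structureModule Y, U) from trAt hA (ofMod (alg f) a * ofMod (alg f) b)))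
    (fun a a' b => (congrArg (fun t => trAt hA t) (add_mul (ofMod (alg f) a) (ofMod (alg f) a') (ofMod (alg f) b))).trans
      (trAt_add f hA _ _))
    (fun r a b => (congrArg (fun t => trAt hA t) (smul_mul_assoc r (ofMod (alg f) a) (ofMod (alg f) b))).trans
      (trAt_smul f hA _ _))
    (fun a b b' => (congrArg (fun t => trAt hA t) (mul_add (ofMod (alg f) a) (ofMod (alg f) b) (ofMod (alg f) b'))).trans
      (trAt_add f hA _ _))
    (fun r a b => (congrArg (fun t => trAt hA t) (mul_smul_comm r (ofMod (alg f) a) (ofMod (alg f) b))).trans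
      (trAt_smul f hA _ _))

lemma pairing_apply (U : Y.Opens) (a b : Γ(pushO f, U)) :
    pairing f hA U a b = trAt hA (ofMod (alg f) a * ofMod (alg f) b) := rfl

lemma res_pairing (U V : Y.Opens) (h : V ≤ U) (a b : Γ(pushO f, U)) :
    QCoh.res (Coh.structureModule Y) h (pairing f hA U a b) =
      pairing f hA V (QCoh.res (pushO f) h a) (QCoh.res (pushO f) h b) :=
  (resO_trAt f hA h _).trans (congrArg (fun t => trAt hA t) (map_mul (FinCov71.res (alg f) h) _ _))

/-- The map to the dual given by the trace. -/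
def phi : pushO f ⟶ RefHull.dual (pushO f) :=
  Curry.hom (pairing f hA) (res_pairing f hA)

lemma tr_mul_eq_zero {V : Y.Opens} (hf : HasFrame (pushO f) V) {a : Γ(pushO f, V)}
    (h : (phi f hA).app V a = 0) (b : Sec (alg f) V) :
    tr (alg f) V (ofMod (alg f) a * b) = 0 := by
  rw [← trAt_of_hasFrame f hA hf]
  refine HomShQC.sec_ext (Coh.structureModule Y) fun y hy => ?_
  have e := Curry.hom_germ (pairing f hA) (res_pairing f hA) a ⟨y, hy⟩ V le_rfl hy (toMod (alg f) b)
  rw [show Curry.hom (pairing f hA) (res_pairing f hA) = phi f hA from rfl, h] at e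
  refine Eq.trans ?_ (map_zero ((Coh.structureModule Y).presheaf.germ V y hy).hom).symm
  refine Eq.trans ?_ e.symm
  refine congrArg (germM (Coh.structureModule Y) V y hy ·) ?_
  show _ = trAt hA (ofMod (alg f) (QCoh.res (pushO f) le_rfl a) * b)
  have : QCoh.res (pushO f) (le_refl V) a = a := by simp [QCoh.res]
  rw [this]


lemma eq_zero_of_tr [IsIntegral X] [IsIntegral Y] (e : f (genericPoint X) = genericPoint Y)
    (hsep : letI := (genMap f e).toAlgebra; Algebra.IsSeparable Y.functionField X.functionField)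
    {V : Y.Opens} (hV : IsAffineOpen V) (hη : genericPoint Y ∈ V) (hf : HasFrame (pushO f) V)
    (a : Sec (alg f) V) (h : ∀ b, tr (alg f) V (a * b) = 0) : a = 0 := by
  have hη' := genericPoint_mem_preimage f e hη
  haveI : Nonempty V := ⟨⟨_, hη⟩⟩
  haveI : Nonempty (f ⁻¹ᵁ V : X.Opens) := ⟨⟨_, hη'⟩⟩
  haveI : IsDomain (Sec (alg f) V) := inferInstanceAs (IsDomain Γ(X, f ⁻¹ᵁ V))
  haveI := hf.free.1
  haveI := hf.free.2
  letI algK := (genMap f e).toAlgebra
  haveI := hsep
  haveI : IsFractionRing Γ(Y, V) Y.functionField := functionField_isFractionRing_of_isAffineOpen Y V hV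
  letI algBL : Algebra (Sec (alg f) V) X.functionField :=
    (inferInstance : Algebra Γ(X, f ⁻¹ᵁ V) X.functionField)
  haveI : IsFractionRing (Sec (alg f) V) X.functionField :=
    functionField_isFractionRing_of_isAffineOpen X _ (hV.preimage f)
  letI : Algebra Γ(Y, V) X.functionField :=
    ((algebraMap (Sec (alg f) V) X.functionField).comp (algebraMap Γ(Y, V) (Sec (alg f) V))).toAlgebra
  haveI : IsScalarTower Γ(Y, V) (Sec (alg f) V) X.functionField := IsScalarTower.of_algebraMap_eq' rfl
  haveI : IsScalarTower Γ(Y, V) Y.functionField X.functionField :=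
    IsScalarTower.of_algebraMap_eq fun r => (genMap_germ f e V hη hη' r).symm
  exact TraceRing.eq_zero_of_trace Y.functionField X.functionField h

lemma injective_phi_app [IsIntegral X] [IsIntegral Y] (e : f (genericPoint X) = genericPoint Y)
    (hsep : letI := (genMap f e).toAlgebra; Algebra.IsSeparable Y.functionField X.functionField)
    {V : Y.Opens} (hV : IsAffineOpen V) (hη : genericPoint Y ∈ V) (hf : HasFrame (pushO f) V) :
    Function.Injective ((phi f hA).app V) := by
  refine (injective_iff_map_eq_zero ((phi f hA).app V).hom).mpr fun a ha => ?_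
  exact eq_zero_of_tr f e hsep hV hη hf (ofMod (alg f) a) fun b => tr_mul_eq_zero f hA hf ha b

lemma injective_stalk_of_app {M N : Y.Modules} (φ : M ⟶ N) (y : Y)
    (h : ∀ W : Y.Opens, y ∈ W → ∃ V : Y.Opens, y ∈ V ∧ V ≤ W ∧ Function.Injective (φ.app V)) :
    Function.Injective (stalkLin φ y) := by
  refine (injective_iff_map_eq_zero (stalkLin φ y)).mpr fun v hv => ?_
  obtain ⟨U, hU, m, rfl⟩ := exists_germM_eq M y v
  rw [stalkLin_germ] at hv
  obtain ⟨W, hW, i, j, hz⟩ := N.presheaf.germ_eq y hU hU (φ.app U m) 0 (hv.trans (map_zero _).symm)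
  obtain ⟨V, hV, hVW, hinj⟩ := h W hW
  have hnat : φ.app V (QCoh.res M (hVW.trans i.le) m) = 0 := by
    refine (NatTrans.naturality_apply φ.mapPresheaf (homOfLE (hVW.trans i.le)).op m).trans ?_
    show QCoh.res N (hVW.trans i.le) (φ.app U m) = 0
    rw [← QCoh.res_res N i.le hVW, show QCoh.res N i.le (φ.app U m) = 0 from hz.trans (map_zero _)]
    exact map_zero _
  rw [← HomShQC.germM_res M (hVW.trans i.le) y hV,
    hinj (hnat.trans (map_zero _).symm)]
  exact map_zero _

/-- The trace map to the dual is a monomorphism for separable covers. -/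
theorem mono_phi [IsIntegral X] [IsIntegral Y] (e : f (genericPoint X) = genericPoint Y)
    (hsep : letI := (genMap f e).toAlgebra; Algebra.IsSeparable Y.functionField X.functionField) :
    Mono (phi f hA) := by
  refine Omega.Stalks.mono_of_stalk fun y => injective_stalk_of_app _ y fun W hW => ?_
  obtain ⟨V, hyV, hVW, hV, hf⟩ := exists_affine_hasFrame hA hW
  exact ⟨V, hyV, hVW, injective_phi_app f hA e hsep hV (genericPoint_mem_of_mem hyV) hf⟩

lemma bijective_traceForm_of_etale [Etale f] {V : Y.Opens} (hV : IsAffineOpen V)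
    (hf : HasFrame (pushO f) V) : Function.Bijective (Algebra.traceForm Γ(Y, V) (Sec (alg f) V)) := by
  haveI := hf.free.1
  haveI := hf.free.2
  haveI : Algebra.FormallyUnramified Γ(Y, V) (Sec (alg f) V) := by
    have h : (f.app V).hom.FormallyUnramified := by
      rw [Scheme.Hom.app_eq_appLE]
      exact HasRingHomProperty.appLE @FormallyUnramified f inferInstance ⟨V, hV⟩
        ⟨f ⁻¹ᵁ V, hV.preimage f⟩ le_rfl
    exact h
  exact TraceEtale.Basic.bijective_traceForm _ _

lemma bijective_phi_app [Etale f] [IsLocallyNoetherian X] {V : Y.Opens} (hV : IsAffineOpen V)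
    (hf : HasFrame (pushO f) V) : Function.Bijective ((phi f hA).app V) := by
  haveI := (isCoh_pushO f).1
  have hb := bijective_traceForm_of_etale f hV hf
  refine ⟨(injective_iff_map_eq_zero ((phi f hA).app V).hom).mpr fun a ha => ?_, fun g => ?_⟩
  · have h0 : Algebra.traceForm Γ(Y, V) (Sec (alg f) V) (ofMod (alg f) a) = 0 :=
      LinearMap.ext fun b => tr_mul_eq_zero f hA hf ha b
    exact hb.1 (h0.trans (map_zero _).symm)
  · obtain ⟨a, ha⟩ := hb.2 (HomShQC.sec (pushO f) (Coh.structureModule Y) g)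
    refine ⟨toMod (alg f) a, HomShQC.sec_injective _ _ hV (LinearMap.ext fun b => ?_)⟩
    refine HomShQC.sec_ext _ fun y hy => ?_
    rw [HomShQC.germM_sec _ _ _ b ⟨y, hy⟩]
    refine (Curry.hom_germ (pairing f hA) (res_pairing f hA) (toMod (alg f) a) ⟨y, hy⟩ V le_rfl hy b).trans ?_
    refine congrArg (germM (Coh.structureModule Y) V y hy ·) ?_
    have hres : QCoh.res (pushO f) (le_refl V) (toMod (alg f) a) = toMod (alg f) a := by simp [QCoh.res]
    rw [pairing_apply, hres, trAt_of_hasFrame f hA hf]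
    exact LinearMap.congr_fun ha b

lemma surjective_stalk_of_app {M N : Y.Modules} (φ : M ⟶ N) (y : Y)
    (h : ∀ W : Y.Opens, y ∈ W → ∃ V : Y.Opens, y ∈ V ∧ V ≤ W ∧ Function.Surjective (φ.app V)) :
    Function.Surjective (stalkLin φ y) := by
  intro v
  obtain ⟨U, hU, n, rfl⟩ := exists_germM_eq N y v
  obtain ⟨V, hV, hVU, hs⟩ := h U hU
  obtain ⟨m, hm⟩ := hs (QCoh.res N hVU n)
  refine ⟨germM M V y hV m, ?_⟩
  rw [stalkLin_germ]
  exact (congrArg (germM N V y hV) hm).trans (HomShQC.germM_res N hVU y hV n)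

/-- The trace map to the dual is an isomorphism for etale covers. -/
theorem isIso_phi [Etale f] [IsLocallyNoetherian X] : IsIso (phi f hA) := by
  refine Omega.Stalks.isIso_of_stalk fun y => ⟨injective_stalk_of_app _ y fun W hW => ?_,
    surjective_stalk_of_app _ y fun W hW => ?_⟩ <;>
  obtain ⟨V, hyV, hVW, hV, hf⟩ := exists_affine_hasFrame hA hW
  · exact ⟨V, hyV, hVW, (bijective_phi_app f hA hV hf).1⟩
  · exact ⟨V, hyV, hVW, (bijective_phi_app f hA hV hf).2⟩

end Trace

section Curves

variable {k : Type u} [Field k] [X.Over (Spec (CommRingCat.of k))] [Y.Over (Spec (CommRingCat.of k))]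
  [IsIntegral X] [IsIntegral Y]

/-- Normal proper curves are good. -/
theorem goodCurve_of_normal [IsProper (X ↘ Spec (CommRingCat.of k))] (hdim : topologicalKrullDim X = 1)
    (hn : Pi1.IsNormalScheme X) : GoodCurve k X := by
  haveI := LocallyOfFiniteType.isLocallyNoetherian (X ↘ Spec (CommRingCat.of k))
  refine ⟨inferInstance, fun x => ?_, hdim⟩
  by_cases hx : x = genericPoint X
  · subst hx
    letI : Field (X.presheaf.stalk (genericPoint X)) := inferInstanceAs (Field X.functionField)
    infer_instance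
  · obtain ⟨_, h⟩ := VarDim.isDiscreteValuationRing_stalk_of_coheight_eq_one hn x
      (VarDim.coheight_eq_one_of_ne_genericPoint k hdim hx)
    infer_instance

omit [IsIntegral Y] [IsIntegral X] in
theorem euler_pushO [IsProper (X ↘ Spec (CommRingCat.of k))] [IsProper (Y ↘ Spec (CommRingCat.of k))]
    (w : f ≫ (Y ↘ Spec (CommRingCat.of k)) = X ↘ Spec (CommRingCat.of k)) :
    Curv2.euler k Y (pushO f) = Curv2.euler k X (Coh.structureModule X) := by
  haveI := LocallyOfFiniteType.isLocallyNoetherian (X ↘ Spec (CommRingCat.of k))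
  haveI : Coh.IsQCoh (Coh.structureModule X) := HomShQC.isCoh_structureModule.1
  exact (EulerChar.euler_iso k (pushIso f)).trans (PushEuler.euler_push f w (Coh.structureModule X))

variable (hY : GoodCurve k Y) (e : f (genericPoint X) = genericPoint Y) [IsLocallyNoetherian X]

include hY e in
omit [X.Over (Spec (CommRingCat.of k))] in
/-- The direct image of the structure sheaf is a vector bundle of positive rank. -/
theorem isFinLocFree_pushO : FlatMod.IsFinLocFree (pushO f) ∧ 0 < rk (pushO f) := by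
  haveI := hY.isLocallyNoetherian
  have hE : FlatMod.IsFinLocFree (pushO f) :=
    isFinLocFree_of_torsionFree hY.pid (isCoh_pushO f) fun y => isTorsionFree_stalk f e y
  refine ⟨hE, Nat.pos_of_ne_zero fun h0 => ?_⟩
  obtain ⟨V, hη, hV, hf⟩ : ∃ V : Y.Opens, genericPoint Y ∈ V ∧ IsAffineOpen V ∧ HasFrame (pushO f) V := by
    obtain ⟨V, h1, -, h2, h3⟩ := exists_affine_hasFrame hE (W := ⊤) (x := genericPoint Y) trivial
    exact ⟨V, h1, h2, h3⟩
  obtain ⟨U, n, b, hVU, hb⟩ := hf
  obtain rfl : n = 0 := (rk_eq_of_isFrame hb (hVU hη)).symm.trans h0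
  haveI : Nonempty (f ⁻¹ᵁ V : X.Opens) := ⟨⟨_, genericPoint_mem_preimage f e hη⟩⟩
  haveI : Nontrivial (Sec (alg f) V) := inferInstanceAs (Nontrivial Γ(X, f ⁻¹ᵁ V))
  have hsub : Subsingleton (Sec (alg f) V) :=
    (frameBasis hb hVU).repr.toEquiv.subsingleton
  exact not_subsingleton (Sec (alg f) V) hsub

include hY in
omit [X.Over (Spec (CommRingCat.of k))] in
/-- The degree of the direct image of the structure sheaf is nonpositive for separable covers. -/
theorem dg_pushO_nonpos (hA : FlatMod.IsFinLocFree (pushO f))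
    (hsep : letI := (genMap f e).toAlgebra; Algebra.IsSeparable Y.functionField X.functionField) :
    dg k (pushO f) ≤ 0 := by
  haveI := hY.isLocallyNoetherian
  haveI := mono_phi f hA e hsep
  obtain ⟨hD, hr⟩ := DualDeg.isFinLocFree_dual hY.pid hA
  have hDc := isCoh_of_isFinLocFree hD
  obtain ⟨hd, hrk⟩ := hY.dg_mono_cokernel (phi f hA) (isCoh_pushO f) hDc
  have h0 := hY.dg_torsion (isCoh_cokernel (phi f hA) (isCoh_pushO f) hDc) (by omega)
  have := hY.dg_dual hA
  omega

include hY in
omit e [X.Over (Spec (CommRingCat.of k))] [IsIntegral X] in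
/-- The degree of the direct image of the structure sheaf vanishes for etale covers. -/
theorem dg_pushO_eq_zero [Etale f] (hA : FlatMod.IsFinLocFree (pushO f)) : dg k (pushO f) = 0 := by
  haveI := hY.isLocallyNoetherian
  haveI := hY.proper
  haveI := isIso_phi f hA
  obtain ⟨hD, hr⟩ := DualDeg.isFinLocFree_dual hY.pid hA
  have h := hY.dg_dual hA
  have he : Curv2.euler k Y (RefHull.dual (pushO f)) = Curv2.euler k Y (pushO f) :=
    EulerChar.euler_iso k (asIso (phi f hA)).symm
  simp only [dg, Curv2.deg, hr, he] at h ⊢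
  omega

omit [X.Over (Spec (CommRingCat.of k))] [Y.Over (Spec (CommRingCat.of k))] [IsLocallyNoetherian X] [IsIntegral X] in
/-- A cover whose direct image has rank one is an isomorphism. -/
theorem isIso_of_rk_eq_one (hA : FlatMod.IsFinLocFree (pushO f)) (h1 : rk (pushO f) = 1) : IsIso f := by
  choose V hyV _ hV hf using fun y : Y =>
    exists_affine_hasFrame (A := alg f) hA (W := ⊤) (x := y) trivial
  refine IsZariskiLocalAtTarget.of_iSup_eq_top (P := MorphismProperty.isomorphisms Scheme) V
    (eq_top_iff.mpr fun y _ => Opens.mem_iSup.mpr ⟨y, hyV y⟩) fun y => ?_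
  show IsIso (f ∣_ V y)
  refine (isIso_morphismRestrict_iff_isIso_app f (hV y)).mpr ((ConcreteCategory.isIso_iff_bijective _).mpr ?_)
  obtain ⟨U, n, b, hVU, hb⟩ := hf y
  obtain rfl : n = 1 := (rk_eq_of_isFrame hb (hVU (genericPoint_mem_of_mem (hyV y)))).symm.trans h1
  exact TraceRing.bijective_algebraMap_of_basis (frameBasis hb hVU)

end Curves

end Groth.Agent.VBLib.PushTrace
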