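import Groth.Agent.VBLib.GenSub
import Groth.Agent.CurveCoh.Euler
import Groth.Agent.CurveCoh.Integral
import Groth.Agent.CohTop.Flasque
import Groth.Agent.Props.QRank
import Mathlib.RingTheory.Bezout
import Mathlib.Topology.Sheaves.Flasque

/-!
# Degrees of subsheaves and quotients of vector bundles on a curve
-/

universe u

open CategoryTheory AlgebraicGeometry Limits TopologicalSpace Opposite
open Groth.Agent.PullStalk.Sky Groth.Agent.PullStalk.Exact

set_option linter.style.haveILetI false

namespace Groth.Agent.VBLib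

/-- A proper integral curve over a field with valuation rings as local rings. -/
structure GoodCurve (k : Type u) [Field k] (X : Scheme.{u}) [X.Over (Spec (CommRingCat.of k))]
    [IsIntegral X] : Prop where
  proper : IsProper (X ↘ Spec (CommRingCat.of k))
  val : ∀ x : X, ValuationRing (X.presheaf.stalk x)
  dim : topologicalKrullDim X = 1

variable {k : Type u} [Field k] {X : Scheme.{u}} [X.Over (Spec (CommRingCat.of k))] [IsIntegral X]

/-- Smooth proper curves are good. -/
theorem goodCurve_of_smooth [IsProper (X ↘ Spec (CommRingCat.of k))]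
    [Smooth (X ↘ Spec (CommRingCat.of k))] (hdim : topologicalKrullDim X = 1) : GoodCurve k X :=
  ⟨inferInstance, CurveCoh.valuationRing_stalk k X hdim, hdim⟩

variable (hX : GoodCurve k X)

include hX

lemma GoodCurve.isLocallyNoetherian : IsLocallyNoetherian X :=
  haveI := hX.proper
  LocallyOfFiniteType.isLocallyNoetherian (X ↘ Spec (CommRingCat.of k))

lemma GoodCurve.pid (x : X) : IsPrincipalIdealRing (X.presheaf.stalk x) := by
  haveI := hX.isLocallyNoetherian
  haveI := hX.val x
  haveI : IsNoetherianRing (X.presheaf.stalk x) := inferInstance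
  exact (IsBezout.TFAE.out 0 1).mp this

/-- A quasi-coherent submodule of a vector bundle is a vector bundle. -/
theorem GoodCurve.sub {M N : X.Modules} (i : M ⟶ N) [Mono i] (hM : M.IsQuasicoherent)
    (hN : FlatMod.IsFinLocFree N) : FlatMod.IsFinLocFree M :=
  haveI := hX.isLocallyNoetherian
  haveI := hM
  isFinLocFree_of_mono hX.pid i hN

variable (k) in
omit [IsIntegral X] hX in
/-- The degree of a vector bundle of unspecified rank. -/
noncomputable def dg [IsIntegral X] (M : X.Modules) : ℤ := Curv2.deg k X M (rk M)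

omit hX in
lemma dg_eq {M : X.Modules} {n : ℕ} (h : FlatMod.IsFinLocFreeOfRank n M) :
    Curv2.deg k X M n = dg k M := by
  rw [dg, rk_eq h]

/-- Additivity of the Euler characteristic. -/
theorem GoodCurve.euler_add {S : ShortComplex X.Modules} (hS : S.ShortExact) (h₁ : Coh.IsCoh S.X₁)
    (h₂ : Coh.IsCoh S.X₂) (h₃ : Coh.IsCoh S.X₃) :
    Curv2.euler k X S.X₂ = Curv2.euler k X S.X₁ + Curv2.euler k X S.X₃ :=
  haveI := hX.proper
  CurveCoh.euler_additive k hS hX.val hX.dim h₁ h₂ h₃

/-- Additivity of the degree. -/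
theorem GoodCurve.dg_add {S : ShortComplex X.Modules} (hS : S.ShortExact) (h₁ : Coh.IsCoh S.X₁)
    (h₂ : Coh.IsCoh S.X₂) (h₃ : Coh.IsCoh S.X₃) : dg k S.X₂ = dg k S.X₁ + dg k S.X₃ := by
  simp only [dg, Curv2.deg, hX.euler_add hS h₁ h₂ h₃, rk_add hS h₂, Nat.cast_add]
  ring

/-- The degree of a module and of its subobject and quotient. -/
theorem GoodCurve.dg_mono_cokernel {G E : X.Modules} (i : G ⟶ E) [Mono i] (hG : Coh.IsCoh G)
    (hE : Coh.IsCoh E) :
    dg k E = dg k G + dg k (cokernel i) ∧ rk E = rk G + rk (cokernel i) := by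
  let S := ShortComplex.mk i (cokernel.π i) (cokernel.condition i)
  have hS : S.ShortExact := { exact := S.exact_of_g_is_cokernel (cokernelIsCokernel i) }
  have h1 := hX.dg_add hS hG hE (isCoh_cokernel i hG hE)
  have h2 := rk_add hS hE
  exact ⟨h1, h2⟩

/-- The degree of a module and of the kernel and image of a map out of it. -/
theorem GoodCurve.dg_kernel_image {E F : X.Modules} (f : E ⟶ F) (hE : Coh.IsCoh E) (hF : Coh.IsCoh F) :
    dg k E = dg k (kernel f) + dg k (Abelian.image f) ∧ rk E = rk (kernel f) + rk (Abelian.image f) := by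
  haveI := hX.isLocallyNoetherian
  let S := ShortComplex.mk (kernel.ι f) (Abelian.factorThruImage f)
    ((cancel_mono (Abelian.image.ι f)).mp (by simp))
  have hS : S.ShortExact := by
    refine { exact := ShortComplex.exact_of_f_is_kernel _ ?_ }
    refine KernelFork.IsLimit.ofι' _ _ fun {A} a ha => ⟨kernel.lift f a ?_, kernel.lift_ι _ _ _⟩
    rw [← Abelian.image.fac f, ← Category.assoc]
    exact (congrArg (· ≫ Abelian.image.ι f) ha).trans zero_comp
  have h1 := hX.dg_add hS (isCoh_kernel f hE hF) hE (isCoh_image f hE hF)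
  have h2 := rk_add hS hE
  exact ⟨h1, h2⟩

/-- A torsion module has all stalks zero on an open neighbourhood of the generic point. -/
lemma GoodCurve.exists_open_of_rk_zero {T : X.Modules} (hT : Coh.IsCoh T) (h0 : rk T = 0) :
    ∃ W : X.Opens, genericPoint X ∈ W ∧ ∀ x ∈ W, Subsingleton (T.presheaf.stalk x) := by
  classical
  haveI := hT.1
  haveI := hT.2
  let η := genericPoint X
  obtain ⟨_, ⟨U, hU, rfl⟩, hx, -⟩ :=
    X.isBasis_affineOpens.exists_subset_of_mem_open (Set.mem_univ η) isOpen_univ
  haveI := QCoh.finite_sections_of_isFiniteType T (show IsAffineOpen U from hU)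
  obtain ⟨n, m, hm⟩ := Module.Finite.exists_fin (R := Γ(X, U)) (M := Γ(T, U))
  haveI : Subsingleton (T.presheaf.stalk η) := by
    letI : Field (X.presheaf.stalk η) := inferInstanceAs (Field X.functionField)
    haveI : Module.Finite (X.presheaf.stalk η) (T.presheaf.stalk η) := finite_stalk hT η
    exact Module.finrank_zero_iff.mp h0
  have hz : ∀ i, ∃ (W : X.Opens) (hW : η ∈ W) (h : W ≤ U), QCoh.res T h (m i) = 0 := by
    intro i
    obtain ⟨W, hW, i₁, i₂, he⟩ := T.presheaf.germ_eq η hx hx (m i) 0 (Subsingleton.elim _ _)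
    exact ⟨W, hW, i₁.le, he.trans (map_zero _)⟩
  choose W hW hWU hres using hz
  refine ⟨⟨(U : Set X) ∩ ⋂ i, (W i : Set X), U.2.inter (isOpen_iInter_of_finite fun i => (W i).2)⟩,
    ⟨hx, Set.mem_iInter.mpr hW⟩, ?_⟩
  rintro y ⟨hy, hyW⟩
  have hspan := Props.QRank.span_germ_eq_top T hU hm hy
  have hzero : ∀ i, germM T U y hy (m i) = 0 := fun i => by
    refine (T.presheaf.germ_res_apply (homOfLE (hWU i)) y (Set.mem_iInter.mp hyW i) (m i)).symm.trans ?_
    exact (congrArg (T.presheaf.germ (W i) y (Set.mem_iInter.mp hyW i)) (hres i)).trans (map_zero _)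
  have hbot : (⊤ : Submodule (X.presheaf.stalk y) (T.presheaf.stalk y)) = ⊥ := by
    rw [← hspan, eq_bot_iff]
    refine Submodule.span_le.mpr ?_
    rintro _ ⟨i, rfl⟩
    exact (hzero i)
  exact (Submodule.subsingleton_iff (X.presheaf.stalk y)).mp (subsingleton_iff_bot_eq_top.mp hbot.symm)

/-- A torsion coherent module on a curve is flasque. -/
theorem GoodCurve.isFlasque_of_rk_zero {T : X.Modules} (hT : Coh.IsCoh T) (h0 : rk T = 0) :
    TopCat.Sheaf.IsFlasque (X := X.toPresheafedSpace.carrier) (Coh.toAb T) := by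
  haveI := hX.proper
  haveI : CompactSpace X := QuasiCompact.compactSpace_of_compactSpace (X ↘ Spec (CommRingCat.of k))
  obtain ⟨W, hW, hsub⟩ := hX.exists_open_of_rk_zero hT h0
  have hfin : (Wᶜ : Set X).Finite :=
    VarDim.finite_of_isClosed k hX.dim W.2.isClosed_compl (fun h => h hW)
  constructor
  rintro ⟨U⟩ ⟨V⟩ i
  rw [AddCommGrpCat.epi_iff_surjective]
  intro s
  have hVU : V ≤ U := leOfHom i.unop
  let F : Set X := (Wᶜ : Set X) ∩ V
  have hFcl : IsClosed F := by
    have hFfin : F.Finite := hfin.subset Set.inter_subset_left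
    rw [← Set.biUnion_of_singleton F]
    refine hFfin.isClosed_biUnion fun x hx => ?_
    exact VarDim.isClosed_singleton_of_ne_genericPoint k hX.dim fun h => hx.1 (h ▸ hW)
  let V' : X.Opens := U ⊓ ⟨Fᶜ, hFcl.isOpen_compl⟩
  let cov : Bool → X.Opens := fun b => if b then V else V'
  let sf : ∀ b, Γ(T, cov b) := fun b => match b with
    | true => s
    | false => 0
  have hz : ∀ (O : X.Opens), O ≤ V → O ≤ V' → ∀ a b : Γ(T, O), a = b := by
    intro O h1 h2 a b
    refine TopCat.Presheaf.section_ext ⟨T.presheaf, T.isSheaf⟩ O a b fun x hx => ?_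
    haveI := hsub x (by
      by_contra h
      exact (h2 hx).2 ⟨h, h1 hx⟩)
    exact Subsingleton.elim _ _
  obtain ⟨t, ht, -⟩ := TopCat.Sheaf.existsUnique_gluing' (⟨T.presheaf, T.isSheaf⟩ : TopCat.Sheaf Ab X)
    cov U (fun b => homOfLE (by cases b; exacts [inf_le_left, hVU]))
    (fun x hx => Opens.mem_iSup.mpr (by
      by_cases h : x ∈ V
      · exact ⟨true, h⟩
      · exact ⟨false, hx, fun hF => h hF.2⟩)) sf (by
      intro a b
      cases a <;> cases b
      · rfl
      · exact hz (cov false ⊓ cov true) inf_le_right inf_le_left _ _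
      · exact hz (cov true ⊓ cov false) inf_le_left inf_le_right _ _
      · rfl)
  exact ⟨t, ht true⟩

/-- A torsion coherent module has nonnegative Euler characteristic, zero only if it vanishes. -/
theorem GoodCurve.euler_torsion {T : X.Modules} (hT : Coh.IsCoh T) (h0 : rk T = 0) :
    0 ≤ Curv2.euler k X T ∧ (Curv2.euler k X T = 0 → IsZero T) := by
  haveI := hX.proper
  haveI := hT.1
  haveI := hX.isFlasque_of_rk_zero hT h0
  haveI : Subsingleton (Coh.HH X T 1) :=
    CohTop.Flasque.H_subsingleton (X := X.toPresheafedSpace.carrier) (Coh.toAb T) 0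
  have he : Curv2.euler k X T = Module.finrank k (Coh.HH X T 0) := by
    rw [CurveCoh.euler_eq T hX.val hX.dim, Module.finrank_zero_of_subsingleton (M := Coh.HH X T 1)]
    simp
  refine ⟨he ▸ Int.natCast_nonneg _, fun h => ?_⟩
  haveI := CurveCoh.finite_HH_zero (k := k) T hX.val hX.dim hT
  haveI : Subsingleton (Coh.HH X T 0) := Module.finrank_zero_iff.mp (by omega : Module.finrank k (Coh.HH X T 0) = 0)
  haveI : Subsingleton Γ(T, ⊤) :=
    (Sheaf.H.equiv₀ (Coh.toAb T) isTerminalTop).symm.injective.subsingleton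
  rw [IsZero.iff_id_eq_zero]
  ext U m
  change m = 0
  have hsur := TopCat.Presheaf.IsFlasque.epi (X := X.toPresheafedSpace.carrier) (F := (Coh.toAb T).obj) (homOfLE (le_top : U ≤ ⊤)).op
  obtain ⟨t, rfl⟩ := (AddCommGrpCat.epi_iff_surjective _).mp hsur m
  rw [Subsingleton.elim (α := Γ(T, ⊤)) t 0]
  exact map_zero _

/-- A torsion coherent module has nonnegative degree, zero only if it vanishes. -/
theorem GoodCurve.dg_torsion {T : X.Modules} (hT : Coh.IsCoh T) (h0 : rk T = 0) :
    0 ≤ dg k T ∧ (dg k T = 0 → IsZero T) := by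
  have h := hX.euler_torsion hT h0
  simp only [dg, Curv2.deg, h0, Nat.cast_zero, zero_mul, sub_zero]
  exact h

/-- A subbundle of the same rank has degree at most that of the bundle, with equality only for
isomorphisms. -/
theorem GoodCurve.dg_le_of_mono {G E : X.Modules} (i : G ⟶ E) [Mono i] (hG : Coh.IsCoh G)
    (hE : Coh.IsCoh E) (h : rk G = rk E) : dg k G ≤ dg k E ∧ (dg k G = dg k E → IsIso i) := by
  obtain ⟨h1, h2⟩ := hX.dg_mono_cokernel i hG hE
  obtain ⟨h3, h4⟩ := hX.dg_torsion (isCoh_cokernel i hG hE) (by omega)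
  refine ⟨by omega, fun he => ?_⟩
  have hz := h4 (by omega)
  haveI : Epi i := Preadditive.epi_of_isZero_cokernel i hz
  exact isIso_of_mono_of_epi i

/-- Every subbundle sits in a saturated one of the same rank and no smaller degree, whose quotient is a
vector bundle. -/
theorem GoodCurve.exists_saturation {G E : X.Modules} (i : G ⟶ E) [Mono i] (hG : Coh.IsCoh G)
    (hE : FlatMod.IsFinLocFree E) :
    ∃ (G' : X.Modules) (j : G ⟶ G') (i' : G' ⟶ E), j ≫ i' = i ∧ Mono j ∧ Mono i' ∧
      FlatMod.IsFinLocFree G' ∧ FlatMod.IsFinLocFree (cokernel i') ∧ rk G' = rk G ∧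
      dg k G ≤ dg k G' := by
  haveI := hX.isLocallyNoetherian
  have hEc := isCoh_of_isFinLocFree hE
  haveI := hEc.1
  let V := LinearMap.range (stalkLin i (genericPoint X))
  obtain ⟨j, hj⟩ := exists_lift_genSub i
  haveI : Mono (j ≫ genIncl V) := by rw [hj]; infer_instance
  haveI : Mono j := mono_of_mono j (genIncl V)
  have hq := isQuasicoherent_genSub V
  have hG' : FlatMod.IsFinLocFree (genSub V) := hX.sub (genIncl V) hq hE
  have hG'c := isCoh_of_isFinLocFree hG'
  have hrk : rk (genSub V) = rk G := by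
    rw [rk_genSub]
    exact LinearMap.finrank_range_of_inj (stalkLin_injective i _)
  refine ⟨genSub V, j, genIncl V, hj, inferInstance, inferInstance, hG',
    isFinLocFree_of_torsionFree hX.pid (isCoh_cokernel _ hG'c hEc) (isTorsionFree_stalk_cokernel V),
    hrk, (hX.dg_le_of_mono j hG hG'c hrk.symm).1⟩

/-- The degrees of subbundles of a bundle are bounded above. -/
theorem GoodCurve.dg_bddAbove {E : X.Modules} (hE : Coh.IsCoh E) :
    ∃ N : ℤ, ∀ (F : X.Modules) (i : F ⟶ E), Mono i → Coh.IsCoh F → dg k F ≤ N := by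
  haveI := hX.proper
  refine ⟨Module.finrank k (Coh.HH X E 0) + rk E * |Curv2.euler k X (Coh.structureModule X)|,
    fun F i hi hF => ?_⟩
  haveI := hF.1
  haveI := CurveCoh.finite_HH_zero (k := k) E hX.val hX.dim hE
  have hle : Module.finrank k (Coh.HH X F 0) ≤ Module.finrank k (Coh.HH X E 0) := by
    let S := ShortComplex.mk i (cokernel.π i) (cokernel.condition i)
    have hS : S.ShortExact := { exact := S.exact_of_g_is_cokernel (cokernelIsCokernel i) }
    exact LinearMap.finrank_le_finrank_of_injective (CurveCoh.injective_mapL_zero k hS)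
  have hr : rk F ≤ rk E := rk_le_of_mono i hE
  have hr' : (rk F : ℤ) * |Curv2.euler k X (Coh.structureModule X)| ≤
      (rk E : ℤ) * |Curv2.euler k X (Coh.structureModule X)| :=
    mul_le_mul_of_nonneg_right (by exact_mod_cast hr) (abs_nonneg _)
  have hneg : -((rk F : ℤ) * Curv2.euler k X (Coh.structureModule X)) ≤
      (rk F : ℤ) * |Curv2.euler k X (Coh.structureModule X)| := by
    rw [← mul_neg]
    exact mul_le_mul_of_nonneg_left (neg_le_abs _) (Int.natCast_nonneg _)
  simp only [dg, Curv2.deg, CurveCoh.euler_eq F hX.val hX.dim]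
  omega

end Groth.Agent.VBLib
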