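import Groth.Agent.VBLib.MulSec
import Groth.Agent.EulerChar.Curve
import Groth.Agent.AmpleLib.Basic
import Groth.Prelude.Def_KLin
import Mathlib.LinearAlgebra.Charpoly.Basic
import Mathlib.RingTheory.LocalRing.Basic

/-!
# `h⁰(L) ≤ deg L + 1` on an integral proper curve, with equality of positive degree only in genus zero

For a nonzero section `s` with divisor `D`, equality makes `H⁰(L) → H⁰(L|D)` surjective. Then every
family of germs along `D` is attained modulo `sⁿ` by sections of `L^⊗n`, so multiplication by `s` is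
bijective on `H¹`; a monic polynomial in two sections then kills `H¹(O)` and is surjective on `H¹`.
-/

set_option linter.style.haveILetI false

universe u

open CategoryTheory Limits AlgebraicGeometry Opposite TopologicalSpace

noncomputable section

namespace Groth.Agent.VBLib.GenusZero

open Groth.Agent.QCoh Groth.Agent.Props.GenLocus Groth.Agent.Props.GenTensor
open Groth.Agent.PullStalk.Sky Groth.Agent.PullStalk.Exact Groth.Agent.VBLib.MulSec

variable {X : Scheme.{u}}

/-- A family of germs along a finite set of closed points carrying the support comes from a section. -/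
theorem exists_section_of_stalks (F : X.Modules) (hfin : (CohB1.support F).Finite)
    (hcl : ∀ A : Set X, A ⊆ CohB1.support F → IsClosed A) (ζ : ∀ x : X, F.presheaf.stalk x) :
    ∃ m : Γ(F, ⊤), ∀ x : X, germM F ⊤ x trivial m = ζ x := by
  choose O hO m hm using fun x => exists_germM_eq F x (ζ x)
  let out : X.Opens := ⟨(CohB1.support F)ᶜ, (hcl _ subset_rfl).isOpen_compl⟩
  let rest : X → X.Opens := fun x =>
    ⟨(CohB1.support F \ {x})ᶜ, (hcl _ Set.sdiff_subset).isOpen_compl⟩
  let cov : Option X → X.Opens := fun o => o.elim out fun x => O x ⊓ rest x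
  let sf : ∀ o, Γ(F, cov o) := fun o => match o with
    | none => 0
    | some x => res F inf_le_left (m x)
  have hz : ∀ (W : X.Opens), (∀ y ∈ W, y ∉ CohB1.support F) → ∀ a b : Γ(F, W), a = b := by
    intro W hW a b
    refine TopCat.Presheaf.section_ext ⟨F.presheaf, F.isSheaf⟩ W a b fun y hy => ?_
    haveI : Subsingleton (F.presheaf.stalk y) := not_not.1 (hW y hy)
    exact Subsingleton.elim _ _
  obtain ⟨t, ht⟩ := exists_glue F (U := cov) (V := ⊤) (fun o => le_top)
    (fun x _ => Opens.mem_iSup.mpr (by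
      by_cases hx : x ∈ CohB1.support F
      · exact ⟨some x, hO x, fun h => h.2 rfl⟩
      · exact ⟨none, hx⟩)) sf (by
    rintro (_ | a) (_ | b)
    · rfl
    · exact hz (cov none ⊓ cov (some b)) (fun y hy => hy.1) _ _
    · exact hz (cov (some a) ⊓ cov none) (fun y hy => hy.2) _ _
    · by_cases hab : a = b
      · subst hab; rfl
      · exact hz (cov (some a) ⊓ cov (some b)) (fun y hy hs => hab
          ((by_contra fun h => hy.1.2 ⟨hs, h⟩ : y = a).symm.trans
            (by_contra fun h => hy.2.2 ⟨hs, h⟩ : y = b))) _ _)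
  refine ⟨t, fun x => ?_⟩
  by_cases hx : x ∈ CohB1.support F
  · have hxc : x ∈ cov (some x) := ⟨hO x, fun h => h.2 rfl⟩
    refine ((F.presheaf.germ_res_apply (homOfLE le_top) x hxc t).symm.trans
      (congrArg (F.presheaf.germ (cov (some x)) x hxc) (ht (some x)))).trans ?_
    exact (F.presheaf.germ_res_apply (homOfLE inf_le_left) x hxc (m x)).trans (hm x)
  · haveI : Subsingleton (F.presheaf.stalk x) := not_not.1 hx
    exact Subsingleton.elim _ _

/-- The germ of a generator generates the stalk freely. -/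
lemma bijective_smul_germ {M : X.Modules} {U : X.Opens} {e : Γ(M, U)} (he : IsGen M U e) (x : X)
    (hx : x ∈ U) : Function.Bijective fun a : X.presheaf.stalk x => a • germM M U x hx e := by
  have h := ((isGen_iff_isFrame e).mp he).stalkComb_bijective x hx
  rw [show (fun a : X.presheaf.stalk x => a • germM M U x hx e) =
      LFFrame.stalkComb M (fun _ : Fin 1 => e) x hx ∘ (Equiv.funUnique (Fin 1) _).symm from
    funext fun a => by
      show _ = Fintype.linearCombination _ _ _
      rw [Fintype.linearCombination_apply, Fin.sum_univ_one]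
      rfl]
  exact h.comp (Equiv.bijective _)

lemma stalkLin_add_apply {M N : X.Modules} (f g : M ⟶ N) (x : X) (t : M.presheaf.stalk x) :
    stalkLin (f + g) x t = stalkLin f x t + stalkLin g x t := by
  obtain ⟨U, hx, m, rfl⟩ := exists_germM_eq M x t
  rw [stalkLin_germ, stalkLin_germ, stalkLin_germ]
  exact map_add (N.presheaf.germ U x hx).hom _ _

lemma stalkLin_comp_apply {M N P : X.Modules} (f : M ⟶ N) (g : N ⟶ P) (x : X)
    (t : M.presheaf.stalk x) : stalkLin (f ≫ g) x t = stalkLin g x (stalkLin f x t) := by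
  obtain ⟨U, hx, m, rfl⟩ := exists_germM_eq M x t
  rw [stalkLin_germ, stalkLin_germ, stalkLin_germ]
  rfl

section Over

variable (k : Type u) [Field k] [X.Over (Spec (CommRingCat.of k))]

/-- The constant `c` as a germ at `x`. -/
abbrev cst (x : X) : k →+* X.presheaf.stalk x :=
  (X.presheaf.germ ⊤ x trivial).hom.comp (Coh.toGlobal (X ↘ Spec (CommRingCat.of k)))

lemma stalkLin_smul_apply {M N : X.Modules} (c : k) (f : M ⟶ N) (x : X) (t : M.presheaf.stalk x) :
    stalkLin (c • f) x t = cst k x c • stalkLin f x t := by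
  obtain ⟨U, hx, m, rfl⟩ := exists_germM_eq M x t
  rw [stalkLin_germ, stalkLin_germ]
  refine (congrArg (germM N U x hx) (KLin.smul_app_apply c f U m)).trans ?_
  refine (germM_smul N U x hx _ _).trans ?_
  exact congrArg (fun z => z • germM N U x hx (f.app U m)) (X.presheaf.germ_res_apply _ x hx _)

lemma mapL_comp {F G H : X.Modules} (f : F ⟶ G) (g : G ⟶ H) (n : ℕ) :
    CurveCoh.mapL k (f ≫ g) n = CurveCoh.mapL k g n ∘ₗ CurveCoh.mapL k f n := by
  refine LinearMap.ext fun y => ?_
  show Sheaf.H.map ((CurveCoh.toAbF X).map (f ≫ g)) n y = Sheaf.H.map _ n (Sheaf.H.map _ n y)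
  rw [Functor.map_comp, Sheaf.H.map_comp_apply]

lemma mapL_id (F : X.Modules) (n : ℕ) : CurveCoh.mapL k (𝟙 F) n = LinearMap.id := by
  refine LinearMap.ext fun y => ?_
  show Sheaf.H.map ((CurveCoh.toAbF X).map (𝟙 F)) n y = y
  rw [CategoryTheory.Functor.map_id, Sheaf.H.map_id_apply]

lemma mapL_add {F G : X.Modules} (f g : F ⟶ G) (n : ℕ) :
    CurveCoh.mapL k (f + g) n = CurveCoh.mapL k f n + CurveCoh.mapL k g n := by
  refine LinearMap.ext fun y => ?_
  show ((Sheaf.functorH _ n).map ((CurveCoh.toAbF X).map (f + g))).hom y = _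
  rw [Functor.map_add, Functor.map_add]
  rfl

lemma mapL_smul {F G : X.Modules} (c : k) (f : F ⟶ G) (n : ℕ) :
    CurveCoh.mapL k (c • f) n = c • CurveCoh.mapL k f n := by
  rw [KLin.smul_def, mapL_comp]
  refine LinearMap.ext fun y => ?_
  show CurveCoh.mapL k f n (c • y) = c • CurveCoh.mapL k f n y
  exact map_smul _ c y

lemma aeval_apply_eq {K V : Type*} [Field K] [AddCommGroup V] [Module K V] (A : Module.End K V)
    (p : Polynomial K) (y : V) :
    Polynomial.aeval A p y = A (Polynomial.aeval A p.divX y) + p.coeff 0 • y := by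
  conv_lhs => rw [← p.X_mul_divX_add]
  rw [map_add, map_mul, Polynomial.aeval_X, Polynomial.aeval_C, LinearMap.add_apply,
    Module.End.mul_apply, Module.algebraMap_end_apply]

/-- `H⁰` as sections. -/
abbrev toSec (M : X.Modules) : Coh.HH X M 0 ≃+ Γ(M, ⊤) := Sheaf.H.equiv₀ (Coh.toAb M) isTerminalTop

lemma toSec_mapL {M N : X.Modules} (f : M ⟶ N) (y : Coh.HH X M 0) :
    toSec N (CurveCoh.mapL k f 0 y) = f.app ⊤ (toSec M y) :=
  (Sheaf.H.equiv₀_naturality (f := (CurveCoh.toAbF X).map f) isTerminalTop y).symm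

variable [IsIntegral X] [IsProper (X ↘ Spec (CommRingCat.of k))]
variable {N L : X.Modules} (hN : PicF.IsInvertible N) (hL : PicF.IsInvertible L) (φ : N ⟶ L) (hφ : φ ≠ 0)
  (hdim : topologicalKrullDim X = 1)

lemma isCoh_of_invertible {M : X.Modules} (h : PicF.IsInvertible M) : Coh.IsCoh M :=
  VBLib.isCoh_of_ofRank (ProjTwist.isFinLocFreeOfRank_one h)

omit [IsIntegral X] in
lemma shortExact_cokernel [Mono φ] :
    (ShortComplex.mk φ (cokernel.π φ) (cokernel.condition φ)).ShortExact :=
  { exact := ShortComplex.exact_of_g_is_cokernel _ (cokernelIsCokernel φ)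
    mono_f := inferInstance
    epi_g := inferInstanceAs (Epi (cokernel.π φ)) }

include k hN hL hφ hdim in
lemma cokernel_props : Mono φ ∧ Coh.IsCoh (cokernel φ) ∧
    topologicalKrullDim ↥(CohB1.support (cokernel φ)) ≤ 0 := by
  haveI := EulerChar.isNoetherian k (X := X)
  have hC : Coh.IsCoh (cokernel φ) :=
    CohDev.isCoh_cokernel φ (isCoh_of_invertible hN).1 (isCoh_of_invertible hL)
  exact ⟨EulerChar.mono_of_ne_zero hN hL φ hφ, hC, EulerChar.dim_support_le_zero k hdim hC
    (CohDev.not_mem_support_cokernel φ (EulerChar.bijective_stalk_generic hN hL φ hφ).2)⟩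

include hN hL hφ hdim in
/-- A nonzero map of invertible modules is surjective on `H¹`. -/
theorem surjective_mapL_one : Function.Surjective (CurveCoh.mapL k φ 1) := by
  obtain ⟨hm, hC, hd⟩ := cokernel_props k hN hL φ hφ hdim
  haveI := hm
  haveI := EulerChar.subsingleton_HH_of_support k hC hd 0
  intro y
  exact ((CurveCoh.exact_mapL k (shortExact_cokernel φ) 1) y).mp (Subsingleton.elim _ _)

/-- Every family of germs is attained by a global section modulo the image of `φ`. -/
def Attains : Prop :=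
  ∀ c : ∀ x : X, L.presheaf.stalk x, ∃ τ : Γ(L, ⊤),
    ∀ x, germM L ⊤ x trivial τ - c x ∈ LinearMap.range (stalkLin φ x)

include hN hL hφ hdim in
theorem injective_mapL_one (h : Attains φ) : Function.Injective (CurveCoh.mapL k φ 1) := by
  obtain ⟨hm, hC, hd⟩ := cokernel_props k hN hL φ hφ hdim
  haveI := hm
  have hS := shortExact_cokernel φ
  have hsur : Function.Surjective (CurveCoh.mapL k (cokernel.π φ) 0) := by
    intro z
    choose c hc using fun x => (stalk_exact hS x).2.2 (germM (cokernel φ) ⊤ x trivial (toSec _ z))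
    obtain ⟨τ, hτ⟩ := h c
    refine ⟨(toSec L).symm τ, (toSec _).injective ?_⟩
    rw [toSec_mapL, AddEquiv.apply_symm_apply]
    refine TopCat.Presheaf.section_ext ⟨(cokernel φ).presheaf, (cokernel φ).isSheaf⟩ ⊤ _ _ fun x hx => ?_
    refine ((stalkLin_germ (cokernel.π φ) ⊤ x hx τ).symm.trans ?_).trans (hc x)
    have h2 := ((stalk_exact hS x).2.1 _).mpr (hτ x)
    rwa [map_sub, sub_eq_zero] at h2
  rw [injective_iff_map_eq_zero]
  intro y hy
  obtain ⟨z, rfl⟩ := (CurveCoh.exact_deltaL_mapL k hS 0 1 rfl y).mp hy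
  obtain ⟨w, rfl⟩ := hsur z
  exact ((CurveCoh.exact_mapL_deltaL k hS 0 1 rfl).apply_apply_eq_zero w)

variable (h0 : Module.finrank k (Coh.HH X (Coh.structureModule X) 0) = 1)
variable (f : Coh.structureModule X ⟶ L) (hf : f ≠ 0)

include k h0 hL hf hdim in
/-- `h⁰(L) ≤ deg L + 1`; in case of equality the sections attain all germs modulo a given one, and for
positive degree that section has a zero. -/
theorem h0_le : (Module.finrank k (Coh.HH X L 0) : ℤ) ≤ Curv2.deg k X L 1 + 1 ∧
    ((Module.finrank k (Coh.HH X L 0) : ℤ) = Curv2.deg k X L 1 + 1 → Attains f ∧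
      (0 < Curv2.deg k X L 1 → ∃ x, ¬ Function.Surjective (stalkLin f x))) := by
  have hO : PicF.IsInvertible (Coh.structureModule X) := LFFrame.isInvertible_structureModule X
  obtain ⟨hm, hC, hd⟩ := cokernel_props k hO hL f hf hdim
  haveI := hm
  have hS := shortExact_cokernel f
  haveI := EulerChar.finite_HH k L (isCoh_of_invertible hL) 0
  haveI := EulerChar.finite_HH k (cokernel f) hC 0
  have hdeg : Curv2.deg k X L 1 = (Module.finrank k (Coh.HH X (cokernel f) 0) : ℤ) := by
    rw [Curv2.deg, EulerChar.euler_add' k f (cokernel.π f) (cokernel.condition f) hS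
      (isCoh_of_invertible hO) (isCoh_of_invertible hL) hC,
      EulerChar.euler_eq_finrank_of_support k hC hd]
    push_cast
    ring
  have e1 := CurveCoh.finrank_exact₃ k _ _ (CurveCoh.exact_mapL k hS 0)
  have e0 := LinearMap.finrank_range_of_inj (CurveCoh.injective_mapL_zero k hS)
  change Module.finrank k (LinearMap.range (CurveCoh.mapL k f 0)) =
    Module.finrank k (Coh.HH X (Coh.structureModule X) 0) at e0
  simp only at e1
  rw [e0, h0] at e1
  have hle := Submodule.finrank_le (LinearMap.range (CurveCoh.mapL k (cokernel.π f) 0))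
  refine ⟨by omega, fun heq => ⟨?_, fun hpos => ?_⟩⟩
  · have htop : LinearMap.range (CurveCoh.mapL k (cokernel.π f) 0) = ⊤ :=
      Submodule.eq_top_of_finrank_eq (by omega)
    intro c
    have hcl := fun A hA => (EulerChar.isClosed_of_subset_support k hC hd (A := A) hA).1
    obtain ⟨ζ, hζ⟩ := exists_section_of_stalks (cokernel f)
      (EulerChar.isClosed_of_subset_support k hC hd subset_rfl).2 hcl
      (fun x => stalkLin (cokernel.π f) x (c x))
    obtain ⟨w, hw⟩ := (LinearMap.range_eq_top.mp htop) ((toSec _).symm ζ)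
    refine ⟨toSec L w, fun x => ((stalk_exact hS x).2.1 _).mp ?_⟩
    refine (map_sub (stalkLin (cokernel.π f) x) _ _).trans (sub_eq_zero.mpr ?_)
    refine (stalkLin_germ (cokernel.π f) ⊤ x trivial _).trans (Eq.trans ?_ (hζ x))
    refine congrArg (germM (cokernel f) ⊤ x trivial) ?_
    exact ((toSec_mapL k (cokernel.π f) w).symm.trans (congrArg (toSec (cokernel f)) hw)).trans
      ((toSec (cokernel f)).apply_symm_apply ζ)
  · by_contra hall
    push Not at hall
    haveI : Subsingleton (Coh.HH X (cokernel f) 0) := by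
      haveI : Subsingleton Γ(cokernel f, ⊤) := ⟨fun a b => ?_⟩
      · exact (toSec (cokernel f)).injective.subsingleton
      refine TopCat.Presheaf.section_ext ⟨(cokernel f).presheaf, (cokernel f).isSheaf⟩ ⊤ a b fun x hx => ?_
      haveI : Subsingleton ((cokernel f).presheaf.stalk x) := by
        refine subsingleton_of_forall_eq 0 fun y => ?_
        obtain ⟨l, rfl⟩ := (stalk_exact hS x).2.2 y
        exact ((stalk_exact hS x).2.1 l).mpr (hall x l)
      exact Subsingleton.elim _ _
    rw [Module.finrank_zero_of_subsingleton] at hdeg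
    simp at hdeg
    omega

end Over

section Genus

variable (k : Type u) [Field k] [X.Over (Spec (CommRingCat.of k))] [IsIntegral X]
  [IsProper (X ↘ Spec (CommRingCat.of k))] (hdim : topologicalKrullDim X = 1)
variable {L : X.Modules} (hL : PicF.IsInvertible L)

include k hdim hL in
/-- If the sections of `L` attain all germs modulo a section vanishing somewhere, `H¹(O) = 0`. -/
theorem subsingleton_H1 (s : Γ(L, ⊤)) (hs : s ≠ 0) (hat : Attains (homOfSec s))
    (hzero : ∃ x, ¬ Function.Surjective (stalkLin (homOfSec s) x)) :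
    Subsingleton (Coh.HH X (Coh.structureModule X) 1) := by
  choose U e hxU he using exists_isGen hL
  choose cf hcf using fun (σ : Γ(L, ⊤)) (x : X) =>
    (bijective_smul_germ (he x) x (hxU x)).2 (germM L ⊤ x trivial σ)
  simp only at hcf
  let t : ∀ x, X.presheaf.stalk x := cf s
  let P : ℕ → X.Modules := CohB1.tensorPow L
  let ε : ∀ (n : ℕ) (x : X), (P n).presheaf.stalk x := fun n x =>
    germM (P n) (U x) x (hxU x) (pw L (e x) n)
  let μ : Γ(L, ⊤) → ∀ n, P n ⟶ P (n + 1) := fun σ n => mulSec (P n) σ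
  have hP : ∀ n, PicF.IsInvertible (P n) := fun n => AmpleLib.isInvertible_tensorPow hL n
  have hinj : ∀ (n : ℕ) (x : X), Function.Bijective fun a : X.presheaf.stalk x => a • ε n x :=
    fun n x => bijective_smul_germ (isGen_pw (he x) n) x (hxU x)
  -- multiplication on stalks
  have hμ : ∀ σ n x (a : X.presheaf.stalk x),
      stalkLin (μ σ n) x (a • ε n x) = (a * cf σ x) • ε (n + 1) x := by
    intro σ n x a
    obtain ⟨w, hw, -⟩ := (he x).exists_eq le_rfl (res L (le_top : U x ≤ ⊤) σ)
    rw [res_self] at hw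
    have hg : X.presheaf.germ (U x) x (hxU x) w = cf σ x := by
      refine (bijective_smul_germ (he x) x (hxU x)).1 ?_
      refine ((germM_smul L (U x) x (hxU x) w (e x)).symm.trans
        (congrArg (germM L (U x) x (hxU x)) hw.symm)).trans ?_
      exact (L.presheaf.germ_res_apply _ x (hxU x) σ).trans (hcf σ x).symm
    rw [← hg]
    exact stalkLin_mulSec (M := P n) hw (pw L (e x) n) x (hxU x) a
  -- the range of multiplication by `s` on `O`
  have hs1 : ∀ x (a : X.presheaf.stalk x),
      stalkLin (homOfSec s) x (a • germM (Coh.structureModule X) ⊤ x trivial (one' ⊤)) =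
        (a * t x) • germM L (U x) x (hxU x) (e x) := by
    intro x a
    rw [map_smul, stalkLin_germ, ← smul_smul, hcf]
    refine congrArg (fun z => a • germM L ⊤ x trivial z) ?_
    exact (sec_homOfSec s ⊤).trans (res_self L _ s)
  have honeO : ∀ x (y : (Coh.structureModule X).presheaf.stalk x), ∃ a : X.presheaf.stalk x,
      a • germM (Coh.structureModule X) ⊤ x trivial (one' ⊤) = y :=
    fun x => (bijective_smul_germ (isGen_one ⊤) x trivial).2
  -- approximation by sections of `L`
  have hQ : ∀ c : ∀ x, X.presheaf.stalk x, ∃ σ : Γ(L, ⊤), ∀ x, ∃ r, cf σ x = c x + t x * r := by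
    intro c
    obtain ⟨σ, hσ⟩ := hat fun x => c x • germM L (U x) x (hxU x) (e x)
    refine ⟨σ, fun x => ?_⟩
    obtain ⟨y, hy⟩ := hσ x
    obtain ⟨a, rfl⟩ := honeO x y
    refine ⟨a, (bijective_smul_germ (he x) x (hxU x)).1 ?_⟩
    show cf σ x • _ = (c x + t x * a) • _
    rw [hs1, mul_comm a] at hy
    rw [hcf, add_smul, hy]
    abel
  -- approximation by sections of powers
  have hA : ∀ n, ∀ c : ∀ x, X.presheaf.stalk x, ∃ τ : Γ(P (n + 1), ⊤),
      ∀ x, ∃ r, germM (P (n + 1)) ⊤ x trivial τ = (c x + t x ^ (n + 1) * r) • ε (n + 1) x := by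
    intro n
    induction n with
    | zero =>
      intro c
      obtain ⟨σ, hσ⟩ := hQ c
      refine ⟨(μ σ 0).app ⊤ (one' ⊤), fun x => ?_⟩
      obtain ⟨r, hr⟩ := hσ x
      refine ⟨r, ?_⟩
      have hε : germM (P 0) ⊤ x trivial (one' ⊤) = (1 : X.presheaf.stalk x) • ε 0 x := by
        rw [one_smul]
        refine ((P 0).presheaf.germ_res_apply (homOfLE (le_top : U x ≤ ⊤)) x (hxU x) (one' ⊤)).symm.trans ?_
        exact congrArg (germM (P 0) (U x) x (hxU x))
          (X.presheaf.map (homOfLE (le_top : U x ≤ ⊤)).op).hom.map_one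
      rw [← stalkLin_germ, hε, hμ, one_mul, pow_one, hr]
    | succ n ih =>
      intro c
      obtain ⟨σ, hσ⟩ := hQ fun _ => 1
      obtain ⟨τ, hτ⟩ := ih c
      choose r hr using hσ
      choose q hq using hτ
      let c' : ∀ x, X.presheaf.stalk x := fun x =>
        -(c x * r x + t x ^ n * q x * (1 + t x * r x))
      obtain ⟨τ', hτ'⟩ := ih c'
      refine ⟨(μ σ (n + 1)).app ⊤ τ + (μ s (n + 1)).app ⊤ τ', fun x => ?_⟩
      obtain ⟨q', hq'⟩ := hτ' x
      refine ⟨q', ?_⟩
      refine (map_add ((P (n + 1 + 1)).presheaf.germ ⊤ x trivial).hom _ _).trans ?_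
      show germM _ ⊤ x trivial ((μ σ (n + 1)).app ⊤ τ) + germM _ ⊤ x trivial ((μ s (n + 1)).app ⊤ τ') = _
      rw [← stalkLin_germ, ← stalkLin_germ, hq, hq', hμ, hμ, hr, ← add_smul]
      refine congrArg (· • ε (n + 1 + 1) x) ?_
      simp only [c']
      ring
  -- multiplication by a section is nonzero
  have ht : t (genericPoint X) ≠ 0 := by
    intro h
    refine hs (EulerChar.eq_zero_of_germ_generic (ProjTwist.isFinLocFreeOfRank_one hL) (U := ⊤) trivial s ?_)
    rw [← hcf s (genericPoint X)]
    change t (genericPoint X) • _ = 0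
    rw [h, zero_smul]
  have hne : ∀ n, μ s n ≠ 0 := by
    intro n h0
    apply ht
    refine (hinj (n + 1) (genericPoint X)).1 ?_
    show t (genericPoint X) • ε (n + 1) _ = (0 : X.presheaf.stalk (genericPoint X)) • ε (n + 1) _
    rw [zero_smul, ← one_mul (t (genericPoint X)), ← hμ s n, h0]
    obtain ⟨W, hW, m, hm⟩ := exists_germM_eq (P n) (genericPoint X)
      ((1 : X.presheaf.stalk (genericPoint X)) • ε n (genericPoint X))
    rw [← hm, stalkLin_germ]
    exact map_zero ((P (n + 1)).presheaf.germ W _ hW).hom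
  -- multiplication by `s` is bijective on `H¹`
  have hbij : ∀ n, Function.Bijective (CurveCoh.mapL k (μ s n) 1) := by
    intro n
    refine ⟨injective_mapL_one k (hP n) (hP (n + 1)) _ (hne n) hdim ?_,
      surjective_mapL_one k (hP n) (hP (n + 1)) _ (hne n) hdim⟩
    intro c
    choose a ha using fun x => (hinj (n + 1) x).2 (c x)
    obtain ⟨τ, hτ⟩ := hA n a
    refine ⟨τ, fun x => ?_⟩
    obtain ⟨r, hr⟩ := hτ x
    refine ⟨(t x ^ n * r) • ε n x, ?_⟩
    rw [hr, ← ha, hμ, ← sub_smul]
    refine congrArg (· • ε (n + 1) x) ?_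
    show _ * t x = _
    ring
  -- powers of `s`
  let S : ∀ n, Coh.structureModule X ⟶ P n := fun n => Nat.rec (𝟙 _) (fun n f => f ≫ μ s n) n
  have hS : ∀ n, Function.Bijective (CurveCoh.mapL k (S n) 1) := by
    intro n
    induction n with
    | zero =>
      show Function.Bijective (CurveCoh.mapL k (𝟙 (P 0)) 1)
      rw [mapL_id]
      exact Function.bijective_id
    | succ n ih =>
      rw [show S (n + 1) = S n ≫ μ s n from rfl, mapL_comp]
      exact (hbij n).comp ih
  obtain ⟨x₀, hx₀⟩ := hzero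
  have ht₀ : t x₀ ∈ IsLocalRing.maximalIdeal (X.presheaf.stalk x₀) := fun hu => hx₀ fun y => by
    obtain ⟨a, rfl⟩ := (bijective_smul_germ (he x₀) x₀ (hxU x₀)).2 y
    obtain ⟨w, hw⟩ := hu
    refine ⟨(a * ((w⁻¹ : (X.presheaf.stalk x₀)ˣ) : X.presheaf.stalk x₀)) •
      germM (Coh.structureModule X) ⊤ x₀ trivial (one' ⊤), ?_⟩
    rw [hs1, mul_assoc, ← hw, Units.inv_mul, mul_one]
  -- a second section, a unit at `x₀`
  obtain ⟨σ, hσ⟩ := hQ fun _ => 1
  have hu₀ : IsUnit (cf σ x₀) := by
    obtain ⟨r, hr⟩ := hσ x₀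
    rw [hr]
    by_contra h
    have hm : (1 : X.presheaf.stalk x₀) + t x₀ * r ∈ IsLocalRing.maximalIdeal _ := h
    have h1 := Ideal.sub_mem _ hm (Ideal.mul_mem_right r _ ht₀)
    rw [add_sub_cancel_right] at h1
    exact (IsLocalRing.maximalIdeal.isMaximal _).ne_top ((Ideal.eq_top_iff_one _).mpr h1)
  let A : Module.End k (Coh.HH X (Coh.structureModule X) 1) :=
    (LinearEquiv.ofBijective _ (hS 1)).symm.toLinearMap ∘ₗ CurveCoh.mapL k (μ σ 0) 1
  have hcomm : ∀ n y, CurveCoh.mapL k (μ σ n) 1 (CurveCoh.mapL k (S n) 1 y) =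
      CurveCoh.mapL k (S (n + 1)) 1 (A y) := by
    intro n
    induction n with
    | zero =>
      intro y
      refine (congrArg (CurveCoh.mapL k (μ σ 0) 1) (LinearMap.congr_fun (mapL_id k (P 0) 1) y)).trans ?_
      exact ((LinearEquiv.ofBijective _ (hS 1)).apply_symm_apply (CurveCoh.mapL k (μ σ 0) 1 y)).symm
    | succ n ih =>
      intro y
      have h := LinearMap.congr_fun (congrArg (fun g => CurveCoh.mapL k g 1)
        (mulSec_comm (hP n) hL s σ)) (CurveCoh.mapL k (S n) 1 y)
      rw [mapL_comp, mapL_comp] at h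
      rw [show S (n + 1 + 1) = S (n + 1) ≫ μ s (n + 1) from rfl, mapL_comp k (S (n + 1)),
        show S (n + 1) = S n ≫ μ s n from rfl, mapL_comp k (S n)]
      refine h.trans ?_
      show CurveCoh.mapL k (μ s (n + 1)) 1 (CurveCoh.mapL k (μ σ n) 1 (CurveCoh.mapL k (S n) 1 y)) = _
      rw [ih y, show S (n + 1) = S n ≫ μ s n from rfl, mapL_comp k (S n)]
      rfl
  -- monic polynomials in the two sections
  let one₀ := germM (Coh.structureModule X) (U x₀) x₀ (hxU x₀) (one' (U x₀))
  have hSt : ∀ j, stalkLin (S j) x₀ one₀ = t x₀ ^ j • ε j x₀ := by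
    intro j
    induction j with
    | zero =>
      rw [show S 0 = 𝟙 _ from rfl, pow_zero, one_smul, stalkLin_germ]
      rfl
    | succ j ih =>
      rw [show S (j + 1) = S j ≫ μ s j from rfl, stalkLin_comp_apply, ih, hμ, pow_succ]
  have hF : ∀ j (p : Polynomial k), p.Monic → p.natDegree = j →
      ∃ F : Coh.structureModule X ⟶ P j,
        (∀ y, CurveCoh.mapL k F 1 y = CurveCoh.mapL k (S j) 1 (Polynomial.aeval A p y)) ∧
        ∃ a : X.presheaf.stalk x₀, IsUnit a ∧ stalkLin F x₀ one₀ = a • ε j x₀ := by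
    intro j
    induction j with
    | zero =>
      intro p hp hdeg
      refine ⟨S 0, fun y => ?_, 1, isUnit_one, ?_⟩
      · rw [hp.natDegree_eq_zero.mp hdeg, map_one]
        rfl
      · rw [hSt, pow_zero]
    | succ j ih =>
      intro p hp hdeg
      have hqd : p.divX.natDegree = j := by
        rw [Polynomial.natDegree_divX_eq_natDegree_tsub_one, hdeg, Nat.add_sub_cancel]
      have hq : p.divX.Monic := by
        rw [Polynomial.Monic, Polynomial.leadingCoeff, hqd, Polynomial.coeff_divX, ← hdeg]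
        exact hp
      obtain ⟨F, hF, a, ha, hFa⟩ := ih p.divX hq hqd
      refine ⟨F ≫ μ σ j + p.coeff 0 • S (j + 1), fun y => ?_,
        a * cf σ x₀ + cst k x₀ (p.coeff 0) * t x₀ ^ (j + 1), ?_, ?_⟩
      · rw [mapL_add, mapL_comp, mapL_smul, LinearMap.add_apply, LinearMap.comp_apply, hF, hcomm,
          LinearMap.smul_apply, aeval_apply_eq A p y, map_add, map_smul]
      · by_contra h
        have hm : cst k x₀ (p.coeff 0) * t x₀ ^ (j + 1) ∈ IsLocalRing.maximalIdeal _ :=
          Ideal.mul_mem_left _ _ (Ideal.pow_mem_of_mem _ ht₀ _ (Nat.succ_pos _))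
        have h' : a * cf σ x₀ + cst k x₀ (p.coeff 0) * t x₀ ^ (j + 1) ∈ IsLocalRing.maximalIdeal _ := h
        have h1 := Ideal.sub_mem _ h' hm
        rw [add_sub_cancel_right] at h1
        exact h1 (ha.mul hu₀)
      · rw [stalkLin_add_apply, stalkLin_comp_apply, stalkLin_smul_apply, hFa, hμ]
        refine (congrArg (fun z => (a * cf σ x₀) • ε (j + 1) x₀ + cst k x₀ (p.coeff 0) • z)
          (hSt (j + 1))).trans ?_
        rw [smul_smul, ← add_smul]
  haveI := EulerChar.finite_HH k (Coh.structureModule X)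
    (isCoh_of_invertible (LFFrame.isInvertible_structureModule X)) 1
  obtain ⟨F, hFH, a, ha, hFa⟩ := hF _ A.charpoly A.charpoly_monic rfl
  have hF0 : F ≠ 0 := by
    intro h
    refine ha.ne_zero ((hinj A.charpoly.natDegree x₀).1 ?_)
    show a • ε _ x₀ = (0 : X.presheaf.stalk x₀) • ε _ x₀
    rw [zero_smul, ← hFa, h, stalkLin_germ]
    exact map_zero ((P _).presheaf.germ (U x₀) x₀ (hxU x₀)).hom
  have hsur := surjective_mapL_one k (LFFrame.isInvertible_structureModule X) (hP _) F hF0 hdim
  refine subsingleton_of_forall_eq 0 fun y => (hS A.charpoly.natDegree).1 ?_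
  obtain ⟨z, hz⟩ := hsur (CurveCoh.mapL k (S A.charpoly.natDegree) 1 y)
  rw [← hz, hFH, LinearMap.aeval_self_charpoly, LinearMap.zero_apply]

end Genus

/-- `h⁰(L) ≤ deg L + 1`, with equality in positive degree only in genus zero. -/
theorem finrank_H0_le (k : Type u) [Field k] [X.Over (Spec (CommRingCat.of k))] [IsIntegral X]
    [IsProper (X ↘ Spec (CommRingCat.of k))] (hdim : topologicalKrullDim X = 1)
    (h0 : Module.finrank k (Coh.HH X (Coh.structureModule X) 0) = 1)
    {L : X.Modules} (hL : PicF.IsInvertible L) (hs : Nontrivial (Coh.HH X L 0)) :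
    (Module.finrank k (Coh.HH X L 0) : ℤ) ≤ Curv2.deg k X L 1 + 1 ∧
      ((Module.finrank k (Coh.HH X L 0) : ℤ) = Curv2.deg k X L 1 + 1 → 0 < Curv2.deg k X L 1 →
        Curv2.genus k X = 0) := by
  obtain ⟨y, hy⟩ := exists_ne (0 : Coh.HH X L 0)
  have hs : toSec L y ≠ 0 := fun h => hy ((toSec L).map_eq_zero_iff.mp h)
  have hf : homOfSec (toSec L y) ≠ 0 := by
    intro h
    apply hs
    refine Eq.trans ((res_self L _ _).symm.trans (sec_homOfSec (toSec L y) ⊤).symm) ?_
    rw [h]
    rfl
  obtain ⟨h1, h2⟩ := h0_le k hL hdim h0 (homOfSec (toSec L y)) hf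
  refine ⟨h1, fun heq hpos => ?_⟩
  haveI := subsingleton_H1 k hdim hL (toSec L y) hs (h2 heq).1 ((h2 heq).2 hpos)
  exact Module.finrank_zero_of_subsingleton

end Groth.Agent.VBLib.GenusZero

end
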