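import Groth.Agent.VBLib.Slope
import Mathlib.RingTheory.Artinian.Module
import Mathlib.CategoryTheory.Endomorphism
import Mathlib.CategoryTheory.Preadditive.Biproducts

/-!
# Fitting decomposition for endomorphisms of vector bundles on a curve
-/

universe u

open CategoryTheory AlgebraicGeometry Limits Filter
open Groth.Agent.PullStalk.Sky Groth.Agent.PullStalk.Exact

set_option linter.style.haveILetI false

namespace Groth.Agent.VBLib

variable {X : Scheme.{u}}

lemma stalkLin_comp {A B C : X.Modules} (f : A ⟶ B) (g : B ⟶ C) (x : X) (t : A.presheaf.stalk x) :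
    stalkLin (f ≫ g) x t = stalkLin g x (stalkLin f x t) := by
  obtain ⟨U, hx, m, rfl⟩ := exists_germM_eq A x t
  rw [stalkLin_germ, stalkLin_germ, stalkLin_germ]
  rfl

lemma stalkLin_id (A : X.Modules) (x : X) (t : A.presheaf.stalk x) : stalkLin (𝟙 A) x t = t := by
  obtain ⟨U, hx, m, rfl⟩ := exists_germM_eq A x t
  rw [stalkLin_germ]
  rfl

lemma stalkLin_pow {E : X.Modules} (g : End E) (x : X) (n : ℕ) :
    stalkLin (g ^ n : End E) x =
      ((stalkLin g x : Module.End (X.presheaf.stalk x) (E.presheaf.stalk x)) ^ n) := by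
  induction n with
  | zero => ext t; exact stalkLin_id E x t
  | succ n ih =>
    ext t
    rw [pow_succ' (stalkLin g x : Module.End (X.presheaf.stalk x) (E.presheaf.stalk x)), pow_succ' g,
      Module.End.mul_apply, ← ih]
    exact stalkLin_comp (g ^ n : End E) g x t

variable {k : Type u} [Field k] [X.Over (Spec (CommRingCat.of k))] [IsIntegral X] (hX : GoodCurve k X)
include hX

/-- An endomorphism of an indecomposable vector bundle is bijective or nilpotent. -/
theorem GoodCurve.isIso_or_nilpotent {E : X.Modules} (hE : FlatMod.IsFinLocFree E)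
    (hind : ∀ (E₁ E₂ : X.Modules), Nonempty (E ≅ E₁ ⊞ E₂) → IsZero E₁ ∨ IsZero E₂) (g : End E) :
    IsUnit g ∨ IsNilpotent g := by
  haveI := hX.isLocallyNoetherian
  let η := genericPoint X
  letI : Field (X.presheaf.stalk η) := inferInstanceAs (Field X.functionField)
  have hEc := isCoh_of_isFinLocFree hE
  haveI : Module.Finite (X.presheaf.stalk η) (E.presheaf.stalk η) := finite_stalk hEc η
  obtain ⟨N, hN⟩ := eventually_atTop.mp
    (LinearMap.eventually_isCompl_ker_pow_range_pow
      (stalkLin g η : Module.End (X.presheaf.stalk η) (E.presheaf.stalk η)))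
  let h : E ⟶ E := (g ^ (N + 1) : End E)
  have hcompl : IsCompl (LinearMap.ker (stalkLin h η)) (LinearMap.range (stalkLin h η)) := by
    have := hN (N + 1) (by omega)
    rwa [← stalkLin_pow] at this
  let I := Abelian.image h
  let F : E ⟶ I := Abelian.factorThruImage h
  let ι : I ⟶ E := Abelian.image.ι h
  have hFι : F ≫ ι = h := Abelian.image.fac h
  have hI : FlatMod.IsFinLocFree I := isFinLocFree_image hX.pid h hEc hE
  have hIc := isCoh_of_isFinLocFree hI
  let e : I ⟶ I := ι ≫ F
  have hinj : Function.Injective (stalkLin e η) := by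
    rw [injective_iff_map_eq_zero]
    intro y hy
    apply stalkLin_injective ι η
    rw [map_zero]
    have h1 : stalkLin ι η y ∈ LinearMap.range (stalkLin h η) := by
      obtain ⟨t, rfl⟩ := stalk_surjective F η y
      exact ⟨t, by rw [← stalkLin_comp, hFι]⟩
    have h2 : stalkLin ι η y ∈ LinearMap.ker (stalkLin h η) := by
      rw [LinearMap.mem_ker, ← hFι, stalkLin_comp]
      show stalkLin ι η (stalkLin F η (stalkLin ι η y)) = 0
      rw [← stalkLin_comp ι F, show stalkLin (ι ≫ F) η y = 0 from hy, map_zero]
    have h3 := Submodule.disjoint_def.mp hcompl.disjoint _ h2 h1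
    exact h3
  have hK := isFinLocFree_kernel hX.pid e hI hIc
  haveI : Mono e := by
    refine mono_of_rk_kernel e hK ?_
    have hz : ∀ t, stalkLin (kernel.ι e) η t = 0 := fun t => hinj (by
      rw [← stalkLin_comp, kernel.condition, map_zero]
      obtain ⟨U, hx, m, rfl⟩ := exists_germM_eq (kernel e) η t
      rw [stalkLin_germ]
      exact map_zero _)
    haveI : Subsingleton ((kernel e).presheaf.stalk η) :=
      ⟨fun a b => stalkLin_injective (kernel.ι e) η (by rw [hz, hz])⟩
    exact Module.finrank_zero_of_subsingleton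
  haveI : IsIso e := (hX.dg_le_of_mono e hIc hIc rfl).2 rfl
  let S := ShortComplex.mk (kernel.ι F) F (kernel.condition F)
  have hS : S.ShortExact := { exact := S.exact_of_f_is_kernel (kernelIsKernel F) }
  let sp : S.Splitting := ShortComplex.Splitting.ofExactOfSection S hS.exact (inv e ≫ ι)
    (by rw [Category.assoc]; exact IsIso.inv_hom_id e) (inferInstanceAs (Mono (kernel.ι F)))
  let iso : E ≅ kernel F ⊞ I :=
    { hom := biprod.lift sp.r F
      inv := biprod.desc (kernel.ι F) (inv e ≫ ι)
      hom_inv_id := by rw [biprod.lift_desc]; exact sp.id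
      inv_hom_id := by
        apply biprod.hom_ext' <;> apply biprod.hom_ext <;> simp only [Category.assoc, biprod.inl_desc_assoc,
          biprod.inr_desc_assoc, biprod.lift_fst, biprod.lift_snd, Category.comp_id, biprod.inl_fst, biprod.inl_snd,
          biprod.inr_fst, biprod.inr_snd]
        · exact sp.f_r
        · exact S.zero
        · rw [← Category.assoc]; exact sp.s_r
        · exact IsIso.inv_hom_id e }
  rcases hind _ _ ⟨iso⟩ with hK0 | hI0
  · left
    haveI : Mono F := Preadditive.mono_of_isZero_kernel F hK0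
    haveI : IsIso F := isIso_of_mono_of_epi F
    haveI : IsIso (ι ≫ F) := inferInstanceAs (IsIso e)
    haveI : IsIso ι := IsIso.of_isIso_comp_right ι F
    haveI : IsIso h := by rw [← hFι]; infer_instance
    exact (isUnit_pow_iff (Nat.succ_ne_zero N)).mp ((isUnit_iff_isIso (f := h)).mpr inferInstance)
  · right
    refine ⟨N + 1, ?_⟩
    show h = 0
    rw [← hFι, hI0.eq_of_tgt F 0, zero_comp]

end Groth.Agent.VBLib
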