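import Groth.Agent.VBLib.FreeSub
import Groth.Agent.KFlat.LocFree
import Groth.Agent.VBLib.Fitting

/-!
# The evaluation map of a semistable bundle of slope above one in genus one, and its kernel
-/

universe u

open CategoryTheory CategoryTheory.Limits AlgebraicGeometry TopologicalSpace Opposite
open Groth.Agent.PullStalk.Sky Groth.Agent.PullStalk.Exact
open Groth.Agent.VBLib.GenusZero Groth.Agent.Props.GenLocus

set_option linter.style.haveILetI false
set_option backward.isDefEq.respectTransparency.types false

noncomputable section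

namespace Groth.Agent.VBLib


lemma isZero_sections {X : Scheme.{u}} {M : X.Modules} (hz : IsZero M) : Subsingleton (Coh.HH X M 0) :=
  ⟨fun a b => by
    have : ∀ x : Coh.HH X M 0, x = 0 := fun x => by
      rw [← CohLin.hMap_id M 0 x, hz.eq_of_src (𝟙 M) 0]
      exact map_zero (CohLin.hMapHom M M 0 x)
    rw [this a, this b]⟩

/-- A finite free module is finite locally free. -/
lemma ofRank_freeMod (X : Scheme.{u}) (n : ℕ) :
    FlatMod.IsFinLocFreeOfRank n (FlatMod.freeMod X n) :=
  fun _ => ⟨⊤, trivial, ⟨(Scheme.Modules.restrictFunctorIsoPullback _).app _ ≪≫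
    KFlat.LocFree.pullFreeIso _ n⟩⟩

variable {k : Type u} [Field k] {X : Scheme.{u}} [X.Over (Spec (CommRingCat.of k))] [IsIntegral X]
  (hX : GoodCurve k X)
include hX

/-- The short exact sequence of a map onto its image. -/
lemma GoodCurve.shortExact_image {A B : X.Modules} (f : A ⟶ B)
    (w : kernel.ι f ≫ Abelian.factorThruImage f = 0) :
    (ShortComplex.mk (kernel.ι f) (Abelian.factorThruImage f) w).ShortExact := by
  refine { exact := ShortComplex.exact_of_f_is_kernel _ ?_ }
  refine KernelFork.IsLimit.ofι' _ _ fun {C} a ha => ⟨kernel.lift f a ?_, kernel.lift_ι _ _ _⟩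
  rw [← Abelian.image.fac f, ← Category.assoc]
  exact (congrArg (· ≫ Abelian.image.ι f) ha).trans zero_comp

/-- A trivial bundle has degree zero. -/
theorem GoodCurve.dg_free {G : X.Modules} (hG : FlatMod.IsFinLocFree G) (n : ℕ)
    (f : Fin n → (G ⟶ Coh.structureModule X)) (s : Fin n → (Coh.structureModule X ⟶ G))
    (hs : ∀ i j, s i ≫ f j = if i = j then 𝟙 _ else 0)
    (hf : ∀ (Z : X.Modules) (g : Z ⟶ G), (∀ i, g ≫ f i = 0) → g = 0) :
    dg k G = 0 ∧ rk G = n := by
  haveI := hX.isLocallyNoetherian
  induction n generalizing G with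
  | zero =>
    have hz : IsZero G := by
      rw [IsZero.iff_id_eq_zero]
      exact hf G (𝟙 G) fun i => i.elim0
    refine ⟨hX.dg_eq_zero_of_isZero (isCoh_of_isFinLocFree hG) hz, ?_⟩
    have h0 : ∀ a : G.presheaf.stalk (genericPoint X), a = 0 := fun a => by
      rw [← VBLib.stalkLin_id G _ a, hz.eq_of_src (𝟙 G) 0]
      obtain ⟨U, hy, m, rfl⟩ := exists_germM_eq G _ a
      rw [stalkLin_germ]
      exact map_zero (G.presheaf.germ U _ hy).hom
    haveI : Subsingleton (G.presheaf.stalk (genericPoint X)) := ⟨fun a b => (h0 a).trans (h0 b).symm⟩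
    exact Module.finrank_zero_of_subsingleton
  | succ n ih =>
    obtain ⟨hOf, hOr, hOd⟩ := hX.dg_structure
    have hOc := isCoh_of_isFinLocFree hOf
    have hGc := isCoh_of_isFinLocFree hG
    let q := f (Fin.last n)
    haveI : IsSplitEpi q := ⟨⟨⟨s (Fin.last n), by simp [q, hs]⟩⟩⟩
    have hK := isFinLocFree_kernel hX.pid q hG hOc
    obtain ⟨k1, k2⟩ := ih hK (fun i => kernel.ι q ≫ f i.castSucc)
      (fun i => kernel.lift q (s i.castSucc) (by simp [q, hs, (Fin.castSucc_lt_last i).ne]))
      (fun i j => by rw [kernel.lift_ι_assoc, hs]; simp) fun Z g hg => by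
      rw [← cancel_mono (kernel.ι q), zero_comp]
      refine hf Z _ fun i => ?_
      rw [Category.assoc]
      induction i using Fin.lastCases with
      | last => rw [kernel.condition q, comp_zero]
      | cast i => exact hg i
    let S := ShortComplex.mk (kernel.ι q) q (kernel.condition q)
    have hS : S.ShortExact := { exact := S.exact_of_f_is_kernel (kernelIsKernel q) }
    have h1 := hX.dg_add hS (isCoh_of_isFinLocFree hK) hGc hOc
    have h2 := rk_add hS hGc
    simp only [S] at h1 h2
    omega

omit hX in
lemma free_joint {n : ℕ} (Z : X.Modules) (g : Z ⟶ FlatMod.freeMod X n)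
    (h : ∀ i : Fin n, g ≫ Sigma.desc (fun j => if j = i then 𝟙 (Coh.structureModule X) else 0) = 0) :
    g = 0 := by
  have hid : 𝟙 (FlatMod.freeMod X n) = ∑ i : Fin n,
      Sigma.desc (fun j => if j = i then 𝟙 (Coh.structureModule X) else 0) ≫ Sigma.ι (fun _ : Fin n => Coh.structureModule X) i := by
    apply Sigma.hom_ext
    intro j
    simp [Preadditive.comp_sum, Finset.sum_ite_eq, ite_comp]
  rw [← Category.comp_id g, hid, Preadditive.comp_sum]
  exact Finset.sum_eq_zero fun i _ => by rw [← Category.assoc, h i, zero_comp]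

/-- A semistable bundle `F` of slope above one is generated by its sections, and the kernel of
evaluation is semistable (stable when `F` is stable) of rank `deg F - rk F` and degree `- deg F`. -/
theorem GoodCurve.exists_mutation (h : Function.Bijective (Coh.toGlobal (X ↘ Spec (CommRingCat.of k))))
    (hg : Curv2.genus k X = 1) {F : X.Modules} (hF : FlatMod.IsFinLocFree F) (hss : SS k F)
    (hr : 0 < rk F) (hμ : (rk F : ℤ) < dg k F) :
    ∃ (M P : X.Modules) (ι : M ⟶ P) (ev : P ⟶ F) (w : ι ≫ ev = 0),
      (ShortComplex.mk ι ev w).ShortExact ∧ FlatMod.IsFinLocFree M ∧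
      (rk M : ℤ) = dg k F - rk F ∧ dg k M = - dg k F ∧ SS k M ∧ (Stable k F → Stable k M) ∧
      ∀ (Z : X.Modules) (q : F ⟶ Z), (∀ f : Coh.structureModule X ⟶ F, f ≫ q = 0) → q = 0 := by
  haveI := hX.isLocallyNoetherian
  haveI := hX.proper
  have hFc := isCoh_of_isFinLocFree hF
  haveI := hFc.1
  haveI := CurveCoh.finite_HH_zero (k := k) F hX.val hX.dim hFc
  haveI := hX.subsingleton_h1_of_ss h hg hF hss (by omega)
  let d := Module.finrank k (Coh.HH X F 0)
  have hd : (d : ℤ) = dg k F := by
    have hrr := hX.riemannRoch h hFc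
    rw [Module.finrank_zero_of_subsingleton (R := k) (M := Coh.HH X F 1), hg] at hrr
    push_cast at hrr
    linarith
  let b := Module.finBasis k (Coh.HH X F 0)
  let P := FlatMod.freeMod X d
  let pr : Fin d → (P ⟶ Coh.structureModule X) := fun i =>
    Sigma.desc (fun j => if j = i then 𝟙 (Coh.structureModule X) else 0)
  let ins : Fin d → (Coh.structureModule X ⟶ P) := Sigma.ι (fun _ : Fin d => Coh.structureModule X)
  have hjoint : ∀ (Z : X.Modules) (g : Z ⟶ P), (∀ i, g ≫ pr i = 0) → g = 0 := fun Z g hg => free_joint Z g hg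
  have hPf : FlatMod.IsFinLocFree P := isFinLocFree_of_ofRank (ofRank_freeMod X d)
  obtain ⟨hPd, hPr⟩ := hX.dg_free hPf d pr ins (fun i j => by simp [pr, ins]) hjoint
  have hPc := isCoh_of_isFinLocFree hPf
  let ev : P ⟶ F := Sigma.desc fun i => homOfSec (toSec F (b i))
  -- surjectivity on sections
  have hsur : Function.Surjective (CurveCoh.mapL k ev 0) := by
    rw [← LinearMap.range_eq_top, eq_top_iff, ← b.span_eq, Submodule.span_le]
    rintro _ ⟨i, rfl⟩
    let one := (toSec (Coh.structureModule X)).symm (one' ⊤)
    refine ⟨CurveCoh.mapL k (ins i) 0 one, (toSec F).injective ?_⟩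
    rw [toSec_mapL, toSec_mapL, show toSec _ one = one' ⊤ from AddEquiv.apply_symm_apply _ _]
    show (ins i ≫ ev).app ⊤ (one' ⊤) = _
    rw [show ins i ≫ ev = homOfSec (toSec F (b i)) from Sigma.ι_desc _ _]
    exact (sec_homOfSec (toSec F (b i)) ⊤).trans (QCoh.res_self F le_rfl _)
  obtain ⟨-, hPh⟩ := hX.sub_free h hPf d pr hjoint
  haveI := hPc.1
  haveI := CurveCoh.finite_HH_zero (k := k) P hX.val hX.dim hPc
  have hPd' : Module.finrank k (Coh.HH X P 0) = d := by
    have := LinearMap.finrank_range_le (CurveCoh.mapL k ev 0)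
    rw [LinearMap.range_eq_top.mpr hsur, finrank_top] at this
    omega
  have hinj : Function.Injective (CurveCoh.mapL k ev 0) :=
    (LinearMap.injective_iff_surjective_of_finrank_eq_finrank hPd').mpr hsur
  -- the image is everything
  have hI := isFinLocFree_image hX.pid ev hPc hF
  have hIc := isCoh_of_isFinLocFree hI
  haveI := hIc.1
  haveI := CurveCoh.finite_HH_zero (k := k) (Abelian.image ev) hX.val hX.dim hIc
  have hIh : d ≤ Module.finrank k (Coh.HH X (Abelian.image ev) 0) := by
    have hz : Function.Injective (CurveCoh.mapL k (Abelian.factorThruImage ev) 0) := by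
      intro a c hac
      refine hinj ?_
      have hh := congrArg (CurveCoh.mapL k (Abelian.image.ι ev) 0) hac
      rwa [← LinearMap.comp_apply, ← LinearMap.comp_apply, ← GenusZero.mapL_comp, Abelian.image.fac] at hh
    rw [← hPd']
    exact LinearMap.finrank_le_finrank_of_injective hz
  have hIrk : rk (Abelian.image ev) = rk F := by
    refine le_antisymm (rk_le_of_mono (Abelian.image.ι ev) hFc) ?_
    have h1 := (hX.h0_sub_le h hg hss hμ.le hI (Abelian.image.ι ev) inferInstance).1
    have h2 : (rk F : ℤ) * d ≤ (rk F : ℤ) * Module.finrank k (Coh.HH X (Abelian.image ev) 0) :=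
      mul_le_mul_of_nonneg_left (by exact_mod_cast hIh) (Int.natCast_nonneg _)
    rw [← hd] at h1
    exact_mod_cast (le_of_mul_le_mul_right (h2.trans h1) (by omega) : (rk F : ℤ) ≤ rk (Abelian.image ev))
  obtain ⟨hdle, hdeq⟩ := hX.dg_le_of_mono (Abelian.image.ι ev) hIc hFc hIrk
  obtain ⟨hdk, hrk⟩ := hX.dg_kernel_image ev hPc hFc
  have hM := isFinLocFree_kernel hX.pid ev hPf hFc
  -- otherwise the image maps onto `O`
  have hIeq : dg k (Abelian.image ev) = dg k F := by
    by_contra hne
    haveI : Nontrivial (Coh.HH X (Abelian.image ev) 1) := by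
      haveI := CurveCoh.finite_HH_one (k := k) (Abelian.image ev) hX.val hX.dim hIc
      refine Module.nontrivial_of_finrank_pos (R := k) ?_
      have hrr := hX.riemannRoch h hIc
      rw [hg] at hrr
      push_cast at hrr
      omega
    have hnz : ¬ ∀ φ : Abelian.image ev ⟶ Coh.structureModule X, φ = 0 := fun hz => by
      haveI := hX.subsingleton_h1_one h hg hI hz
      exact false_of_nontrivial_of_subsingleton (Coh.HH X (Abelian.image ev) 1)
    push Not at hnz
    obtain ⟨φ, hφ⟩ := hnz
    obtain ⟨hOf, hOr, hOd⟩ := hX.dg_structure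
    have hOc := isCoh_of_isFinLocFree hOf
    have hK := isFinLocFree_kernel hX.pid φ hI hOc
    have hJ := isFinLocFree_image hX.pid φ hIc hOf
    obtain ⟨-, hr'⟩ := hX.dg_kernel_image φ hIc hOc
    have hJ1 : rk (Abelian.image φ) = 1 := by
      have := rk_le_of_mono (Abelian.image.ι φ) hOc
      have : rk (Abelian.image φ) ≠ 0 := fun h0 => hφ (eq_zero_of_rk_image φ hJ h0)
      omega
    have hJ2 := hX.finrank_H0_le (Abelian.image.ι φ) hOc
    rw [finrank_H0_structure_eq_one h] at hJ2
    have hse := hX.shortExact_image φ ((cancel_mono (Abelian.image.ι φ)).mp (by simp))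
    have h0 := hX.h0_le_add hse (isCoh_of_isFinLocFree hK) hIc (isCoh_of_isFinLocFree hJ)
    have h1 := (hX.h0_sub_le h hg hss hμ.le hK (kernel.ι φ ≫ Abelian.image.ι ev) (mono_comp _ _)).1
    have h4 : (d : ℤ) ≤ Module.finrank k (Coh.HH X (kernel φ) 0) + 1 := by
      simp only at h0
      omega
    have h5 : (rk F : ℤ) * d ≤ (rk F : ℤ) * (Module.finrank k (Coh.HH X (kernel φ) 0) + 1) :=
      mul_le_mul_of_nonneg_left h4 (Int.natCast_nonneg _)
    have h6 : (rk F : ℤ) = rk (kernel φ) + 1 := by omega
    rw [← hd] at h1
    rw [h6] at h1 h5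
    nlinarith
  haveI := hdeq hIeq
  haveI : Epi ev := by
    rw [← Abelian.image.fac ev]
    exact epi_comp _ _
  have hMr : (rk (kernel ev) : ℤ) = dg k F - rk F := by omega
  have hMd : dg k (kernel ev) = - dg k F := by omega
  let S := ShortComplex.mk (kernel.ι ev) ev (kernel.condition ev)
  have hS : S.ShortExact := { exact := S.exact_of_f_is_kernel (kernelIsKernel ev) }
  -- no sections
  haveI : Subsingleton (Coh.HH X (kernel ev) 0) := ⟨fun a c =>
    CurveCoh.injective_mapL_zero k hS (hinj (by
      rw [← LinearMap.comp_apply, ← LinearMap.comp_apply, ← GenusZero.mapL_comp, kernel.condition ev,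
        show CurveCoh.mapL k (0 : kernel ev ⟶ F) 0 = 0 from
          LinearMap.ext fun x => map_zero (CohLin.hMapHom (kernel ev) F 0 x)]
      rfl))⟩
  have key : ∀ (G : X.Modules) (g : G ⟶ kernel ev), Mono g → FlatMod.IsFinLocFree G → 0 < rk G →
      dg k G * (rk (kernel ev) : ℤ) ≤ dg k (kernel ev) * (rk G : ℤ) ∧
      (Stable k F → rk G < rk (kernel ev) →
        dg k G * (rk (kernel ev) : ℤ) < dg k (kernel ev) * (rk G : ℤ)) := by
    intro G g hgm hG hGr
    have hGc := isCoh_of_isFinLocFree hG
    haveI := hGc.1
    haveI : Subsingleton (Coh.HH X G 0) :=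
      (ProperFin.hMap_zero_injective g).subsingleton
    have hGdeg : dg k G ≤ 0 := by
      have hrr := hX.riemannRoch h hGc
      rw [Module.finrank_zero_of_subsingleton (R := k) (M := Coh.HH X G 0), hg] at hrr
      push_cast at hrr
      omega
    -- shrink the trivial bundle
    have step : ∀ (n : ℕ) (W : X.Modules) (j : W ⟶ P) (t : G ⟶ W), FlatMod.IsFinLocFree W → Mono j →
        t ≫ j = g ≫ kernel.ι ev → rk W = n → 0 ≤ dg k W → n ≤ Module.finrank k (Coh.HH X W 0) →
        ∃ (W' : X.Modules) (j' : W' ⟶ P) (t' : G ⟶ W'), FlatMod.IsFinLocFree W' ∧ Mono j' ∧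
          t' ≫ j' = g ≫ kernel.ι ev ∧ rk W' ≤ Module.finrank k (Coh.HH X W' 0) ∧ (rk W' : ℤ) ≤ - dg k G := by
      intro n
      induction n using Nat.strong_induction_on with
      | _ n ih =>
        intro W j t hW hj ht hWr hWd hWh
        subst hWr
        by_cases hsmall : (rk W : ℤ) ≤ - dg k G
        · exact ⟨W, j, t, hW, hj, ht, hWh, hsmall⟩
        haveI := hj
        have hWc := isCoh_of_isFinLocFree hW
        have hW0 := (hX.sub_free h hW d (fun i => j ≫ pr i) fun Z z hz => by
          rw [← cancel_mono j, zero_comp]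
          exact hjoint Z _ fun i => by rw [Category.assoc]; exact hz i).1
        haveI : Mono t := by
          haveI : Mono (t ≫ j) := by rw [ht]; exact mono_comp _ _
          exact mono_of_mono t j
        obtain ⟨G', a, t', hat, ha, ht', hG', hC, hG'r, hG'd⟩ := hX.exists_saturation t hGc hW
        haveI := ht'
        obtain ⟨hCd, hCr⟩ := hX.dg_mono_cokernel t' (isCoh_of_isFinLocFree hG') hWc
        have hCc := isCoh_of_isFinLocFree hC
        haveI := hCc.1
        -- sections of `W` inject in those of the quotient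
        have hG'sub : rk W ≤ Module.finrank k (Coh.HH X (cokernel t') 0) + Module.finrank k (Coh.HH X G' 0) := by
          have hse : (ShortComplex.mk t' (cokernel.π t') (cokernel.condition t')).ShortExact :=
            { exact := ShortComplex.exact_of_g_is_cokernel _ (cokernelIsCokernel t') }
          have := hX.h0_le_add hse (isCoh_of_isFinLocFree hG') hWc hCc
          simp only at this
          omega
        have hG'0 : Module.finrank k (Coh.HH X G' 0) = 0 := by
          -- `G'` maps into the kernel of evaluation
          have hC0 := hX.isLocallyNoetherian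
          haveI : IsIso (Abelian.image.ι ev) := hdeq hIeq
          have hzero : t' ≫ j ≫ ev = 0 := by
            have hvan : a ≫ t' ≫ j ≫ ev = 0 := by
              rw [reassoc_of% hat, reassoc_of% ht, kernel.condition ev, comp_zero]
            refine Serre.toHom_ext _ _ fun y v => ?_
            have hval : ∀ u, stalkLin (t' ≫ j ≫ ev) (genericPoint X) (stalkLin a (genericPoint X) u) = 0 := fun u => by
              rw [← Omega.Stalks.stalkLin_comp, hvan]
              obtain ⟨U, hy, m, rfl⟩ := exists_germM_eq _ (genericPoint X) u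
              rw [stalkLin_germ]
              exact map_zero (F.presheaf.germ U _ hy).hom
            have hφ : t' ≫ j ≫ ev = 0 := by
              refine eq_zero_of_rk_image _ (isFinLocFree_image hX.pid _ (isCoh_of_isFinLocFree hG') hF) ?_
              let S' := ShortComplex.mk (kernel.ι (t' ≫ j ≫ ev)) (Abelian.factorThruImage (t' ≫ j ≫ ev))
                ((cancel_mono (Abelian.image.ι (t' ≫ j ≫ ev))).mp (by simp))
              have hs := (stalk_exact (hX.shortExact_image (t' ≫ j ≫ ev) S'.zero) (genericPoint X)).2.2
              haveI := finite_stalk (isCoh_of_isFinLocFree hG') (genericPoint X)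
              letI : Field (X.presheaf.stalk (genericPoint X)) := inferInstanceAs (Field X.functionField)
              have hsa : Function.Surjective (stalkLin a (genericPoint X)) := by
                haveI := ha
                haveI := finite_stalk hGc (genericPoint X)
                refine (LinearMap.injective_iff_surjective_of_finrank_eq_finrank ?_).mp
                  (VBLib.stalkLin_injective a (genericPoint X))
                exact hG'r.symm
              haveI : Subsingleton ((Abelian.image (t' ≫ j ≫ ev)).presheaf.stalk (genericPoint X)) :=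
                ⟨fun p p' => by
                  apply VBLib.stalkLin_injective (Abelian.image.ι (t' ≫ j ≫ ev)) (genericPoint X)
                  obtain ⟨p, rfl⟩ := hs p
                  obtain ⟨p', rfl⟩ := hs p'
                  rw [← Omega.Stalks.stalkLin_comp, ← Omega.Stalks.stalkLin_comp]
                  show stalkLin (Abelian.factorThruImage (t' ≫ j ≫ ev) ≫ Abelian.image.ι (t' ≫ j ≫ ev)) _ p =
                    stalkLin (Abelian.factorThruImage (t' ≫ j ≫ ev) ≫ Abelian.image.ι (t' ≫ j ≫ ev)) _ p'
                  rw [Abelian.image.fac]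
                  obtain ⟨u, rfl⟩ := hsa p
                  obtain ⟨u', rfl⟩ := hsa p'
                  rw [hval, hval]⟩
              exact Module.finrank_zero_of_subsingleton
            rw [hφ]
          let l : G' ⟶ kernel ev := kernel.lift ev (t' ≫ j) (by rw [Category.assoc]; exact hzero)
          haveI : Mono l := by
            haveI : Mono (l ≫ kernel.ι ev) := by rw [kernel.lift_ι]; exact mono_comp _ _
            exact mono_of_mono l (kernel.ι ev)
          haveI : Subsingleton (Coh.HH X G' 0) :=
            (ProperFin.hMap_zero_injective l).subsingleton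
          exact Module.finrank_zero_of_subsingleton
        haveI : Nontrivial (Coh.HH X (cokernel t') 1) := by
          haveI := CurveCoh.finite_HH_one (k := k) (cokernel t') hX.val hX.dim hCc
          refine Module.nontrivial_of_finrank_pos (R := k) ?_
          have hrr := hX.riemannRoch h hCc
          rw [hg] at hrr
          push_cast at hrr
          omega
        have hnz : ¬ ∀ φ : cokernel t' ⟶ Coh.structureModule X, φ = 0 := fun hz => by
          haveI := hX.subsingleton_h1_one h hg hC hz
          exact false_of_nontrivial_of_subsingleton (Coh.HH X (cokernel t') 1)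
        push Not at hnz
        obtain ⟨φ, hφ⟩ := hnz
        let ψ := cokernel.π t' ≫ φ
        obtain ⟨hOf, hOr, hOd⟩ := hX.dg_structure
        have hOc := isCoh_of_isFinLocFree hOf
        have hψ : ψ ≠ 0 := fun h0 => hφ (by rw [← cancel_epi (cokernel.π t'), comp_zero]; exact h0)
        have hK := isFinLocFree_kernel hX.pid ψ hW hOc
        have hJ := isFinLocFree_image hX.pid ψ hWc hOf
        obtain ⟨hd', hr'⟩ := hX.dg_kernel_image ψ hWc hOc
        have hJ1 : rk (Abelian.image ψ) = 1 := by
          have := rk_le_of_mono (Abelian.image.ι ψ) hOc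
          have : rk (Abelian.image ψ) ≠ 0 := fun h0 => hψ (eq_zero_of_rk_image ψ hJ h0)
          omega
        have hJd : dg k (Abelian.image ψ) ≤ 0 := hOd ▸
          (hX.dg_le_of_mono (Abelian.image.ι ψ) (isCoh_of_isFinLocFree hJ) hOc (by omega)).1
        have hJ2 := hX.finrank_H0_le (Abelian.image.ι ψ) hOc
        rw [finrank_H0_structure_eq_one h] at hJ2
        have h0 := hX.h0_le_add (hX.shortExact_image ψ ((cancel_mono (Abelian.image.ι ψ)).mp (by simp)))
          (isCoh_of_isFinLocFree hK) hWc (isCoh_of_isFinLocFree hJ)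
        simp only at h0
        refine ih (rk (kernel ψ)) (by omega) (kernel ψ) (kernel.ι ψ ≫ j)
          (kernel.lift ψ t (by rw [← hat, Category.assoc, show ψ = cokernel.π t' ≫ φ from rfl,
            cokernel.condition_assoc, zero_comp, comp_zero]))
          hK (mono_comp _ _) ?_ rfl (by omega) (by omega)
        rw [kernel.lift_ι_assoc, ht]
    obtain ⟨W, j, t, hW, hj, ht, hWh, hWd⟩ := step (rk P) P (𝟙 P) (g ≫ kernel.ι ev) hPf inferInstance
      (Category.comp_id _) rfl (by omega) (by omega)
    haveI := hj
    haveI : Mono t := by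
      haveI : Mono (t ≫ j) := by rw [ht]; exact mono_comp _ _
      exact mono_of_mono t j
    have hWc := isCoh_of_isFinLocFree hW
    haveI := hWc.1
    let e := j ≫ ev
    have hJ := isFinLocFree_image hX.pid e hWc hF
    have hJc := isCoh_of_isFinLocFree hJ
    haveI := hJc.1
    haveI := CurveCoh.finite_HH_zero (k := k) (Abelian.image e) hX.val hX.dim hJc
    have hJh : rk W ≤ Module.finrank k (Coh.HH X (Abelian.image e) 0) := by
      refine hWh.trans (LinearMap.finrank_le_finrank_of_injective (f := CurveCoh.mapL k (Abelian.factorThruImage e) 0) ?_)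
      intro a c hac
      refine ProperFin.hMap_zero_injective j (hinj ?_)
      have hh := congrArg (CurveCoh.mapL k (Abelian.image.ι e) 0) hac
      rw [← LinearMap.comp_apply, ← LinearMap.comp_apply, ← GenusZero.mapL_comp, Abelian.image.fac] at hh
      show CurveCoh.mapL k ev 0 (CurveCoh.mapL k j 0 a) = CurveCoh.mapL k ev 0 (CurveCoh.mapL k j 0 c)
      rw [← LinearMap.comp_apply, ← LinearMap.comp_apply, ← GenusZero.mapL_comp]
      exact hh
    obtain ⟨-, hr'⟩ := hX.dg_kernel_image e hWc hFc
    have hker : rk G ≤ rk (kernel e) := by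
      have hte : t ≫ e = 0 := by
        show t ≫ j ≫ ev = 0
        rw [reassoc_of% ht, kernel.condition ev, comp_zero]
      haveI : Mono (kernel.lift e t hte) := by
        haveI : Mono (kernel.lift e t hte ≫ kernel.ι e) := by rw [kernel.lift_ι]; infer_instance
        exact mono_of_mono _ (kernel.ι e)
      exact rk_le_of_mono (kernel.lift e t hte) (isCoh_kernel e hWc hFc)
    obtain ⟨b1, b2⟩ := hX.h0_sub_le h hg hss hμ.le hJ (Abelian.image.ι e) inferInstance
    have hWh' : (rk F : ℤ) * rk W ≤ (rk F : ℤ) * Module.finrank k (Coh.HH X (Abelian.image e) 0) :=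
      mul_le_mul_of_nonneg_left (by exact_mod_cast hJh) (Int.natCast_nonneg _)
    have hsum : (rk (Abelian.image e) : ℤ) + rk G ≤ rk W := by omega
    have hm : ((rk (Abelian.image e) : ℤ) + rk G) * dg k F ≤ rk W * dg k F :=
      mul_le_mul_of_nonneg_right hsum (by omega)
    have hm2 : (rk W : ℤ) * (dg k F - rk F) ≤ (- dg k G) * (dg k F - rk F) :=
      mul_le_mul_of_nonneg_right hWd (by omega)
    rw [hMr, hMd]
    refine ⟨by linarith, fun hst hlt => ?_⟩
    by_contra hnot
    have hJr : rk (Abelian.image e) ≤ rk F := rk_le_of_mono (Abelian.image.ι e) hFc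
    rcases hJr.lt_or_eq with hJlt | hJeq
    · rcases Nat.eq_zero_or_pos (rk (Abelian.image e)) with hJ0 | hJpos
      · haveI := isZero_sections (isZero_of_rk_eq_zero hJ hJ0)
        rw [Module.finrank_zero_of_subsingleton] at hJh
        omega
      · have := b2 hμ hst hJpos hJlt
        linarith
    · rw [hJeq] at hm
      have : (rk G : ℤ) < dg k F - rk F := by omega
      have hrF : (0 : ℤ) < rk F := by exact_mod_cast hr
      have h7 : (rk F : ℤ) * rk W ≤ rk F * dg k F := by rw [hJeq] at b1; linarith
      have h8 : (rk W : ℤ) ≤ dg k F := le_of_mul_le_mul_left h7 hrF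
      nlinarith
  exact ⟨kernel ev, P, kernel.ι ev, ev, kernel.condition ev, hS, hM, hMr, hMd,
    fun G g hgm hG hGr => (key G g hgm hG hGr).1,
    fun hst G g hgm hG hGr hlt => (key G g hgm hG hGr).2 hst hlt,
    fun Z q hq => by
      rw [← cancel_epi ev, comp_zero]
      refine Sigma.hom_ext _ _ fun i => ?_
      rw [comp_zero, ← Category.assoc]
      exact hq _⟩

end Groth.Agent.VBLib
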