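import Groth.Agent.VBLib.H0Bound
import Groth.Agent.VBLib.Mutation
import Groth.Agent.VBLib.SerreGen
import Groth.Agent.HomShEval.Reflexive
import Mathlib.AlgebraicGeometry.AlgClosed.Basic
import Mathlib.RingTheory.Nakayama

/-!
# Global generation by vanishing of `H¹` of subsheaves of colength one
-/

universe u

open CategoryTheory CategoryTheory.Limits AlgebraicGeometry TopologicalSpace Opposite
open Groth.Agent.PullStalk.Sky Groth.Agent.PullStalk.Exact
open Groth.Agent.VBLib.GenusZero Groth.Agent.Props.GenLocus

set_option linter.style.haveILetI false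
set_option backward.isDefEq.respectTransparency.types false

noncomputable section

namespace Groth.Agent.VBLib

variable {k : Type u} [Field k] [IsAlgClosed k] {X : Scheme.{u}} [X.Over (Spec (CommRingCat.of k))]
  [IsIntegral X] (hX : GoodCurve k X)
include hX

/-- A subsheaf cut out by a functional on a fibre has colength at most one. -/
theorem GoodCurve.exists_colength_one (p : Spec (CommRingCat.of k) ⟶ X)
    (hp : p ≫ (X ↘ Spec (CommRingCat.of k)) = 𝟙 _) {E : X.Modules} (hE : FlatMod.IsFinLocFree E)
    (φ : E.presheaf.stalk (p (IsLocalRing.closedPoint k)) →+ k)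
    (hφ : ∀ a v, φ (a • v) = LinSerLib.chi p a * φ v) (hne : φ ≠ 0) :
    ∃ (G : X.Modules) (ι : G ⟶ E), Mono ι ∧ FlatMod.IsFinLocFree G ∧ rk G = rk E ∧
      dg k E - 1 ≤ dg k G ∧ ¬ IsIso ι ∧
      ∀ s : Coh.structureModule X ⟶ E,
        φ (germM E ⊤ (p (IsLocalRing.closedPoint k)) trivial (sec s ⊤)) = 0 → ∃ t, t ≫ ι = s := by
  haveI := hX.isLocallyNoetherian
  haveI := hX.proper
  have hEc := isCoh_of_isFinLocFree hE
  haveI := hEc.1
  let x := p (IsLocalRing.closedPoint k)
  letI : Module (X.presheaf.stalk x) k := Module.compHom k (LinSerLib.chi p)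
  let φ' : E.presheaf.stalk x →ₗ[X.presheaf.stalk x] k :=
    { toFun := φ, map_add' := map_add φ, map_smul' := fun a v => hφ a v }
  let q := toSky φ'
  haveI hqc : (sky x k).IsQuasicoherent := by
    refine AssSch.Quot.isQuasicoherent_sky x _ fun a ha t => ⟨1, ?_⟩
    show LinSerLib.chi p (a ^ 1) * t = 0
    haveI : IsLocalHom (LinSerLib.chi p) := by delta LinSerLib.chi; infer_instance
    have h0 : LinSerLib.chi p a = 0 := by
      by_contra hne
      exact ha ((isUnit_map_iff (LinSerLib.chi p) a).mp (IsUnit.mk0 _ hne))
    rw [pow_one, h0, zero_mul]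
  have hG : FlatMod.IsFinLocFree (kernel q) := hX.sub (kernel.ι q) inferInstance hE
  have hGc := isCoh_of_isFinLocFree hG
  haveI := hGc.1
  let I := cokernel (kernel.ι q)
  have hIc : Coh.IsCoh I := isCoh_cokernel _ hGc hEc
  haveI := hIc.1
  -- the quotient is seen in the sky scraper
  let j : I ⟶ sky x k := cokernel.desc (kernel.ι q) q (kernel.condition q)
  have hj : j = (Abelian.coimageIsoImage q).hom ≫ Abelian.image.ι q := by
    rw [← cancel_epi (cokernel.π (kernel.ι q)), cokernel.π_desc]
    exact (Abelian.coimage_image_factorisation q).symm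
  haveI : Mono j := by rw [hj]; exact mono_comp _ _
  obtain ⟨hd, hr⟩ := hX.dg_mono_cokernel (kernel.ι q) hGc hEc
  have hI0 : rk I = 0 := by
    have h0 : ∀ v : I.presheaf.stalk (genericPoint X), v = 0 := fun v => by
      refine Omega.Stalks.stalkLin_injective_of_mono j (genericPoint X) ?_
      rw [map_zero]
      obtain ⟨U, hU, m, rfl⟩ := exists_germM_eq I _ v
      rw [stalkLin_germ]
      have hxg : ¬ x = genericPoint X := fun he => by
        have hcl : IsClosed ({x} : Set X) := by
          haveI : IsClosedImmersion (p ≫ (X ↘ Spec (CommRingCat.of k))) := by rw [hp]; infer_instance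
          haveI : IsClosedImmersion p := IsClosedImmersion.of_comp p (X ↘ Spec (CommRingCat.of k))
          have : Set.range p = {x} := by
            ext z
            constructor
            · rintro ⟨w, rfl⟩
              rw [Subsingleton.elim w (IsLocalRing.closedPoint k)]
              rfl
            · rintro rfl
              exact ⟨_, rfl⟩
          rw [← this]
          exact p.isClosedEmbedding.isClosed_range
        have h1 : closure ({genericPoint X} : Set X) = Set.univ := (genericPoint_spec X).def
        rw [← he, hcl.closure_eq] at h1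
        have h2 := hX.dim
        have : topologicalKrullDim X ≤ 0 := by
          haveI : Subsingleton X := ⟨fun a b => by
            have ha : a ∈ ({x} : Set X) := h1 ▸ trivial
            have hb : b ∈ ({x} : Set X) := h1 ▸ trivial
            rw [Set.mem_singleton_iff] at ha hb
            rw [ha, hb]⟩
          exact topologicalKrullDim_zero_of_discreteTopology (X := X)
        rw [h2] at this
        exact absurd this (by norm_num)
      obtain ⟨V, hV, hVx⟩ : ∃ V : X.Opens, genericPoint X ∈ V ∧ x ∉ V := by
        by_contra hall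
        push Not at hall
        have hsp : genericPoint X ∈ closure ({x} : Set X) := mem_closure_iff.mpr fun o ho hgo =>
          ⟨x, hall ⟨o, ho⟩ hgo, rfl⟩
        exact hxg ((specializes_iff_mem_closure.mpr hsp).antisymm (genericPoint_specializes x)).eq
      rw [← HomShQC.germM_res _ (inf_le_left : U ⊓ V ≤ U) _ ⟨hU, hV⟩]
      refine (congrArg (germM _ (U ⊓ V) _ ⟨hU, hV⟩) ?_).trans
        (map_zero ((sky x k).presheaf.germ (U ⊓ V) (genericPoint X) ⟨hU, hV⟩).hom)
      exact funext fun hh => absurd hh.down.2 hVx
    haveI : Subsingleton (I.presheaf.stalk (genericPoint X)) := ⟨fun a b => (h0 a).trans (h0 b).symm⟩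
    exact Module.finrank_zero_of_subsingleton
  have hId : dg k I ≤ 1 := by
    haveI := hX.isFlasque_of_rk_zero hIc hI0
    haveI : Subsingleton (Coh.HH X I 1) :=
      CohTop.Flasque.H_subsingleton (X := X.toPresheafedSpace.carrier) (Coh.toAb I) 0
    have he : dg k I = Module.finrank k (Coh.HH X I 0) := by
      simp only [dg, Curv2.deg, hI0]
      rw [CurveCoh.euler_eq I hX.val hX.dim, Module.finrank_zero_of_subsingleton (M := Coh.HH X I 1)]
      simp
    rw [he]
    haveI := CurveCoh.finite_HH_zero (k := k) I hX.val hX.dim hIc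
    let ev : Coh.HH X I 0 →ₗ[k] k :=
      { toFun := fun y => (show PLift (x ∈ (⊤ : X.Opens)) → k from j.app ⊤ (toSec I y)) ⟨trivial⟩
        map_add' := fun a b => by
          rw [map_add (toSec I), map_add (j.app ⊤).hom]
          rfl
        map_smul' := fun c y => by
          have hc : toSec I (c • y) =
              X.presheaf.map (homOfLE (le_refl (⊤ : X.Opens))).op
                (Coh.toGlobal (X ↘ Spec (CommRingCat.of k)) c) • toSec I y :=
            (Sheaf.H.equiv₀_naturality
              (f := Coh.smulAb I (Coh.toGlobal (X ↘ Spec (CommRingCat.of k)) c)) isTerminalTop y).symm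
          rw [hc, j.app_smul, RingHom.id_apply, smul_eq_mul]
          show LinSerLib.chi p (X.presheaf.germ ⊤ x trivial _) * _ = _
          congr 1
          exact (congrArg (LinSerLib.chi p) (X.presheaf.germ_res_apply _ x (show x ∈ (⊤ : X.Opens) from trivial) _)).trans
            (LinSerLib.chi_global p hp c) }
    have hev : Function.Injective ev := fun a b hab => (toSec I).injective
      (QCoh.app_injective_of_mono j ⊤ (funext fun hh => hab))
    have := LinearMap.finrank_le_finrank_of_injective hev
    rw [Module.finrank_self] at this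
    exact_mod_cast this
  refine ⟨kernel q, kernel.ι q, inferInstance, hG, ?_, ?_, fun hiso => hne ?_, fun s hs => ?_⟩
  · have hI0' : rk (cokernel (kernel.ι q)) = 0 := hI0
    omega
  · simp only [I] at hId
    omega
  · have hq0 : q = 0 := by
      haveI := hiso
      rw [← cancel_epi (kernel.ι q), kernel.condition, comp_zero]
    refine AddMonoidHom.ext fun v => ?_
    obtain ⟨U, hU, m, rfl⟩ := exists_germM_eq E x v
    refine (toSky_app φ' U m ⟨hU⟩).symm.trans ?_
    show (show PLift (x ∈ U) → k from q.app U m) ⟨hU⟩ = 0
    rw [hq0]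
    rfl
  · refine ⟨kernel.lift q s (EulerChar.hom_eq_of_sec fun U => funext fun hh => ?_), kernel.lift_ι _ _ _⟩
    show φ' (germM E U x hh.down (sec s U)) = _
    rw [← sec_res s (le_top : U ≤ ⊤), HomShQC.germM_res]
    exact hs.trans rfl

/-- Global generation. -/
theorem GoodCurve.isGloballyGenerated_of (h : Function.Bijective (Coh.toGlobal (X ↘ Spec (CommRingCat.of k))))
    {E : X.Modules} (hE : FlatMod.IsFinLocFree E)
    (hv : ∀ (G : X.Modules) (ι : G ⟶ E), Mono ι → FlatMod.IsFinLocFree G → rk G = rk E →
      dg k E - 1 ≤ dg k G → Subsingleton (Coh.HH X G 1)) :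
    Curv2.IsGloballyGenerated E := by
  haveI := hX.isLocallyNoetherian
  haveI := hX.proper
  have hEc := isCoh_of_isFinLocFree hE
  haveI := hEc.1
  haveI := CurveCoh.finite_HH_zero (k := k) E hX.val hX.dim hEc
  haveI := hv E (𝟙 E) inferInstance hE rfl (by omega)
  let d := Module.finrank k (Coh.HH X E 0)
  let b := Module.finBasis k (Coh.HH X E 0)
  let P := FlatMod.freeMod X d
  have hPc := isCoh_of_ofRank (ofRank_freeMod X d)
  haveI := hPc.1
  let ev : P ⟶ E := Sigma.desc fun i => homOfSec (toSec E (b i))
  have hI := isFinLocFree_image hX.pid ev hPc hE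
  haveI := (isCoh_of_isFinLocFree hI).1
  have hclosed : ∀ c : X, IsClosed ({c} : Set X) → Function.Bijective (stalkLin (Abelian.image.ι ev) c) := by
    intro c hcl
    refine ⟨Omega.Stalks.stalkLin_injective_of_mono _ c, ?_⟩
    let p := pointOfClosedPoint (X ↘ Spec (CommRingCat.of k)) c hcl
    have hp : p ≫ (X ↘ Spec (CommRingCat.of k)) = 𝟙 _ := pointOfClosedPoint_comp _ c hcl
    have hpc : p (IsLocalRing.closedPoint k) = c := pointOfClosedPoint_apply _ c hcl _
    have gen : ∀ z : X, z = p (IsLocalRing.closedPoint k) → Function.Surjective (stalkLin ev z) := by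
      rintro z rfl
      let y := p (IsLocalRing.closedPoint k)
      obtain ⟨U, hyU, ⟨ψ⟩⟩ := ofRank_rk hE y
      obtain ⟨e, he⟩ := exists_isFrame_of_iso ψ
      let bE : Module.Basis (Fin (rk E)) (X.presheaf.stalk y) (E.presheaf.stalk y) :=
        Module.Basis.ofEquivFun (LinearEquiv.ofBijective _ (he.stalkComb_bijective y hyU)).symm
      let g : Fin d → E.presheaf.stalk y := fun i => germM E ⊤ y trivial (toSec E (b i))
      let V : Submodule k (Fin (rk E) → k) := Submodule.span k (Set.range fun i j => LinSerLib.chi p (bE.repr (g i) j))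
      have hV : V = ⊤ := by
        by_contra hne
        obtain ⟨c, hc0, hcV⟩ := Submodule.exists_le_ker_of_lt_top V (lt_top_iff_ne_top.mpr hne)
        let φ : E.presheaf.stalk y →+ k := AddMonoidHom.mk' (fun v => c (fun j => LinSerLib.chi p (bE.repr v j)))
          fun v w => by
            rw [← map_add c]
            exact congrArg c (funext fun j => by simp)
        have hφ : ∀ a v, φ (a • v) = LinSerLib.chi p a * φ v := fun a v => by
          show c _ = _ * c _
          rw [show (fun j => LinSerLib.chi p (bE.repr (a • v) j)) = LinSerLib.chi p a • fun j => LinSerLib.chi p (bE.repr v j)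
            from funext fun j => by simp, map_smul, smul_eq_mul]
        have hne' : φ ≠ 0 := fun h0 => hc0 (LinearMap.ext fun v => by
          classical
          rw [show v = ∑ j, v j • (Pi.single j (1 : k)) from funext fun l => by simp [Finset.sum_apply, Pi.single_apply]]
          rw [map_sum]
          refine Finset.sum_eq_zero fun j _ => ?_
          have := DFunLike.congr_fun h0 (bE j)
          rw [map_smul, show c (Pi.single j 1) = 0 from ?_, smul_zero]
          refine Eq.trans (congrArg c (funext fun l => ?_)) this
          rw [Pi.single_apply, Module.Basis.repr_self, Finsupp.single_apply]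
          by_cases hlj : l = j
          · subst hlj
            simp
          · simp [hlj, Ne.symm hlj])
        obtain ⟨G, ι, hι, hG, hGr, hGd, hni, hlift⟩ := hX.exists_colength_one p hp hE φ hφ hne'
        haveI := hι
        haveI := hv G ι hι hG hGr hGd
        have hGc := isCoh_of_isFinLocFree hG
        haveI := hGc.1
        haveI := CurveCoh.finite_HH_zero (k := k) G hX.val hX.dim hGc
        have hsur : Function.Surjective (CurveCoh.mapL k ι 0) := by
          rw [← LinearMap.range_eq_top, eq_top_iff, ← b.span_eq, Submodule.span_le]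
          rintro _ ⟨i, rfl⟩
          obtain ⟨t, ht⟩ := hlift (homOfSec (toSec E (b i))) (by
            rw [sec_homOfSec, QCoh.res_self]
            exact hcV (Submodule.subset_span ⟨i, rfl⟩))
          refine ⟨(toSec G).symm (sec t ⊤), (toSec E).injective ?_⟩
          rw [toSec_mapL, AddEquiv.apply_symm_apply]
          show (t ≫ ι).app ⊤ (one' ⊤) = _
          rw [ht]
          exact (sec_homOfSec (toSec E (b i)) ⊤).trans (QCoh.res_self E le_rfl _)
        have h1 := hX.riemannRoch h hGc
        have h2 := hX.riemannRoch h hEc
        rw [Module.finrank_zero_of_subsingleton (R := k) (M := Coh.HH X G 1), hGr] at h1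
        rw [Module.finrank_zero_of_subsingleton (R := k) (M := Coh.HH X E 1)] at h2
        have h3 := LinearMap.finrank_range_le (CurveCoh.mapL k ι 0)
        rw [LinearMap.range_eq_top.mpr hsur, finrank_top] at h3
        have h4 := hX.finrank_H0_le ι hEc
        exact hni ((hX.dg_le_of_mono ι hGc hEc hGr).2 (by omega))
      haveI : IsLocalHom (LinSerLib.chi p) := by delta LinSerLib.chi; infer_instance
      haveI := finite_stalk hEc y
      let N : Submodule (X.presheaf.stalk y) (E.presheaf.stalk y) := LinearMap.range (stalkLin ev y)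
      have hg : ∀ i, g i ∈ N := fun i => by
        refine ⟨stalkLin (Sigma.ι (fun _ : Fin d => Coh.structureModule X) i) y
          (germM (Coh.structureModule X) ⊤ y trivial (one' ⊤)), ?_⟩
        rw [← Omega.Stalks.stalkLin_comp, show Sigma.ι (fun _ : Fin d => Coh.structureModule X) i ≫ ev =
          homOfSec (toSec E (b i)) from Sigma.ι_desc _ _, stalkLin_germ]
        exact congrArg (germM E ⊤ y trivial) ((sec_homOfSec (toSec E (b i)) ⊤).trans (QCoh.res_self E le_rfl _))
      have hle : (⊤ : Submodule (X.presheaf.stalk y) (E.presheaf.stalk y)) ≤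
          N ⊔ IsLocalRing.maximalIdeal (X.presheaf.stalk y) • ⊤ := by
        intro v _
        have hv' : (fun j => LinSerLib.chi p (bE.repr v j)) ∈ V := hV ▸ trivial
        obtain ⟨w, hw⟩ := (Submodule.mem_span_range_iff_exists_fun k).mp hv'
        have hl : ∀ i, ∃ a : X.presheaf.stalk y, LinSerLib.chi p a = w i := fun i => ⟨_, LinSerLib.chi_global p hp (w i)⟩
        choose a ha using hl
        refine Submodule.mem_sup.mpr ⟨∑ i, a i • g i, N.sum_mem fun i _ => N.smul_mem _ (hg i), v - ∑ i, a i • g i, ?_,
          add_sub_cancel _ _⟩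
        rw [← bE.sum_repr (v - ∑ i, a i • g i)]
        refine Submodule.sum_mem _ fun j _ => Submodule.smul_mem_smul ?_ trivial
        refine (IsLocalRing.mem_maximalIdeal _).mpr fun hu => ?_
        have h0 : LinSerLib.chi p (bE.repr (v - ∑ i, a i • g i) j) = 0 := by
          have hj := congrFun hw j
          simp only [Finset.sum_apply, Pi.smul_apply, smul_eq_mul] at hj
          rw [map_sub, map_sum, Finsupp.sub_apply, Finsupp.coe_finset_sum, Finset.sum_apply, map_sub, map_sum, ← hj,
            sub_eq_zero]
          exact Finset.sum_congr rfl fun i _ => by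
            rw [map_smul, Finsupp.smul_apply, smul_eq_mul, map_mul, ha]
        exact (hu.map (LinSerLib.chi p)).ne_zero h0
      have := Submodule.le_of_le_smul_of_le_jacobson_bot (I := IsLocalRing.maximalIdeal (X.presheaf.stalk y))
        (N := N) (N' := ⊤) Module.Finite.fg_top (IsLocalRing.jacobson_eq_maximalIdeal ⊥ bot_ne_top).ge hle
      exact fun v => this trivial
    intro v
    obtain ⟨u, hu⟩ := gen c hpc.symm v
    refine ⟨stalkLin (Abelian.factorThruImage ev) c u, ?_⟩
    rw [← Omega.Stalks.stalkLin_comp]
    show stalkLin (Abelian.factorThruImage ev ≫ Abelian.image.ι ev) c u = v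
    rwa [Abelian.image.fac]
  haveI : IsIso (Abelian.image.ι ev) := Omega.Stalks.isIso_of_stalk fun x => by
    haveI : CompactSpace X := QuasiCompact.compactSpace_of_compactSpace (X ↘ Spec (CommRingCat.of k))
    obtain ⟨c, hc, hcl⟩ := IsClosed.exists_closed_singleton
      (isClosed_closure (s := ({x} : Set X))) ((Set.singleton_nonempty x).mono subset_closure)
    exact HomShEval.Reflexive.bijective_stalkLin_of_specializes _ (specializes_iff_mem_closure.mpr hc) (hclosed c hcl)
  have hepi : Epi ev := by
    rw [← Abelian.image.fac ev]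
    exact epi_comp _ _
  refine ⟨ULift.{u} (Fin d), Sigma.desc fun i => homOfSec (toSec E (b i.down)), ?_⟩
  have : (Sigma.desc fun i : Fin d => Sigma.ι (fun _ : ULift.{u} (Fin d) => Coh.structureModule X) ⟨i⟩) ≫
      (Sigma.desc fun i : ULift.{u} (Fin d) => homOfSec (toSec E (b i.down))) = ev := by
    refine Sigma.hom_ext _ _ fun i => ?_
    rw [Sigma.ι_desc_assoc]
    exact (Sigma.ι_desc _ _).trans (Sigma.ι_desc (fun i => homOfSec (toSec E (b i))) i).symm
  exact @epi_of_epi _ _ _ _ _ _ _ (this.symm ▸ hepi)

end Groth.Agent.VBLib
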