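import Groth.Agent.VBLib.H0Bound
import Groth.Agent.FFCurve.Curve

/-!
# Sections of bundles with bounded sub line bundles: the dichotomy
-/

universe u

open CategoryTheory AlgebraicGeometry Limits Opposite

set_option linter.style.haveILetI false

noncomputable section

namespace Groth.Agent.VBLib

variable {k : Type u} [Field k] [IsAlgClosed k] {X : Scheme.{u}} [X.Over (Spec (CommRingCat.of k))]
  [IsIntegral X] (hX : GoodCurve k X)
include hX

/-- Riemann–Roch for line bundles of large degree. -/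
theorem GoodCurve.finrank_H0_line {L : X.Modules} (hL : FlatMod.IsFinLocFree L) (h1 : rk L = 1)
    (h : 2 * (Curv2.genus k X : ℤ) - 1 ≤ dg k L) :
    (Module.finrank k (Coh.HH X L 0) : ℤ) = dg k L + 1 - Curv2.genus k X := by
  haveI := hX.proper
  haveI : FFCurve.RegCurve X := ⟨hX.val⟩
  have hLr : FlatMod.IsFinLocFreeOfRank 1 L := h1 ▸ ofRank_rk hL
  have hinv : PicF.IsInvertible L := fun x => by
    obtain ⟨U, hx, ⟨e⟩⟩ := hLr x
    exact ⟨U, hx, ⟨e ≪≫ coproductUniqueIso fun _ : Fin 1 => Coh.structureModule (U : Scheme.{u})⟩⟩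
  have hK := FFCurve.isFunctionField_of_isAlgClosed (X := X) k hX.dim
  haveI : Subsingleton (Coh.HH X L 1) := by
    refine FFCurve.subsingleton_HH_one k hX.dim hK hinv ?_
    rw [← FFCurve.deg_eq k hX.dim hK hinv, ← FFCurve.genus_eq_genus k hX.dim hK, dg_eq hLr]
    exact h
  have hrr := hX.riemannRoch bijective_toGlobal_of_isAlgClosed (isCoh_of_isFinLocFree hL)
  rw [Module.finrank_zero_of_subsingleton (R := k) (M := Coh.HH X L 1), h1] at hrr
  push_cast at hrr
  linarith

/-- Either `h⁰` is at most the Euler characteristic, or it is at most `r (a + 2 g (r + 1) + 1) + 2 g`,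
for a bundle of rank `r + 1` whose sub line bundles have degree at most `a`. -/
theorem GoodCurve.H0_dichotomy (p : Spec (CommRingCat.of k) ⟶ X)
    (hp : p ≫ (X ↘ Spec (CommRingCat.of k)) = 𝟙 _) : ∀ (r : ℕ) (G : X.Modules),
    FlatMod.IsFinLocFree G → rk G = r + 1 → ∀ a : ℕ,
    (∀ (M : X.Modules) (i : M ⟶ G), Mono i → FlatMod.IsFinLocFree M → rk M = 1 → dg k M ≤ a) →
    (Module.finrank k (Coh.HH X G 0) : ℤ) ≤ max (dg k G + ((r : ℤ) + 1) * (1 - Curv2.genus k X))
      ((r : ℤ) * ((a : ℤ) + 2 * Curv2.genus k X * ((r : ℤ) + 1) + 1) + 2 * Curv2.genus k X) := by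
  haveI := hX.proper
  haveI := hX.isLocallyNoetherian
  set g : ℕ := Curv2.genus k X with hg
  have hg0 : (0 : ℤ) ≤ g := Int.natCast_nonneg g
  intro r
  induction r with
  | zero =>
    intro G hG hr a ha
    refine le_max_iff.mpr ?_
    by_cases hbig : 2 * (g : ℤ) - 1 ≤ dg k G
    · left
      rw [hX.finrank_H0_line hG hr hbig]
      push_cast
      linarith
    · right
      have hsub : ∀ (M : X.Modules) (i : M ⟶ G), Mono i → FlatMod.IsFinLocFree M → rk M = 1 →
          dg k M < ((2 * g : ℕ) : ℤ) := fun M i hi hM h1 => by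
        haveI := hi
        have := (hX.dg_le_of_mono i (isCoh_of_isFinLocFree hM) (isCoh_of_isFinLocFree hG) (by omega)).1
        push_cast
        omega
      have := hX.finrank_H0_le_mul p hp (2 * g) hG hsub
      rw [hr, zero_add, one_mul] at this
      have h' : (Module.finrank k (Coh.HH X G 0) : ℤ) ≤ ((2 * g : ℕ) : ℤ) := by exact_mod_cast this
      push_cast at h' ⊢
      linarith
  | succ r ih =>
    intro G hG hr a ha
    refine le_max_iff.mpr ?_
    by_cases hneg : ∀ (M : X.Modules) (i : M ⟶ G), Mono i → FlatMod.IsFinLocFree M → rk M = 1 →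
        dg k M < ((0 : ℕ) : ℤ)
    · right
      have := hX.finrank_H0_le_mul p hp 0 hG hneg
      have h0 : (Module.finrank k (Coh.HH X G 0) : ℤ) = 0 := by
        exact_mod_cast Nat.le_zero.mp (this.trans (by simp))
      rw [h0]
      positivity
    push Not at hneg
    obtain ⟨M₀, i₀, hi₀, hM₀, hM₀1, hd₀⟩ := hneg
    obtain ⟨d₁, ⟨M₁, i₁, hi₁, hM₁, hM₁1, hd₁⟩, hmax⟩ := Int.exists_greatest_of_bdd
      (P := fun z => ∃ (M : X.Modules) (i : M ⟶ G), Mono i ∧ FlatMod.IsFinLocFree M ∧ rk M = 1 ∧ dg k M = z)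
      ⟨a, fun z ⟨M, i, hi, hM, h1, hz⟩ => hz ▸ ha M i hi hM h1⟩ ⟨_, M₀, i₀, hi₀, hM₀, hM₀1, rfl⟩
    have hd1 : 0 ≤ d₁ := le_trans (by simpa using hd₀) (hmax _ ⟨M₀, i₀, hi₀, hM₀, hM₀1, rfl⟩)
    have hd1a : d₁ ≤ a := hd₁ ▸ ha M₁ i₁ hi₁ hM₁ hM₁1
    haveI := hi₁
    obtain ⟨L, -, i, -, -, hi, hL, hQ, hL1, hdL⟩ := hX.exists_saturation i₁ (isCoh_of_isFinLocFree hM₁) hG
    haveI := hi
    rw [hM₁1] at hL1
    have hdL' : dg k L = d₁ := le_antisymm (hmax _ ⟨L, i, hi, hL, hL1, rfl⟩) (hd₁ ▸ hdL)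
    have hGc := isCoh_of_isFinLocFree hG
    have hLc := isCoh_of_isFinLocFree hL
    have hQc := isCoh_of_isFinLocFree hQ
    obtain ⟨hadd, hradd⟩ := hX.dg_mono_cokernel i hLc hGc
    -- sub line bundles of the quotient
    have hQlines : ∀ (M : X.Modules) (j : M ⟶ cokernel i), Mono j → FlatMod.IsFinLocFree M → rk M = 1 →
        dg k M ≤ ((d₁.toNat + 2 * g : ℕ) : ℤ) := fun M j hj hM h1 => by
      obtain ⟨R, e, he, hR, hdR, hrR⟩ := hX.exists_preimage (cokernel.π i) j hG hQc (isCoh_of_isFinLocFree hM)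
      have hR2 : rk R = 2 := by omega
      have hsub : ∀ (N : X.Modules) (t : N ⟶ R), Mono t → FlatMod.IsFinLocFree N → rk N = 1 →
          dg k N < ((d₁.toNat + 1 : ℕ) : ℤ) := fun N t ht hN hN1 => by
        have := hmax _ ⟨N, t ≫ e, inferInstance, hN, hN1, rfl⟩
        push_cast
        omega
      have h1' := hX.finrank_H0_le_mul p hp _ hR hsub
      have hrr := hX.riemannRoch bijective_toGlobal_of_isAlgClosed (isCoh_of_isFinLocFree hR)
      rw [hR2] at h1' hrr
      have h2 : (Module.finrank k (Coh.HH X R 0) : ℤ) ≤ 2 * ((d₁.toNat : ℤ) + 1) := by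
        exact_mod_cast h1'
      have h3 : (0 : ℤ) ≤ Module.finrank k (Coh.HH X R 1) := Int.natCast_nonneg _
      push_cast at hrr ⊢
      rw [← hg] at hrr
      omega
    -- sections
    have hle : (Module.finrank k (Coh.HH X G 0) : ℤ) ≤
        Module.finrank k (Coh.HH X L 0) + Module.finrank k (Coh.HH X (cokernel i) 0) := by
      haveI := hGc.1; haveI := hLc.1; haveI := hQc.1
      haveI := CurveCoh.finite_HH_zero (k := k) G hX.val hX.dim hGc
      haveI := CurveCoh.finite_HH_zero (k := k) L hX.val hX.dim hLc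
      haveI := CurveCoh.finite_HH_zero (k := k) (cokernel i) hX.val hX.dim hQc
      let S := ShortComplex.mk i (cokernel.π i) (cokernel.condition i)
      have hS : S.ShortExact := { exact := S.exact_of_g_is_cokernel (cokernelIsCokernel i) }
      have e1 := CurveCoh.finrank_exact₃ k _ _ (CurveCoh.exact_mapL k hS 0)
      have e2 := LinearMap.finrank_range_le (CurveCoh.mapL k i 0)
      have e3 := Submodule.finrank_le (LinearMap.range (CurveCoh.mapL k (cokernel.π i) 0))
      have : Module.finrank k (Coh.HH X G 0) ≤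
          Module.finrank k (Coh.HH X L 0) + Module.finrank k (Coh.HH X (cokernel i) 0) := by
        simp only [S] at e1
        omega
      exact_mod_cast this
    have hrQ : rk (cokernel i) = r + 1 := by omega
    have hh := ih (cokernel i) hQ hrQ _ hQlines
    have hr0 : (0 : ℤ) ≤ r := Int.natCast_nonneg r
    have hsub2 : 0 ≤ (g : ℤ) * r := mul_nonneg hg0 hr0
    by_cases hbig : 2 * (g : ℤ) - 1 ≤ d₁
    · have hL0 := hX.finrank_H0_line hL hL1 (by rw [hdL']; exact hbig)
      rw [← hg, hdL'] at hL0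
      rcases le_max_iff.mp hh with hcase | hcase
      · left
        push_cast at hcase ⊢
        linarith [hle, hL0, hcase, hadd, hdL']
      · right
        push_cast at hcase ⊢
        have ht : (d₁.toNat : ℤ) = d₁ := Int.toNat_of_nonneg hd1
        rw [ht] at hcase
        nlinarith [hle, hL0, hcase, hd1a, hg0, hr0]
    · right
      have hLsub : ∀ (M : X.Modules) (j : M ⟶ L), Mono j → FlatMod.IsFinLocFree M → rk M = 1 →
          dg k M < ((2 * g : ℕ) : ℤ) := fun M j hj hM h1 => by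
        have := hmax _ ⟨M, j ≫ i, inferInstance, hM, h1, rfl⟩
        push_cast
        omega
      have hL0 := hX.finrank_H0_le_mul p hp (2 * g) hL hLsub
      rw [hL1, one_mul] at hL0
      have hQ0 := hX.finrank_H0_le_mul p hp (d₁.toNat + 2 * g + 1) hQ fun M j hj hM h1 => by
        have := hQlines M j hj hM h1
        push_cast at this ⊢
        omega
      rw [hrQ] at hQ0
      have hL0' : (Module.finrank k (Coh.HH X L 0) : ℤ) ≤ 2 * (g : ℤ) := by exact_mod_cast hL0
      have hQ0' : (Module.finrank k (Coh.HH X (cokernel i) 0) : ℤ) ≤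
          ((r : ℤ) + 1) * ((d₁.toNat : ℤ) + 2 * g + 1) := by exact_mod_cast hQ0
      have ht : (d₁.toNat : ℤ) = d₁ := Int.toNat_of_nonneg hd1
      rw [ht] at hQ0'
      push_cast
      nlinarith [hle, hL0', hQ0', hd1a, hg0, hr0]

end Groth.Agent.VBLib
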