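import Groth.Agent.VBLib.TwistLine
import Groth.Agent.VBLib.H0Large
import Groth.Agent.PicCl.Basic
import Groth.Agent.FFCurve.AlgClosed
import Groth.Agent.FFCurve.Canonical

/-!
# Calculus of line bundles on curves
-/

universe u

open CategoryTheory CategoryTheory.Limits AlgebraicGeometry
open Groth.Agent.Props.GenLocus Groth.Agent.VBLib.GenusZero

set_option linter.style.haveILetI false
set_option backward.isDefEq.respectTransparency.types false

noncomputable section

namespace Groth.Agent.VBLib.LineCalc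

variable {X : Scheme.{u}}

/-- Line bundles cancel. -/
theorem cancel {L A B : X.Modules} (hL : PicF.IsInvertible L)
    (e : CohB1.tensorMod A L ≅ CohB1.tensorMod B L) : Nonempty (A ≅ B) := by
  obtain ⟨-, ⟨d⟩⟩ := DualDeg.invertible_dual hL
  exact ⟨(ProjTwist.tensOne A).symm ≪≫ ProjTwist.tensCongr (Iso.refl A) d.symm ≪≫
    (ProjTwist.tensAssoc A L (RefHull.dual L)).symm ≪≫ ProjTwist.tensCongr e (Iso.refl _) ≪≫
    ProjTwist.tensAssoc B L (RefHull.dual L) ≪≫ ProjTwist.tensCongr (Iso.refl B) d ≪≫ ProjTwist.tensOne B⟩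

/-- An inverse of a line bundle is its dual. -/
theorem iso_dual_of_inverse {L M : X.Modules} (hL : PicF.IsInvertible L)
    (e : ClSub.IsInverseOf M L) : PicF.IsInvertible M ∧ Nonempty (M ≅ RefHull.dual L) := by
  obtain ⟨hD, ⟨d⟩⟩ := DualDeg.invertible_dual hL
  obtain ⟨e⟩ := e
  obtain ⟨f⟩ := cancel hL (e ≪≫ d.symm ≪≫ ProjTwist.tensComm L (RefHull.dual L))
  exact ⟨PicCl.isInvertible_of_iso f.symm hD, ⟨f⟩⟩

lemma isInvertible_of_rk_one {M : X.Modules} [IsIntegral X] (hM : FlatMod.IsFinLocFree M) (h1 : rk M = 1) :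
    PicF.IsInvertible M := fun x => by
  obtain ⟨U, hx, ⟨e⟩⟩ := (h1 ▸ ofRank_rk hM : FlatMod.IsFinLocFreeOfRank 1 M) x
  exact ⟨U, hx, ⟨e ≪≫ coproductUniqueIso fun _ : Fin 1 => Coh.structureModule (U : Scheme.{u})⟩⟩

end Groth.Agent.VBLib.LineCalc

namespace Groth.Agent.VBLib

variable {k : Type u} [Field k] {X : Scheme.{u}} [X.Over (Spec (CommRingCat.of k))] [IsIntegral X]
  (hX : GoodCurve k X)
include hX

/-- A line bundle of negative degree has no sections. -/
theorem GoodCurve.subsingleton_h0_neg {L : X.Modules} (hL : PicF.IsInvertible L) (hd : dg k L < 0) :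
    Subsingleton (Coh.HH X L 0) := by
  have hLr := ofRank_one_of_invertible hL
  have hO := ofRank_one_of_invertible (LFFrame.isInvertible_structureModule X)
  have hOd : dg k (Coh.structureModule X) = 0 := by simp [dg, Curv2.deg, rk_eq hO]
  haveI : Subsingleton Γ(L, ⊤) := subsingleton_of_forall_eq 0 fun s => ?_
  · exact (toSec L).injective.subsingleton
  have h0 : homOfSec s = 0 := hX.line_hom_eq_zero (isFinLocFree_of_ofRank hO) (isFinLocFree_of_ofRank hLr)
    (rk_eq hO) (rk_eq hLr) (by omega) _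
  have hs := sec_homOfSec s ⊤
  rw [h0, QCoh.res_self] at hs
  exact hs.symm

/-- A line bundle of degree zero with a section is trivial. -/
theorem GoodCurve.iso_structure_of_section {L : X.Modules} (hL : PicF.IsInvertible L) (hd : dg k L = 0)
    (hs : Nontrivial (Coh.HH X L 0)) : Nonempty (Coh.structureModule X ≅ L) := by
  have hLr := ofRank_one_of_invertible hL
  have hO := ofRank_one_of_invertible (LFFrame.isInvertible_structureModule X)
  have hOd : dg k (Coh.structureModule X) = 0 := by simp [dg, Curv2.deg, rk_eq hO]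
  obtain ⟨c, hc⟩ := exists_ne (0 : Coh.HH X L 0)
  have hf : homOfSec (toSec L c) ≠ 0 := fun h0 => hc ((toSec L).injective (by
    rw [map_zero (toSec L)]
    have h1 := sec_homOfSec (toSec L c) ⊤
    rw [h0, QCoh.res_self] at h1
    exact h1.symm))
  haveI := (hX.line_hom (isFinLocFree_of_ofRank hO) (isFinLocFree_of_ofRank hLr) (rk_eq hO) (rk_eq hLr) _
    hf).2.2 (by omega)
  exact ⟨asIso (homOfSec (toSec L c))⟩

/-- `h⁰ ≤ g` below degree `2 g - 1`. -/
theorem GoodCurve.h0_le_genus [IsAlgClosed k] [IsProper (X ↘ Spec (CommRingCat.of k))] [FFCurve.RegCurve X]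
    {L : X.Modules} (hL : PicF.IsInvertible L)
    (hd : dg k L ≤ 2 * (Curv2.genus k X : ℤ) - 1) :
    Module.finrank k (Coh.HH X L 0) ≤ Curv2.genus k X := by
  by_contra hlt
  push Not at hlt
  have hLr := ofRank_one_of_invertible hL
  haveI := FFCurve.h1_subsingleton_of_genus_lt k hX.dim hL hlt
  have hrr := hX.riemannRoch bijective_toGlobal_of_isAlgClosed (isCoh_of_ofRank hLr)
  rw [Module.finrank_zero_of_subsingleton (R := k) (M := Coh.HH X L 1), rk_eq hLr] at hrr
  push_cast at hrr
  omega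

end Groth.Agent.VBLib
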