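import Groth.Agent.VBLib.HomOne
import Groth.Agent.VBLib.Fitting
import Groth.Agent.VBLib.RRGeom

/-!
# Indecomposable bundles on genus one curves are semistable
-/

universe u

open CategoryTheory CategoryTheory.Limits AlgebraicGeometry

set_option linter.style.haveILetI false
set_option backward.isDefEq.respectTransparency.types false

noncomputable section

namespace Groth.Agent.VBLib

variable {k : Type u} [Field k] {X : Scheme.{u}} [X.Over (Spec (CommRingCat.of k))] [IsIntegral X]
  (hX : GoodCurve k X)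
include hX

omit [IsIntegral X] hX in
/-- A split short exact sequence gives a biproduct decomposition. -/
lemma nonempty_iso_biprod {S : ShortComplex X.Modules} (hS : S.ShortExact) [IsSplitEpi S.g] :
    Nonempty (S.X₂ ≅ S.X₁ ⊞ S.X₃) := by
  haveI := hS.mono_f
  let sp := ShortComplex.Splitting.ofExactOfSection S hS.exact (section_ S.g) (IsSplitEpi.id S.g) hS.mono_f
  exact ⟨sp.isoBinaryBiproduct⟩

omit hX in
lemma rk_eq_zero_of_isZero {M : X.Modules} (hz : IsZero M) : rk M = 0 := by
  have h0 : ∀ a : M.presheaf.stalk (genericPoint X), a = 0 := fun a => by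
    obtain ⟨U, hy, m, rfl⟩ := PullStalk.Sky.exists_germM_eq M _ a
    rw [← VBLib.stalkLin_id M _ (PullStalk.Sky.germM M U _ hy m), hz.eq_of_src (𝟙 M) 0,
      PullStalk.Exact.stalkLin_germ]
    exact map_zero (M.presheaf.germ U _ hy).hom
  haveI : Subsingleton (M.presheaf.stalk (genericPoint X)) := ⟨fun a b => (h0 a).trans (h0 b).symm⟩
  exact Module.finrank_zero_of_subsingleton

/-- In genus one an indecomposable vector bundle is semistable. -/
theorem GoodCurve.ss_of_indecomposable (h : Function.Bijective (Coh.toGlobal (X ↘ Spec (CommRingCat.of k))))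
    (hg : Curv2.genus k X = 1) {E : X.Modules} (hE : FlatMod.IsFinLocFree E) (hr : 0 < rk E)
    (hind : ∀ (E₁ E₂ : X.Modules), Nonempty (E ≅ E₁ ⊞ E₂) → IsZero E₁ ∨ IsZero E₂) : SS k E := by
  haveI := hX.isLocallyNoetherian
  have hEc := isCoh_of_isFinLocFree hE
  obtain ⟨A₀, i₀, hi₀, hA₀, hA₀r, hmax₀⟩ := hX.exists_max_slope hE hr
  obtain ⟨A, j, i, -, hj, hi, hA, hQ, hAr, hAd⟩ :=
    hX.exists_saturation i₀ (isCoh_of_isFinLocFree hA₀) hE
  have hAc := isCoh_of_isFinLocFree hA
  have hAd' : dg k A = dg k A₀ := by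
    have h1 := (hmax₀ A i hi hA (by omega)).1
    rw [hAr] at h1
    exact le_antisymm (le_of_mul_le_mul_right h1 (by exact_mod_cast hA₀r)) hAd
  have hmax : ∀ (G : X.Modules) (j : G ⟶ E), Mono j → FlatMod.IsFinLocFree G → 0 < rk G →
      dg k G * (rk A : ℤ) ≤ dg k A * (rk G : ℤ) ∧
        (dg k G * (rk A : ℤ) = dg k A * (rk G : ℤ) → rk G ≤ rk A) := by
    intro G j hj hG hGr
    rw [hAd', hAr]
    exact hmax₀ G j hj hG hGr
  intro G g hgm hG hGr
  have hApos : 0 < rk A := by omega
  obtain ⟨hd, hrk⟩ := hX.dg_mono_cokernel i hAc hEc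
  have hQc : Coh.IsCoh (cokernel i) := isCoh_of_isFinLocFree hQ
  rcases Nat.eq_zero_or_pos (rk (cokernel i)) with hQ0 | hQpos
  · -- the maximal subbundle is everything
    have hz : IsZero (cokernel i) := isZero_of_rk_eq_zero hQ hQ0
    have hQd : dg k (cokernel i) = 0 := hX.dg_eq_zero_of_isZero hQc hz
    have e1 : rk A = rk E := by omega
    have e2 : dg k A = dg k E := by omega
    have := (hmax G g hgm hG hGr).1
    rwa [e1, e2] at this
  exfalso
  have hssA : SS k A := fun G' g' hg' hG' hr' => by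
    have := (hmax G' (g' ≫ i) (mono_comp g' i) hG' hr').1
    exact this
  have hzero : ∀ φ : A ⟶ (cokernel i), φ = 0 := fun φ => hX.hom_eq_zero hA hQ hssA (fun G' g' hg' hG' hr' => by
    obtain ⟨P, p, hp, hP, hPd, hPr⟩ := hX.exists_preimage (cokernel.π i) g' hE hQc (isCoh_of_isFinLocFree hG')
    have eP : rk P = rk A + rk G' := by omega
    have eD : dg k P = dg k A + dg k G' := by omega
    obtain ⟨h1, h2⟩ := hmax P p hp hP (by omega)
    have h3 : dg k P * (rk A : ℤ) ≠ dg k A * (rk P : ℤ) := fun he => by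
      have := h2 he
      omega
    have h4 := lt_of_le_of_ne h1 h3
    rw [eP, eD] at h4
    push_cast at h4
    linarith) φ
  let S := ShortComplex.mk i (cokernel.π i) (cokernel.condition i)
  have hS : S.ShortExact := { exact := S.exact_of_g_is_cokernel (cokernelIsCokernel i) }
  haveI := hX.isSplitEpi_one h hg hS hA hQ hzero
  rcases hind A (cokernel i) (nonempty_iso_biprod hS) with hz | hz
  · have := rk_eq_zero_of_isZero hz
    omega
  · have := rk_eq_zero_of_isZero hz
    omega

end Groth.Agent.VBLib
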