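import Groth.Agent.VBLib.GenusZero
import Groth.Agent.VBLib.Line
import Groth.Agent.VBLib.Slope
import Groth.Agent.VBLib.RR
import Groth.Agent.LinSerLib.RatPoint
import Groth.Agent.HomShQC.Stalk
import Groth.Agent.AssSch.Quot
import Groth.Agent.QCoh.Exact

/-!
# Sections of bundles whose sub line bundles have bounded degree
-/

universe u

open CategoryTheory AlgebraicGeometry Limits Opposite
open Groth.Agent.PullStalk.Sky Groth.Agent.PullStalk.Exact
open Groth.Agent.Props.GenLocus Groth.Agent.VBLib.GenusZero

set_option linter.style.haveILetI false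

noncomputable section

namespace Groth.Agent.VBLib

variable {k : Type u} [Field k] {X : Scheme.{u}} [X.Over (Spec (CommRingCat.of k))] [IsIntegral X]
  (hX : GoodCurve k X)
include hX

/-- No sections without sub line bundles of nonnegative degree. -/
theorem GoodCurve.eq_zero_of_lines_neg {G : X.Modules} (hG : FlatMod.IsFinLocFree G)
    (h : ∀ (L : X.Modules) (i : L ⟶ G), Mono i → FlatMod.IsFinLocFree L → rk L = 1 → dg k L < 0)
    (f : Coh.structureModule X ⟶ G) : f = 0 := by
  haveI := hX.isLocallyNoetherian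
  by_contra hf
  have hO := ofRank_one_of_invertible (LFFrame.isInvertible_structureModule X)
  have hOf := isFinLocFree_of_ofRank hO
  have hOc := isCoh_of_isFinLocFree hOf
  have hI := isFinLocFree_image hX.pid f hOc hG
  have hI0 : rk (Abelian.image f) ≠ 0 := fun h0 => hf (eq_zero_of_rk_image f hI h0)
  obtain ⟨hd, hr⟩ := hX.dg_kernel_image f hOc (isCoh_of_isFinLocFree hG)
  rw [rk_eq hO] at hr
  have hI1 : rk (Abelian.image f) = 1 := by omega
  have hne : Abelian.factorThruImage f ≠ 0 := fun h0 => hf (by rw [← Abelian.image.fac f, h0, zero_comp])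
  have h1 := (hX.line_hom hOf hI (rk_eq hO) hI1 _ hne).2.1
  have h2 := h (Abelian.image f) (Abelian.image.ι f) inferInstance hI hI1
  have h3 : dg k (Coh.structureModule X) = 0 := by simp [dg, Curv2.deg, rk_eq hO]
  omega

/-- A sub line bundle with values vanishing at a rational point is not saturated. -/
theorem GoodCurve.dg_lt_of_vanish (p : Spec (CommRingCat.of k) ⟶ X) {G L : X.Modules}
    (hG : FlatMod.IsFinLocFree G) (i : L ⟶ G) [Mono i] (hL : FlatMod.IsFinLocFree L) (h1 : rk L = 1)
    {r : ℕ} (b : Module.Basis (Fin r) (X.presheaf.stalk (p (IsLocalRing.closedPoint k)))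
      (G.presheaf.stalk (p (IsLocalRing.closedPoint k))))
    (hv : ∀ a j, LinSerLib.chi p (b.repr (stalkLin i (p (IsLocalRing.closedPoint k)) a) j) = 0) :
    ∃ (L' : X.Modules) (i' : L' ⟶ G), Mono i' ∧ FlatMod.IsFinLocFree L' ∧ rk L' = 1 ∧
      dg k L < dg k L' := by
  haveI := hX.isLocallyNoetherian
  let x := p (IsLocalRing.closedPoint k)
  have hLc := isCoh_of_isFinLocFree hL
  obtain ⟨L', j, i', hji, hj, hi', hL', hq, hr, hd⟩ := hX.exists_saturation i hLc hG
  refine ⟨L', i', hi', hL', hr.trans h1, lt_of_le_of_ne hd fun heq => ?_⟩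
  haveI := hj
  haveI := hi'
  haveI := (hX.dg_le_of_mono j hLc (isCoh_of_isFinLocFree hL') hr.symm).2 heq
  -- `L'` is free of rank one at `x` and a direct summand
  obtain ⟨U, hxU, ⟨ψ⟩⟩ := (hr.trans h1 ▸ ofRank_rk hL' : FlatMod.IsFinLocFreeOfRank 1 L') x
  obtain ⟨e, he⟩ := exists_isFrame_of_iso ψ
  let bL : Module.Basis (Fin 1) (X.presheaf.stalk x) (L'.presheaf.stalk x) :=
    Module.Basis.ofEquivFun (LinearEquiv.ofBijective _ (he.stalkComb_bijective x hxU)).symm
  let S := ShortComplex.mk i' (cokernel.π i') (cokernel.condition i')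
  have hS : S.ShortExact := { exact := S.exact_of_g_is_cokernel (cokernelIsCokernel i') }
  obtain ⟨hi, hex, hs⟩ := stalk_exact hS x
  haveI := (isCoh_of_isFinLocFree hq).1
  haveI := (Props.QProj.free_stalk _ hq x).1
  haveI : Module.Projective (X.presheaf.stalk x) (S.X₃.presheaf.stalk x) :=
    inferInstanceAs (Module.Projective (X.presheaf.stalk x) ((cokernel i').presheaf.stalk x))
  obtain ⟨s, hsec⟩ := Module.projective_lifting_property (stalkLin S.g x) LinearMap.id hs
  -- a retraction of `i'`
  let P : G.presheaf.stalk x →ₗ[X.presheaf.stalk x] LinearMap.range (stalkLin i' x) :=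
    LinearMap.codRestrict _ (LinearMap.id - s.comp (stalkLin (cokernel.π i') x)) fun y => by
      refine (hex _).mp ?_
      show stalkLin S.g x (y - s (stalkLin S.g x y)) = 0
      rw [map_sub, show stalkLin S.g x (s (stalkLin S.g x y)) = stalkLin S.g x y from
        LinearMap.congr_fun hsec _, sub_self]
  let ρ : G.presheaf.stalk x →ₗ[X.presheaf.stalk x] L'.presheaf.stalk x :=
    (LinearEquiv.ofInjective (stalkLin i' x) hi).symm.toLinearMap.comp P
  have hρ : ρ (stalkLin i' x (bL 0)) = bL 0 := by
    show (LinearEquiv.ofInjective (stalkLin i' x) hi).symm (P (stalkLin i' x (bL 0))) = bL 0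
    rw [LinearEquiv.symm_apply_eq]
    refine Subtype.ext ?_
    show stalkLin i' x (bL 0) - s (stalkLin S.g x (stalkLin S.f x (bL 0))) = stalkLin i' x (bL 0)
    rw [hex.apply_apply_eq_zero (bL 0), map_zero s, sub_zero]
  have hinv : stalkLin i' x (bL 0) = stalkLin i x (stalkLin (inv j) x (bL 0)) := by
    rw [← stalkLin_comp_apply, ← hji, IsIso.inv_hom_id_assoc]
  have e0 := congrArg (fun t => LinSerLib.chi p (bL.repr t 0)) hρ
  simp only [Module.Basis.repr_self, Finsupp.single_eq_same, map_one] at e0
  rw [← b.sum_repr (stalkLin i' x (bL 0))] at e0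
  simp only [map_sum, map_smul, Finsupp.coe_finset_sum, Finset.sum_apply, Finsupp.smul_apply,
    smul_eq_mul, map_mul] at e0
  rw [Finset.sum_eq_zero fun l _ => by rw [hinv, hv, zero_mul]] at e0
  exact zero_ne_one e0

/-- `h⁰(G) ≤ r m` when all sub line bundles have degree less than `m`, given a rational point. -/
theorem GoodCurve.finrank_H0_le_mul (p : Spec (CommRingCat.of k) ⟶ X)
    (hp : p ≫ (X ↘ Spec (CommRingCat.of k)) = 𝟙 _) (m : ℕ) {G : X.Modules}
    (hG : FlatMod.IsFinLocFree G)
    (h : ∀ (L : X.Modules) (i : L ⟶ G), Mono i → FlatMod.IsFinLocFree L → rk L = 1 → dg k L < m) :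
    Module.finrank k (Coh.HH X G 0) ≤ rk G * m := by
  haveI := hX.isLocallyNoetherian
  haveI := hX.proper
  induction m generalizing G with
  | zero =>
    haveI : Subsingleton (Coh.HH X G 0) := by
      haveI : Subsingleton Γ(G, ⊤) := by
        refine subsingleton_of_forall_eq 0 fun s => ?_
        have h0 := hX.eq_zero_of_lines_neg hG (by exact_mod_cast h) (homOfSec s)
        have hs := sec_homOfSec s ⊤
        rw [h0, QCoh.res_self] at hs
        exact hs.symm
      exact (toSec G).injective.subsingleton
    rw [Module.finrank_zero_of_subsingleton]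
    exact Nat.zero_le _
  | succ m ih =>
    let x := p (IsLocalRing.closedPoint k)
    have hGc := isCoh_of_isFinLocFree hG
    obtain ⟨U, hxU, ⟨ψ⟩⟩ := ofRank_rk hG x
    obtain ⟨e, he⟩ := exists_isFrame_of_iso ψ
    let b : Module.Basis (Fin (rk G)) (X.presheaf.stalk x) (G.presheaf.stalk x) :=
      Module.Basis.ofEquivFun (LinearEquiv.ofBijective _ (he.stalkComb_bijective x hxU)).symm
    letI : Module (X.presheaf.stalk x) (Fin (rk G) → k) :=
      Module.compHom (Fin (rk G) → k) (LinSerLib.chi p)
    let φ : G.presheaf.stalk x →ₗ[X.presheaf.stalk x] (Fin (rk G) → k) :=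
      { toFun := fun v j => LinSerLib.chi p (b.repr v j)
        map_add' := fun v w => funext fun j => by simp
        map_smul' := fun a v => funext fun j => by
          show _ = LinSerLib.chi p a * LinSerLib.chi p (b.repr v j)
          simp }
    let q := toSky φ
    have hkill : ∀ (L : X.Modules) (f : L ⟶ G), f ≫ q = 0 → ∀ a j,
        LinSerLib.chi p (b.repr (stalkLin f x a) j) = 0 := fun L f hf a j => by
      obtain ⟨V, hV, l, rfl⟩ := exists_germM_eq L x a
      rw [stalkLin_germ]
      refine (congrFun (toSky_app φ V (f.app V l) ⟨hV⟩) j).symm.trans ?_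
      show (show PLift (x ∈ V) → (Fin (rk G) → k) from (f ≫ q).app V l) ⟨hV⟩ j = 0
      rw [hf]
      rfl
    obtain ⟨G', ι, hι, hG', hcond, hfac⟩ : ∃ (G' : X.Modules) (ι : G' ⟶ G), Mono ι ∧
        FlatMod.IsFinLocFree G' ∧ ι ≫ q = 0 ∧
        ∀ (s : Coh.structureModule X ⟶ G), s ≫ q = 0 → ∃ t, t ≫ ι = s := by
      refine ⟨kernel q, kernel.ι q, inferInstance, ?_, kernel.condition q,
        fun s hs => ⟨kernel.lift q s hs, kernel.lift_ι q s hs⟩⟩
      haveI : (sky x (Fin (rk G) → k)).IsQuasicoherent := by
        refine AssSch.Quot.isQuasicoherent_sky x _ fun a ha t => ⟨1, funext fun j => ?_⟩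
        show LinSerLib.chi p (a ^ 1) * t j = 0
        haveI : IsLocalHom (LinSerLib.chi p) := by delta LinSerLib.chi; infer_instance
        have h0 : LinSerLib.chi p a = 0 := by
          by_contra hne
          exact ha ((isUnit_map_iff (LinSerLib.chi p) a).mp (IsUnit.mk0 _ hne))
        rw [pow_one, h0, zero_mul]
      haveI := hGc.1
      exact hX.sub (kernel.ι q) inferInstance hG
    haveI := hι
    have hsub : ∀ (L : X.Modules) (i : L ⟶ G'), Mono i → FlatMod.IsFinLocFree L → rk L = 1 →
        dg k L < m := fun L i hi hL h1 => by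
      obtain ⟨L', i', hi', hL', h1', hlt⟩ := hX.dg_lt_of_vanish p hG (i ≫ ι) hL h1 b
        (hkill L (i ≫ ι) (by rw [Category.assoc, hcond, comp_zero]))
      have := h L' i' hi' hL' h1'
      push_cast at this
      omega
    have hih := ih hG' hsub
    have hrk := rk_le_of_mono ι hGc
    haveI := hGc.1
    haveI := CurveCoh.finite_HH_zero (k := k) G hX.val hX.dim hGc
    let Ψ : Coh.HH X G 0 →ₗ[k] (Fin (rk G) → k) :=
      { toFun := fun y j => LinSerLib.chi p (b.repr (germM G ⊤ x trivial (toSec G y)) j)
        map_add' := fun y z => funext fun j => by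
          simp only [Pi.add_apply]
          rw [← map_add (LinSerLib.chi p), ← Finsupp.add_apply, ← map_add b.repr]
          refine congrArg (fun t => LinSerLib.chi p (b.repr t j)) ?_
          rw [map_add (toSec G)]
          exact map_add (G.presheaf.germ ⊤ x trivial).hom _ _
        map_smul' := fun c y => funext fun j => by
          have hc : toSec G (c • y) =
              X.presheaf.map (homOfLE (le_refl (⊤ : X.Opens))).op
                (Coh.toGlobal (X ↘ Spec (CommRingCat.of k)) c) • toSec G y :=
            (Sheaf.H.equiv₀_naturality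
              (f := Coh.smulAb G (Coh.toGlobal (X ↘ Spec (CommRingCat.of k)) c)) isTerminalTop y).symm
          rw [RingHom.id_apply, Pi.smul_apply, smul_eq_mul, hc]
          refine (congrArg (fun t => LinSerLib.chi p (b.repr t j)) (germM_smul G ⊤ x trivial _ _)).trans ?_
          rw [map_smul, Finsupp.smul_apply, smul_eq_mul, map_mul]
          congr 1
          exact (congrArg (LinSerLib.chi p) (X.presheaf.germ_res_apply _ x (show x ∈ (⊤ : X.Opens) from trivial) _)).trans
            (LinSerLib.chi_global p hp c) }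
    have hker : LinearMap.ker Ψ ≤ LinearMap.range (CurveCoh.mapL k ι 0) := by
      intro y hy
      have hsq : homOfSec (toSec G y) ≫ q = 0 := by
        refine (cancel_epi (𝟙 (Coh.structureModule X))).mp ?_
        rw [comp_zero, Category.id_comp, ← toSky_ofSky (homOfSec (toSec G y) ≫ q),
          show ofSky (homOfSec (toSec G y) ≫ q) = 0 from LinearMap.ext fun t => ?_]
        · ext V l
          funext hV
          exact toSky_app (0 : (Coh.structureModule X).presheaf.stalk x →ₗ[_] (Fin (rk G) → k)) V l hV
        obtain ⟨a, rfl⟩ := (bijective_smul_germ (Groth.Agent.Props.GenTensor.isGen_one ⊤) x trivial).2 t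
        show ofSky (homOfSec (toSec G y) ≫ q) (a • _) = 0
        rw [map_smul, ofSky_germ]
        refine Eq.trans (congrArg (a • ·) ?_) (smul_zero a)
        refine (toSky_app φ ⊤ _ ⟨trivial⟩).trans (funext fun j => ?_)
        have hsec : (homOfSec (toSec G y)).app ⊤ (one' ⊤) = toSec G y :=
          (sec_homOfSec (toSec G y) ⊤).trans (QCoh.res_self G _ _)
        exact (congrArg (fun z => φ (germM G ⊤ x trivial z) j) hsec).trans (congrFun hy j)
      obtain ⟨t, ht⟩ := hfac _ hsq
      refine ⟨(toSec G').symm (sec t ⊤), (toSec G).injective ?_⟩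
      rw [toSec_mapL, AddEquiv.apply_symm_apply]
      refine Eq.trans ?_ (QCoh.res_self G le_top (toSec G y))
      refine Eq.trans ?_ (sec_homOfSec (toSec G y) ⊤)
      rw [← ht]
      rfl
    haveI := (isCoh_of_isFinLocFree hG').1
    haveI := CurveCoh.finite_HH_zero (k := k) G' hX.val hX.dim (isCoh_of_isFinLocFree hG')
    have e1 := Ψ.finrank_range_add_finrank_ker
    have e2 : Module.finrank k (LinearMap.range Ψ) ≤ rk G :=
      (Submodule.finrank_le _).trans (Module.finrank_fin_fun k).le
    have e3 := Submodule.finrank_mono hker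
    have e4 := LinearMap.finrank_range_le (CurveCoh.mapL k ι 0)
    have e5 : rk G' * m ≤ rk G * m := Nat.mul_le_mul_right _ hrk
    rw [Nat.mul_succ]
    omega

end Groth.Agent.VBLib
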