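import Groth.Agent.VBLib.Mutation
import Groth.Agent.VBLib.TwistLine
import Groth.Agent.FFCurve.AlgClosed

/-!
# Semistable bundles of every rank and degree in genus one
-/

universe u

open CategoryTheory CategoryTheory.Limits AlgebraicGeometry TopologicalSpace
open Groth.Agent.PullStalk.Sky Groth.Agent.PullStalk.Exact

set_option linter.style.haveILetI false
set_option backward.isDefEq.respectTransparency.types false

noncomputable section

namespace Groth.Agent.VBLib

variable {k : Type u} [Field k] {X : Scheme.{u}} [X.Over (Spec (CommRingCat.of k))] [IsIntegral X]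
  (hX : GoodCurve k X)

/-- Line bundles of every degree exist over an algebraically closed field. -/
theorem exists_line_deg [IsAlgClosed k] [IsProper (X ↘ Spec (CommRingCat.of k))]
    [Smooth (X ↘ Spec (CommRingCat.of k))] (hdim : topologicalKrullDim X = 1) (m : ℤ) :
    ∃ L : X.Modules, PicF.IsInvertible L ∧ FlatMod.IsFinLocFree L ∧ rk L = 1 ∧ dg k L = m := by
  haveI := FFCurve.regCurve_of_smooth k (X := X) hdim
  have hK := FFCurve.isFunctionField_of_isAlgClosed (X := X) k hdim
  obtain ⟨P, -⟩ := FFCurve.exists_place_not_mem hK (∅ : Finset (FunFld.Place k X.functionField))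
  obtain ⟨M, hM, a, ha, hD⟩ := FFCurve.exists_divOf_eq k hdim (Finsupp.single P m)
  have hMr := ofRank_one_of_invertible hM
  refine ⟨M, hM, isFinLocFree_of_ofRank hMr, rk_eq hMr, ?_⟩
  rw [← dg_eq hMr, FFCurve.deg_eq k hdim hK hM, hD, FF.deg_sub, FF.deg_div hK.1, sub_zero, FF.deg_single,
    FF.deg_eq_one hK P]
  push_cast
  ring

include hX

/-- Twisting by a line bundle preserves semistability and stability. -/
theorem GoodCurve.ss_tensor {E L : X.Modules} (hE : FlatMod.IsFinLocFree E) (hL : PicF.IsInvertible L) :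
    (SS k E → SS k (CohB1.tensorMod E L)) ∧ (Stable k E → Stable k (CohB1.tensorMod E L)) := by
  haveI := hX.isLocallyNoetherian
  obtain ⟨hD, ⟨e⟩⟩ := DualDeg.invertible_dual hL
  obtain ⟨-, hr, hd⟩ := hX.dg_tensor_line hE hL
  have hLr := ofRank_one_of_invertible hL
  let φ : CohB1.tensorMod (CohB1.tensorMod E L) (RefHull.dual L) ≅ E :=
    ProjTwist.tensAssoc E L (RefHull.dual L) ≪≫ ProjTwist.tensCongr (Iso.refl E) e ≪≫ ProjTwist.tensOne E
  have hdd := hX.dg_dual (isFinLocFree_of_ofRank hLr)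
  have move : ∀ (G : X.Modules) (i : G ⟶ CohB1.tensorMod E L), Mono i → FlatMod.IsFinLocFree G →
      ∃ (G' : X.Modules) (i' : G' ⟶ E), Mono i' ∧ FlatMod.IsFinLocFree G' ∧ rk G' = rk G ∧
        dg k G' = dg k G - rk G * dg k L := by
    intro G i hi hG
    obtain ⟨i', hi'⟩ := exists_mono_tensor hD i
    haveI := hi'
    obtain ⟨hf, hr', hd'⟩ := hX.dg_tensor_line hG hD
    exact ⟨_, i' ≫ φ.hom, inferInstance, hf, hr', by rw [hd', hdd]; ring⟩
  constructor
  · intro hss G i hi hG hpos
    obtain ⟨G', i', hi', hG', hr', hd'⟩ := move G i hi hG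
    have h1 := hss G' i' hi' hG' (by omega)
    rw [hr', hd'] at h1
    rw [hr, hd]
    linarith
  · intro hst G i hi hG hpos hlt
    obtain ⟨G', i', hi', hG', hr', hd'⟩ := move G i hi hG
    have h1 := hst G' i' hi' hG' (by omega) (by omega)
    rw [hr', hd'] at h1
    rw [hr, hd]
    linarith

/-- In genus one there is a semistable bundle of every rank and degree. -/
theorem GoodCurve.exists_ss_one (h : Function.Bijective (Coh.toGlobal (X ↘ Spec (CommRingCat.of k))))
    (hg : Curv2.genus k X = 1)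
    (hline : ∀ m : ℤ, ∃ L : X.Modules, PicF.IsInvertible L ∧ FlatMod.IsFinLocFree L ∧ rk L = 1 ∧ dg k L = m)
    (r : ℕ) (hr : 0 < r) (e : ℤ) :
    ∃ E : X.Modules, FlatMod.IsFinLocFree E ∧ rk E = r ∧ dg k E = e ∧ SS k E := by
  induction r using Nat.strong_induction_on generalizing e with
  | _ r ih =>
    let a : ℤ := (-e) % (r : ℤ)
    have ha0 : 0 ≤ a := Int.emod_nonneg _ (by omega)
    have ha1 : a < r := Int.emod_lt_of_pos _ (by omega)
    have hae : a + (r : ℤ) * ((-e) / (r : ℤ)) = -e := Int.emod_add_mul_ediv (-e) r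
    let q : ℤ := (-e) / (r : ℤ)
    obtain ⟨M, hM, hMr, hMd, hMss⟩ : ∃ M : X.Modules, FlatMod.IsFinLocFree M ∧ rk M = r ∧
        (∃ t : ℤ, dg k M = -a + t * r) ∧ SS k M := by
      rcases eq_or_lt_of_le ha0 with h0 | hpos
      · let pr : Fin r → (FlatMod.freeMod X r ⟶ Coh.structureModule X) := fun i =>
          Sigma.desc (fun j => if j = i then 𝟙 (Coh.structureModule X) else 0)
        have hP := isFinLocFree_of_ofRank (ofRank_freeMod X r)
        have hjoint : ∀ (Z : X.Modules) (g : Z ⟶ FlatMod.freeMod X r), (∀ i, g ≫ pr i = 0) → g = 0 :=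
          fun Z g hg => free_joint Z g hg
        obtain ⟨hPd, hPr⟩ := hX.dg_free hP r pr (Sigma.ι (fun _ : Fin r => Coh.structureModule X))
          (fun i j => by simp [pr]) hjoint
        refine ⟨_, hP, hPr, ⟨0, by rw [hPd]; omega⟩, fun G i hi hG hGr => ?_⟩
        haveI := hi
        have h1 := (hX.sub_free h hG r (fun j => i ≫ pr j) fun Z z hz => by
          rw [← cancel_mono i, zero_comp]
          exact hjoint Z _ fun j => by rw [Category.assoc]; exact hz j).1
        rw [hPd, zero_mul]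
        exact mul_nonpos_of_nonpos_of_nonneg h1 (Int.natCast_nonneg _)
      · obtain ⟨F, hF, hFr, hFd, hFss⟩ := ih a.toNat (by omega) (by omega) (a + r)
        obtain ⟨M, P, ι, ev, w, -, hM, hMr, hMd, hMss, -⟩ :=
          hX.exists_mutation h hg hF hFss (by omega) (by omega)
        exact ⟨M, hM, by omega, ⟨-1, by rw [hMd, hFd]; ring⟩, hMss⟩
    obtain ⟨t, ht⟩ := hMd
    obtain ⟨L, hL, -, -, hLd⟩ := hline (- q - t)
    obtain ⟨hf, hr', hd'⟩ := hX.dg_tensor_line hM hL
    refine ⟨_, hf, hr'.trans hMr, ?_, (hX.ss_tensor hM hL).1 hMss⟩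
    rw [hd', hMr, ht, hLd]
    simp only [q]
    linarith

end Groth.Agent.VBLib
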