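import Groth.Agent.VBLib.HomOne
import Groth.Agent.VBLib.SplitOne
import Groth.Agent.VBLib.TwistOne
import Groth.Agent.VBLib.TwistLine
import Groth.Agent.VBLib.H0Large
import Groth.Agent.VBLib.H0Bound
import Groth.Agent.VBHom27.Basic
import Groth.Agent.AmpleLib.Basic

/-!
# Sub line bundles of rank two bundles on curves
-/

universe u

open CategoryTheory AlgebraicGeometry Limits TopologicalSpace
open Groth.Agent.PullStalk.Sky Groth.Agent.PullStalk.Exact

set_option linter.style.haveILetI false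
set_option backward.isDefEq.respectTransparency false
set_option backward.isDefEq.respectTransparency.types false

noncomputable section

namespace Groth.Agent.VBLib

variable {k : Type u} [Field k] {X : Scheme.{u}} [X.Over (Spec (CommRingCat.of k))] [IsIntegral X]
  (hX : GoodCurve k X)

omit [X.Over (Spec (CommRingCat.of k))] in
lemma isInvertible_of_rk_one {L : X.Modules} (hL : FlatMod.IsFinLocFree L) (h1 : rk L = 1) :
    PicF.IsInvertible L := fun x => by
  obtain ⟨U, hx, ⟨e⟩⟩ := (h1 ▸ ofRank_rk hL : FlatMod.IsFinLocFreeOfRank 1 L) x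
  exact ⟨U, hx, ⟨e ≪≫ coproductUniqueIso fun _ : Fin 1 => Coh.structureModule (U : Scheme.{u})⟩⟩

include hX

/-- An extension of locally free sheaves splits when `H¹` of the sheaf of homomorphisms vanishes. -/
theorem GoodCurve.isSplitEpi_of_vanish {S : ShortComplex X.Modules} (hS : S.ShortExact)
    (h₁ : FlatMod.IsFinLocFree S.X₁) (h₃ : FlatMod.IsFinLocFree S.X₃)
    [Subsingleton (Coh.HH X (RefHull.homSh S.X₃ S.X₁) 1)] : IsSplitEpi S.g := by
  haveI := hX.isLocallyNoetherian
  have h₁c := isCoh_of_isFinLocFree h₁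
  have h₃c := isCoh_of_isFinLocFree h₃
  have hfp := HomShQC.isFP_of_isCoh S.X₃ h₃c
  have w : HomOne.postMap S.X₃ S.f ≫ HomOne.postMap S.X₃ S.g = 0 := by
    refine Serre.toHom_ext _ _ fun y t => ?_
    rw [Omega.Stalks.stalkLin_comp]
    apply (HomShQC.evalStalk_bijective S.X₃ S.X₃ hfp y).1
    rw [HomOne.evalStalk_postMap, HomOne.evalStalk_postMap]
    have h0' : stalkLin (0 : RefHull.homSh S.X₃ S.X₁ ⟶ RefHull.homSh S.X₃ S.X₃) y t = 0 := by
      obtain ⟨U, hy, m, rfl⟩ := exists_germM_eq _ y t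
      exact (stalkLin_germ (0 : RefHull.homSh S.X₃ S.X₁ ⟶ RefHull.homSh S.X₃ S.X₃) U y hy m).trans
        (map_zero ((RefHull.homSh S.X₃ S.X₃).presheaf.germ U y hy).hom)
    rw [h0', map_zero]
    refine LinearMap.ext fun v => ?_
    exact (stalk_exact hS y).2.1.apply_apply_eq_zero (RefHull.evalStalk S.X₃ S.X₁ y t v)
  have hE := HomOne.shortExact_post h₃ hS w
  obtain ⟨c, hc⟩ := CohLin.exists_hMap_g_eq hE ((ProperFin.h0Sec _).symm (RefHull.ofHom (𝟙 S.X₃) ⊤))
    (Subsingleton.elim _ _)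
  refine ⟨⟨⟨Serre.toHom S.X₃ S.X₂ (ProperFin.h0Sec _ c), ?_⟩⟩⟩
  have h1 := congrArg (ProperFin.h0Sec _) hc
  rw [AddEquiv.apply_symm_apply, ProperFin.h0Sec_hMap] at h1
  refine Serre.toHom_ext _ _ fun y t => ?_
  rw [Omega.Stalks.stalkLin_comp, Serre.stalkLin_toHom]
  exact LinearMap.congr_fun (congrFun (congrArg Subtype.val h1) ⟨y, trivial⟩) t

variable [IsAlgClosed k]

/-- A rank two bundle which is not a sum of two line bundles has no sub line bundle of large degree. -/
theorem GoodCurve.two_mul_dg_le {E : X.Modules} (hE : FlatMod.IsFinLocFree E) (hr : rk E = 2)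
    (hind : ∀ A B : X.Modules, PicF.IsInvertible A → PicF.IsInvertible B → IsEmpty (E ≅ A ⊞ B))
    {L : X.Modules} (i : L ⟶ E) [Mono i] (hL : FlatMod.IsFinLocFree L) (h1 : rk L = 1) :
    2 * dg k L ≤ dg k E + 2 * (Curv2.genus k X : ℤ) - 2 := by
  by_contra hlt
  haveI := hX.isLocallyNoetherian
  haveI := hX.proper
  haveI : FFCurve.RegCurve X := ⟨hX.val⟩
  have hEc := isCoh_of_isFinLocFree hE
  obtain ⟨A, j, i', -, hj, hi', hA, hQ, hAr, hAd⟩ := hX.exists_saturation i (isCoh_of_isFinLocFree hL) hE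
  haveI := hi'
  obtain ⟨hd, hrk⟩ := hX.dg_mono_cokernel i' (isCoh_of_isFinLocFree hA) hEc
  have hQ1 : rk (cokernel i') = 1 := by omega
  have hAi := isInvertible_of_rk_one hA (hAr.trans h1)
  have hQi := isInvertible_of_rk_one hQ hQ1
  obtain ⟨hD, -⟩ := DualDeg.invertible_dual hQi
  have hT := AmpleLib.isInvertible_tensorMod hD hAi
  have hTd : dg k (CohB1.tensorMod (RefHull.dual (cokernel i')) A) = dg k A - dg k (cokernel i') := by
    obtain ⟨-, -, h⟩ := hX.dg_tensor_line (isFinLocFree_of_ofRank (ofRank_one_of_invertible hD)) hAi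
    rw [h, hX.dg_dual hQ, rk_eq (ofRank_one_of_invertible hD)]
    push_cast; ring
  have hTr := ofRank_one_of_invertible hT
  have hK := FFCurve.isFunctionField_of_isAlgClosed (X := X) k hX.dim
  haveI hs : Subsingleton (Coh.HH X (CohB1.tensorMod (RefHull.dual (cokernel i')) A) 1) := by
    refine FFCurve.subsingleton_HH_one k hX.dim hK hT ?_
    rw [← FFCurve.deg_eq k hX.dim hK hT, ← FFCurve.genus_eq_genus k hX.dim hK, dg_eq hTr, hTd]
    omega
  obtain ⟨e⟩ := VBHom27.nonempty_cmp_iso (G := A) hQ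
  let S := ShortComplex.mk i' (cokernel.π i') (cokernel.condition i')
  have hS : S.ShortExact := { exact := S.exact_of_g_is_cokernel (cokernelIsCokernel i') }
  haveI : Subsingleton (Coh.HH X (RefHull.homSh S.X₃ S.X₁) 1) := by
    haveI : Subsingleton (Coh.HH X (RefHull.homSh (cokernel i') A) 1) := by
      haveI : Subsingleton (Coh.HH X (KFlat.StalkTensor.tensM (RefHull.dual (cokernel i')) A) 1) := hs
      refine Function.Injective.subsingleton (f := CurveCoh.mapL k e.inv 1) fun a b h => ?_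
      have := congrArg (CurveCoh.mapL k e.hom 1) h
      rwa [← LinearMap.comp_apply, ← LinearMap.comp_apply, ← GenusZero.mapL_comp, e.inv_hom_id,
        GenusZero.mapL_id] at this
    exact this
  haveI := hX.isSplitEpi_of_vanish hS hA hQ
  obtain ⟨φ⟩ := nonempty_iso_biprod hS
  exact (hind A (cokernel i') hAi hQi).false φ

/-- A rank two bundle has a sub line bundle of degree at least `d / 2 - g`. -/
theorem GoodCurve.exists_two_mul_dg_ge [Smooth (X ↘ Spec (CommRingCat.of k))] {E : X.Modules}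
    (hE : FlatMod.IsFinLocFree E) (hr : rk E = 2) :
    ∃ (L : X.Modules) (i : L ⟶ E), Mono i ∧ PicF.IsInvertible L ∧
      dg k E - 2 * (Curv2.genus k X : ℤ) ≤ 2 * dg k L := by
  haveI := hX.isLocallyNoetherian
  haveI := hX.proper
  set g : ℤ := (Curv2.genus k X : ℤ)
  obtain ⟨m, hm1, hm2⟩ : ∃ m : ℤ, 2 * g - 1 - dg k E ≤ 2 * m ∧ 2 * m ≤ 2 * g - dg k E :=
    ⟨(2 * g - dg k E) / 2, by omega, by omega⟩
  obtain ⟨M, hM, hMf, hM1, hMd⟩ := exists_line_deg (k := k) (X := X) hX.dim m
  obtain ⟨hT, hTr, hTd⟩ := hX.dg_tensor_line hE hM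
  have hbij : Function.Bijective (Coh.toGlobal (X ↘ Spec (CommRingCat.of k))) :=
    bijective_toGlobal_of_isAlgClosed
  have hrr := hX.riemannRoch hbij (isCoh_of_isFinLocFree hT)
  rw [hTd, hTr, hr, hMd] at hrr
  push_cast at hrr
  have hne : ¬ Subsingleton (Coh.HH X (CohB1.tensorMod E M) 0) := fun h => by
    rw [Module.finrank_zero_of_subsingleton (R := k) (M := Coh.HH X (CohB1.tensorMod E M) 0)] at hrr
    omega
  obtain ⟨L, i, hi, hL, hL1, hLd⟩ : ∃ (L : X.Modules) (i : L ⟶ CohB1.tensorMod E M),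
      Mono i ∧ FlatMod.IsFinLocFree L ∧ rk L = 1 ∧ 0 ≤ dg k L := by
    by_contra hall
    refine hne ?_
    haveI : Subsingleton Γ(CohB1.tensorMod E M, ⊤) := by
      refine subsingleton_of_forall_eq 0 fun s => ?_
      have h0 := hX.eq_zero_of_lines_neg hT (fun L i hi hL hL1 =>
        not_le.1 fun hge => hall ⟨L, i, hi, hL, hL1, hge⟩) (Props.GenLocus.homOfSec s)
      have hs := Props.GenLocus.sec_homOfSec s ⊤
      rw [h0, QCoh.res_self] at hs
      exact hs.symm
    exact (GenusZero.toSec (CohB1.tensorMod E M)).injective.subsingleton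
  obtain ⟨hD, ⟨e⟩⟩ := DualDeg.invertible_dual hM
  obtain ⟨i', hi'⟩ := exists_mono_tensor hD i
  let φ : CohB1.tensorMod (CohB1.tensorMod E M) (RefHull.dual M) ≅ E :=
    ProjTwist.tensAssoc E M (RefHull.dual M) ≪≫ ProjTwist.tensCongr (Iso.refl E) e ≪≫ ProjTwist.tensOne E
  obtain ⟨-, -, hd⟩ := hX.dg_tensor_line hL hD
  refine ⟨_, i' ≫ φ.hom, inferInstance,
    AmpleLib.isInvertible_tensorMod (isInvertible_of_rk_one hL hL1) hD, ?_⟩
  rw [hd, hX.dg_dual hMf, hL1, hMd]
  push_cast
  omega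

/-- Normalisation bounds the sub line bundles. -/
theorem GoodCurve.dg_nonpos_of_normalized {E : X.Modules}
    (hneg : ∀ M : X.Modules, PicF.IsInvertible M → Curv2.deg k X M 1 < 0 →
      Subsingleton (Coh.HH X (CohB1.tensorMod E M) 0))
    {L : X.Modules} (i : L ⟶ E) [Mono i] (hL : PicF.IsInvertible L) : dg k L ≤ 0 := by
  haveI := hX.isLocallyNoetherian
  haveI := hX.proper
  by_contra hpos
  obtain ⟨hD, ⟨e⟩⟩ := DualDeg.invertible_dual hL
  have hLr := ofRank_one_of_invertible hL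
  have hs := hneg _ hD (by
    rw [dg_eq (ofRank_one_of_invertible hD), hX.dg_dual (isFinLocFree_of_ofRank hLr)]
    omega)
  obtain ⟨i', hi'⟩ := exists_mono_tensor hD i
  have hinj : Function.Injective (CurveCoh.mapL k (e.inv ≫ i') 0) :=
    CurveCoh.injective_mapL_zero k
      (S := ShortComplex.mk (e.inv ≫ i') (cokernel.π _) (cokernel.condition _))
      { exact := ShortComplex.exact_of_g_is_cokernel _ (cokernelIsCokernel _) }
  haveI := hinj.subsingleton
  have h1 := finrank_H0_structure_eq_one (k := k) (X := X) bijective_toGlobal_of_isAlgClosed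
  rw [Module.finrank_zero_of_subsingleton] at h1
  exact zero_ne_one h1

end Groth.Agent.VBLib
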