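import Groth.Agent.VBLib.Slope
import Groth.Agent.LinSerLib.RatPoint
import Groth.Prelude.Def_KLin
import Mathlib.AlgebraicGeometry.AlgClosed.Basic
import Mathlib.LinearAlgebra.Charpoly.ToMatrix
import Mathlib.FieldTheory.IsAlgClosed.Basic

/-!
# Stable bundles are simple
-/

universe u

open CategoryTheory AlgebraicGeometry Limits
open Groth.Agent.PullStalk.Sky Groth.Agent.PullStalk.Exact

set_option linter.style.haveILetI false

namespace Groth.Agent.VBLib

variable {k : Type u} [Field k] {X : Scheme.{u}} [X.Over (Spec (CommRingCat.of k))]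

lemma stalkLin_sub_smul_apply {E : X.Modules} (φ : E ⟶ E) (c : k) (x : X) (t : E.presheaf.stalk x) :
    stalkLin (φ - c • 𝟙 E) x t = stalkLin φ x t -
      X.presheaf.germ ⊤ x trivial (Coh.toGlobal (X ↘ Spec (CommRingCat.of k)) c) • t := by
  obtain ⟨U, hx, m, rfl⟩ := exists_germM_eq E x t
  rw [stalkLin_germ, stalkLin_germ, Scheme.Modules.Hom.sub_app]
  have h1 : (c • 𝟙 E).app U m =
      X.presheaf.map (homOfLE (le_top : U ≤ ⊤)).op (Coh.toGlobal (X ↘ Spec (CommRingCat.of k)) c) • m :=
    KLin.smul_app_apply c (𝟙 E) U m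
  show germM E U x hx ((φ.app U m) - (c • 𝟙 E).app U m) = _
  rw [h1]
  refine (map_sub (E.presheaf.germ U x hx).hom _ _).trans ?_
  refine congrArg (fun z => germM E U x hx (φ.app U m) - z) ?_
  refine (germM_smul E U x hx _ _).trans ?_
  exact congrArg (fun z => z • germM E U x hx m) (X.presheaf.germ_res_apply _ x hx _)

variable [IsAlgClosed k]

/-- On a scheme of finite type over an algebraically closed field every endomorphism of a locally free
module of positive rank has, after subtracting a scalar, a non-invertible value. -/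
theorem exists_not_isIso_sub_smul [Nonempty X] [CompactSpace X]
    [LocallyOfFiniteType (X ↘ Spec (CommRingCat.of k))] {E : X.Modules} {r : ℕ}
    (hE : FlatMod.IsFinLocFreeOfRank r E) (hr : 0 < r) (φ : E ⟶ E) :
    ∃ c : k, ¬ IsIso (φ - c • 𝟙 E) := by
  obtain ⟨x₀, -, hx₀⟩ := IsClosed.exists_closed_singleton (isClosed_univ (X := X)) Set.univ_nonempty
  let p := pointOfClosedPoint (X ↘ Spec (CommRingCat.of k)) x₀ hx₀
  let x := p (IsLocalRing.closedPoint k)
  obtain ⟨U, hxU, ⟨ψ⟩⟩ := hE x
  obtain ⟨e, he⟩ := exists_isFrame_of_iso ψ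
  let b : (Fin r → X.presheaf.stalk x) ≃ₗ[X.presheaf.stalk x] E.presheaf.stalk x :=
    LinearEquiv.ofBijective _ (he.stalkComb_bijective x hxU)
  haveI : Module.Free (X.presheaf.stalk x) (E.presheaf.stalk x) := Module.Free.of_equiv b
  haveI : Module.Finite (X.presheaf.stalk x) (E.presheaf.stalk x) := Module.Finite.equiv b
  have hrank : Module.finrank (X.presheaf.stalk x) (E.presheaf.stalk x) = r := by
    rw [← b.finrank_eq, Module.finrank_fin_fun]
  let f := stalkLin φ x
  have hdeg : (f.charpoly.map (LinSerLib.chi p)).degree ≠ 0 := by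
    rw [f.charpoly_monic.degree_map, Polynomial.degree_eq_natDegree f.charpoly_monic.ne_zero,
      f.charpoly_natDegree, hrank]
    exact_mod_cast hr.ne'
  obtain ⟨c, hc⟩ := IsAlgClosed.exists_root _ hdeg
  refine ⟨c, fun hiso => ?_⟩
  let γ : X.presheaf.stalk x :=
    X.presheaf.germ ⊤ x trivial (Coh.toGlobal (X ↘ Spec (CommRingCat.of k)) c)
  have hg : Function.Bijective (stalkLin (φ - c • 𝟙 E) x) := by
    haveI := hiso
    let ψ' := asIso (φ - c • 𝟙 E)
    refine Function.bijective_iff_has_inverse.mpr ⟨stalkLin ψ'.inv x, fun t => ?_, fun t => ?_⟩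
    · obtain ⟨V, hV, m, rfl⟩ := exists_germM_eq E x t
      rw [stalkLin_germ, stalkLin_germ]
      exact congrArg (germM E V x hV) (congrArg (fun g : E ⟶ E => g.app V m) ψ'.hom_inv_id)
    · obtain ⟨V, hV, m, rfl⟩ := exists_germM_eq E x t
      rw [stalkLin_germ, stalkLin_germ]
      exact congrArg (germM E V x hV) (congrArg (fun g : E ⟶ E => g.app V m) ψ'.inv_hom_id)
  have hgeq : stalkLin (φ - c • 𝟙 E) x = f - γ • LinearMap.id := by
    ext t
    exact stalkLin_sub_smul_apply φ c x t
  rw [hgeq] at hg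
  have hunit : IsUnit (LinearMap.det (γ • LinearMap.id - f)) := by
    have h1 : IsUnit (γ • LinearMap.id - f : Module.End (X.presheaf.stalk x) (E.presheaf.stalk x)) := by
      rw [← neg_sub f]
      exact ((Module.End.isUnit_iff _).mpr hg).neg
    exact h1.map LinearMap.det
  have heval : f.charpoly.eval γ = LinearMap.det (γ • LinearMap.id - f) := by
    rw [LinearMap.eval_charpoly]
    congr 1
  rw [← heval] at hunit
  have h0 : LinSerLib.chi p (f.charpoly.eval γ) = 0 := by
    rw [← Polynomial.eval₂_at_apply, ← Polynomial.eval_map]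
    have hγ : LinSerLib.chi p γ = c :=
      LinSerLib.chi_global p (pointOfClosedPoint_comp _ x₀ hx₀) c
    rw [hγ]
    exact hc
  exact (hunit.map (LinSerLib.chi p)).ne_zero h0

/-- Stable bundles are simple. -/
theorem GoodCurve.exists_eq_smul_id [IsIntegral X] [CompactSpace X] (hX : GoodCurve k X)
    [LocallyOfFiniteType (X ↘ Spec (CommRingCat.of k))] {E : X.Modules}
    (hE : FlatMod.IsFinLocFree E) (hst : Stable k E) (φ : E ⟶ E) : ∃ c : k, φ = c • 𝟙 E := by
  rcases Nat.eq_zero_or_pos (rk E) with h0 | hpos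
  · exact ⟨0, (isZero_of_rk_eq_zero hE h0).eq_of_src _ _⟩
  obtain ⟨c, hc⟩ := exists_not_isIso_sub_smul (k := k) (ofRank_rk hE) hpos φ
  refine ⟨c, sub_eq_zero.mp (by_contra fun hne => hc ?_)⟩
  have hss := hX.ss_of_stable hE hst
  exact hX.isIso_of_stable hE hE hss hss (Or.inr ⟨Or.inl hst, rfl⟩) rfl _ hne

end Groth.Agent.VBLib
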