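import Groth.Agent.VBLib.SerreOne
import Groth.Agent.VBLib.Curry
import Groth.Agent.VBLib.Fitting

/-!
# Extensions of vector bundles on a curve of genus one

If there is no nonzero map `A → B` then every extension of `B` by `A` splits.
-/

universe u

open CategoryTheory CategoryTheory.Limits AlgebraicGeometry TopologicalSpace Opposite
open Groth.Agent.PullStalk.Sky Groth.Agent.PullStalk.Exact Groth.Agent.QCoh

set_option linter.style.haveILetI false
set_option backward.isDefEq.respectTransparency.types false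

noncomputable section

namespace Groth.Agent.VBLib.HomOne

variable {X : Scheme.{u}}

open HomShEval.Reflexive in
lemma structureStalkEquiv_germ {W : X.Opens} (y : X) (hy : y ∈ W) (n : Γ(X, W)) :
    structureStalkEquiv y (X.presheaf.germ W y hy n) =
      germM (Coh.structureModule X) W y hy (show Γ(Coh.structureModule X, W) from n) := by
  show X.presheaf.germ W y hy n • oneGerm y = _
  have h1 : germM (Coh.structureModule X) W y hy
      ((Coh.structureModule X).presheaf.map (homOfLE (le_top : W ≤ ⊤)).op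
        (show Γ(Coh.structureModule X, ⊤) from (1 : Γ(X, ⊤)))) = oneGerm y :=
    (Coh.structureModule X).presheaf.germ_res_apply _ _ _ _
  refine (congrArg (X.presheaf.germ W y hy n • ·) h1.symm).trans
    ((germM_smul (Coh.structureModule X) W y hy n _).symm.trans (congrArg _ ?_))
  change n * X.presheaf.map _ (1 : Γ(X, ⊤)) = n
  exact (congrArg _ (map_one _)).trans (mul_one _)

/-- A linear form read with values in the local ring. -/
def scal {B : X.Modules} (y : X) (θ : RefHull.StalkHom B (Coh.structureModule X) y) :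
    B.presheaf.stalk y →ₗ[X.presheaf.stalk y] X.presheaf.stalk y :=
  (HomShEval.Reflexive.structureStalkEquiv y).symm.toLinearMap.comp θ

/-- The rank one map `b ↦ θ(b) a`. -/
def tensSec {A B : X.Modules} {U : X.Opens} (θ : Γ(RefHull.dual B, U)) (a : Γ(A, U)) :
    Γ(RefHull.homSh B A, U) :=
  ⟨fun y => LinearMap.smulRight (scal y.1 (θ.1 y)) (germM A U y.1 y.2 a), fun V i m x => by
    obtain ⟨W, hW, j, n, w⟩ := RefHull.isLocSect_of_mem θ V i m x
    refine ⟨W, hW, j, (show Γ(X, W) from n) • res A (j.le.trans i.le) a, fun y => ?_⟩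
    rw [LinearMap.smulRight_apply, scal, LinearMap.comp_apply, w y]
    refine Eq.trans ?_ (germM_smul A W y.1 y.2 (show Γ(X, W) from n) _).symm
    refine congrArg₂ (· • ·) ((LinearEquiv.symm_apply_eq _).2
      (structureStalkEquiv_germ y.1 y.2 (show Γ(X, W) from n)).symm) ?_
    exact (HomShQC.germM_res A (j.le.trans i.le) y.1 y.2 a).symm⟩

lemma tensSec_apply {A B : X.Modules} {U : X.Opens} (θ : Γ(RefHull.dual B, U)) (a : Γ(A, U)) (y : U) :
    (tensSec θ a).1 y = LinearMap.smulRight (scal y.1 (θ.1 y)) (germM A U y.1 y.2 a) := rfl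

/-- No maps `A → B` means no linear forms on `Hom(B, A)`. -/
theorem eq_zero_of_hom_eq_zero [IsLocallyNoetherian X] [IsIntegral X] {A B : X.Modules} (hA : Coh.IsCoh A)
    (hB : FlatMod.IsFinLocFree B) [IsIso (RefHull.bidualMap B)] (h0 : ∀ φ : A ⟶ B, φ = 0)
    (f : RefHull.homSh B A ⟶ Coh.structureModule X) : f = 0 := by
  have hBc := isCoh_of_isFinLocFree hB
  let P : ∀ U : X.Opens, Γ(A, U) →ₗ[Γ(X, U)] Γ(RefHull.dual B, U) →ₗ[Γ(X, U)] Γ(Coh.structureModule X, U) :=
    fun U => LinearMap.mk₂ Γ(X, U) (fun a θ => f.app U (tensSec θ a))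
      (fun a a' θ => by
        refine (congrArg (f.app U) ?_).trans (map_add (f.app U).hom _ _)
        refine Subtype.ext <| funext fun y => LinearMap.ext fun v => ?_
        show scal y.1 (θ.1 y) v • germM A U y.1 y.2 (a + a') =
          scal y.1 (θ.1 y) v • germM A U y.1 y.2 a + scal y.1 (θ.1 y) v • germM A U y.1 y.2 a'
        rw [← smul_add]
        exact congrArg _ (map_add (A.presheaf.germ U y.1 y.2).hom a a'))
      (fun r a θ => by
        refine (congrArg (f.app U) ?_).trans (f.app_smul r _)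
        refine Subtype.ext <| funext fun y => LinearMap.ext fun v => ?_
        show scal y.1 (θ.1 y) v • germM A U y.1 y.2 (r • a) =
          X.presheaf.germ U y.1 y.2 r • (scal y.1 (θ.1 y) v • germM A U y.1 y.2 a)
        rw [germM_smul, smul_comm])
      (fun a θ θ' => by
        refine (congrArg (f.app U) ?_).trans (map_add (f.app U).hom _ _)
        refine Subtype.ext <| funext fun y => LinearMap.ext fun v => ?_
        show scal y.1 (θ.1 y + θ'.1 y) v • germM A U y.1 y.2 a =
          scal y.1 (θ.1 y) v • germM A U y.1 y.2 a + scal y.1 (θ'.1 y) v • germM A U y.1 y.2 a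
        rw [← add_smul]
        exact congrArg (· • germM A U y.1 y.2 a) (by rw [scal, scal, scal, LinearMap.comp_add, LinearMap.add_apply]))
      (fun r a θ => by
        refine (congrArg (f.app U) ?_).trans (f.app_smul r _)
        refine Subtype.ext <| funext fun y => LinearMap.ext fun v => ?_
        show scal y.1 (X.presheaf.germ U y.1 y.2 r • θ.1 y) v • germM A U y.1 y.2 a =
          X.presheaf.germ U y.1 y.2 r • (scal y.1 (θ.1 y) v • germM A U y.1 y.2 a)
        rw [smul_smul]
        exact congrArg (· • germM A U y.1 y.2 a)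
          (by rw [scal, scal, LinearMap.comp_smul, LinearMap.smul_apply, smul_eq_mul]))
  have hP : ∀ (U V : X.Opens) (h : V ≤ U) (a : Γ(A, U)) (θ : Γ(RefHull.dual B, U)),
      res (Coh.structureModule X) h (P U a θ) = P V (res A h a) (res (RefHull.dual B) h θ) := by
    intro U V h a θ
    refine (NatTrans.naturality_apply f.mapPresheaf (homOfLE h).op (tensSec θ a)).symm.trans ?_
    refine congrArg (f.app V) (Subtype.ext <| funext fun y => ?_)
    show LinearMap.smulRight (scal y.1 (θ.1 ⟨y.1, h y.2⟩)) (germM A U y.1 (h y.2) a) =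
      LinearMap.smulRight (scal y.1 (θ.1 ⟨y.1, h y.2⟩)) (germM A V y.1 y.2 (res A h a))
    rw [HomShQC.germM_res]
  let φ : A ⟶ RefHull.dual (RefHull.dual B) := Curry.hom P hP
  have hφ : φ = 0 := by
    rw [← cancel_mono (inv (RefHull.bidualMap B)), zero_comp]
    exact h0 _
  have hval : ∀ (U : X.Opens) (a : Γ(A, U)) (θ : Γ(RefHull.dual B, U)) (y : X) (hy : y ∈ U),
      stalkLin f y (germM (RefHull.homSh B A) U y hy (tensSec θ a)) = 0 := by
    intro U a θ y hy
    have h1 := Curry.hom_germ P hP a ⟨y, hy⟩ U le_rfl hy θ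
    rw [stalkLin_germ]
    refine Eq.trans ?_ (h1.symm.trans (LinearMap.congr_fun (congrFun (congrArg Subtype.val
      (show (Curry.hom P hP).app U a = 0 by
        rw [show Curry.hom P hP = 0 from hφ]; rfl)) ⟨y, hy⟩) _))
    exact congrArg (fun t => germM (Coh.structureModule X) U y hy (f.app U (tensSec θ t))) (res_self A le_rfl a).symm
  refine Serre.toHom_ext _ _ fun y t => ?_
  have hz : stalkLin (0 : RefHull.homSh B A ⟶ Coh.structureModule X) y t = 0 := by
    obtain ⟨U, hy, m, rfl⟩ := exists_germM_eq _ y t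
    exact (stalkLin_germ (0 : RefHull.homSh B A ⟶ Coh.structureModule X) U y hy m).trans
      (map_zero ((Coh.structureModule X).presheaf.germ U y hy).hom)
  rw [hz]
  haveI := hBc.1
  haveI := (Props.QProj.free_stalk B hB y).1
  haveI := finite_stalk hBc y
  have hfp := HomShQC.isFP_of_isCoh B hBc
  have hb := HomShQC.evalStalk_bijective B A hfp y
  have hd := HomShQC.evalStalk_bijective B (Coh.structureModule X) hfp y
  let b := Module.Free.chooseBasis (X.presheaf.stalk y) (B.presheaf.stalk y)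
  suffices key : ∀ (c : B.presheaf.stalk y →ₗ[X.presheaf.stalk y] X.presheaf.stalk y) (v : A.presheaf.stalk y),
      ∃ s, RefHull.evalStalk B A y s = LinearMap.smulRight c v ∧ stalkLin f y s = 0 by
    choose s hs hs0 using fun i => key (b.coord i) (RefHull.evalStalk B A y t (b i))
    have ht : t = ∑ i, s i := hb.1 (b.ext fun j => by
      rw [map_sum, LinearMap.sum_apply, Finset.sum_eq_single j (fun i _ hij => ?_) (fun h => absurd (Finset.mem_univ j) h)]
      · rw [hs, LinearMap.smulRight_apply, Module.Basis.coord_apply, Module.Basis.repr_self,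
          Finsupp.single_eq_same, one_smul]
      · rw [hs, LinearMap.smulRight_apply, Module.Basis.coord_apply, Module.Basis.repr_self,
          Finsupp.single_eq_of_ne hij, zero_smul])
    rw [ht, map_sum]
    exact Finset.sum_eq_zero fun i _ => hs0 i
  intro c v
  obtain ⟨θ', hθ'⟩ := hd.2 ((HomShEval.Reflexive.structureStalkEquiv y).toLinearMap.comp c)
  obtain ⟨U₁, h₁, θ, rfl⟩ := exists_germM_eq (RefHull.dual B) y θ'
  obtain ⟨U₂, h₂, a, rfl⟩ := exists_germM_eq A y v
  refine ⟨germM (RefHull.homSh B A) (U₁ ⊓ U₂) y ⟨h₁, h₂⟩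
    (tensSec (res _ inf_le_left θ) (res _ inf_le_right a)), ?_, hval _ _ _ y _⟩
  refine (RefHull.evalStalk_germ B A y _ _).trans ?_
  rw [tensSec_apply, HomShQC.germM_res]
  congr 1
  have h3 : θ.1 ⟨y, h₁⟩ = (HomShEval.Reflexive.structureStalkEquiv y).toLinearMap.comp c :=
    (RefHull.evalStalk_germ B _ y h₁ θ).symm.trans hθ'
  show scal y (θ.1 ⟨y, h₁⟩) = c
  rw [h3, scal, ← LinearMap.comp_assoc]
  ext w
  simp

/-- Postcomposition on local homomorphisms. -/
def postFun {A A' : X.Modules} (B : X.Modules) (g : A ⟶ A') (U : X.Opens) :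
    Γ(RefHull.homSh B A, U) →+ Γ(RefHull.homSh B A', U) where
  toFun h := ⟨fun x => (RefHull.stalkMapₗ g x.1).comp (h.1 x), fun V i m x => by
    obtain ⟨W, hW, j, n, w⟩ := RefHull.isLocSect_of_mem h V i m x
    refine ⟨W, hW, j, g.app W n, fun y => ?_⟩
    rw [LinearMap.comp_apply, w y]
    exact RefHull.stalkMapₗ_germ g y.1 y.2 n⟩
  map_zero' := Subtype.ext <| funext fun _ => LinearMap.comp_zero _
  map_add' _ _ := Subtype.ext <| funext fun _ => LinearMap.comp_add _ _ _

/-- The map `Hom(B, A) → Hom(B, A')`. -/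
def postMap {A A' : X.Modules} (B : X.Modules) (g : A ⟶ A') :
    RefHull.homSh B A ⟶ RefHull.homSh B A' :=
  ⟨PresheafOfModules.homMk
    { app := fun U => AddCommGrpCat.ofHom (postFun B g U.unop)
      naturality := fun {U V} i => by ext h; rfl }
    (fun U r h => Subtype.ext <| funext fun x => LinearMap.comp_smul _ _ _)⟩

lemma evalStalk_postMap {A A' : X.Modules} (B : X.Modules) (g : A ⟶ A') (x : X)
    (θ : (RefHull.homSh B A).presheaf.stalk x) :
    RefHull.evalStalk B A' x (stalkLin (postMap B g) x θ) =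
      (stalkLin g x).comp (RefHull.evalStalk B A x θ) := by
  obtain ⟨U, hx, h, rfl⟩ := exists_germM_eq (RefHull.homSh B A) x θ
  rw [stalkLin_germ]
  refine (RefHull.evalStalk_germ B A' x hx _).trans ?_
  refine Eq.trans ?_ (congrArg (fun l => LinearMap.comp (stalkLin g x) l)
    (RefHull.evalStalk_germ B A x hx h).symm)
  rfl

/-- `Hom(B, -)` is exact for a vector bundle `B`. -/
theorem shortExact_post [IsLocallyNoetherian X] {B : X.Modules} (hB : FlatMod.IsFinLocFree B)
    {S : ShortComplex X.Modules} (hS : S.ShortExact) (w : postMap B S.f ≫ postMap B S.g = 0) :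
    (ShortComplex.mk (postMap B S.f) (postMap B S.g) w).ShortExact := by
  have hBc := isCoh_of_isFinLocFree hB
  haveI := hBc.1
  have hfp := HomShQC.isFP_of_isCoh B hBc
  have key : ∀ x : X, Function.Injective (stalkLin (postMap B S.f) x) ∧
      Function.Exact (stalkLin (postMap B S.f) x) (stalkLin (postMap B S.g) x) ∧
      Function.Surjective (stalkLin (postMap B S.g) x) := by
    intro x
    obtain ⟨hi, he, hs⟩ := stalk_exact hS x
    obtain ⟨b₁, b₁'⟩ := HomShQC.evalStalk_bijective B S.X₁ hfp x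
    obtain ⟨b₂, b₂'⟩ := HomShQC.evalStalk_bijective B S.X₂ hfp x
    obtain ⟨b₃, b₃'⟩ := HomShQC.evalStalk_bijective B S.X₃ hfp x
    haveI := (Props.QProj.free_stalk B hB x).1
    refine ⟨fun a b hab => b₁ (LinearMap.ext fun v => hi ?_), fun t => ⟨fun ht => ?_, ?_⟩, fun t => ?_⟩
    · have h1 := congrArg (RefHull.evalStalk B S.X₂ x) hab
      rw [evalStalk_postMap, evalStalk_postMap] at h1
      exact LinearMap.congr_fun h1 v
    · have h1 := congrArg (RefHull.evalStalk B S.X₃ x) ht
      rw [evalStalk_postMap, map_zero] at h1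
      have hr : ∀ v, RefHull.evalStalk B S.X₂ x t v ∈ LinearMap.range (stalkLin S.f x) := fun v =>
        (he _).mp (LinearMap.congr_fun h1 v)
      obtain ⟨θ, hθ⟩ := b₁' ((LinearEquiv.ofInjective _ hi).symm.toLinearMap.comp (LinearMap.codRestrict _ _ hr))
      refine ⟨θ, b₂ ((evalStalk_postMap B S.f x θ).trans ?_)⟩
      rw [hθ]
      refine LinearMap.ext fun v => ?_
      show stalkLin S.f x ((LinearEquiv.ofInjective _ hi).symm ⟨_, hr v⟩) = _
      exact congrArg Subtype.val ((LinearEquiv.ofInjective _ hi).apply_symm_apply ⟨_, hr v⟩)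
    · rintro ⟨θ, rfl⟩
      apply b₃
      rw [evalStalk_postMap, evalStalk_postMap, map_zero, ← LinearMap.comp_assoc]
      refine LinearMap.ext fun v => ?_
      exact he.apply_apply_eq_zero _
    · obtain ⟨ψ, hψ⟩ := Module.projective_lifting_property _ (RefHull.evalStalk B S.X₃ x t) hs
      obtain ⟨θ, rfl⟩ := b₂' ψ
      exact ⟨θ, b₃ ((evalStalk_postMap B S.g x θ).trans hψ)⟩
  exact
    { exact := Omega.Stalks.exact_of_stalk _ fun x t ht => ((key x).2.1 t).mp ht
      mono_f := Omega.Stalks.mono_of_stalk fun x => (key x).1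
      epi_g := Omega.Stalks.epi_of_stalk fun x => (key x).2.2 }

end Groth.Agent.VBLib.HomOne

namespace Groth.Agent.VBLib

variable {k : Type u} [Field k] {X : Scheme.{u}} [X.Over (Spec (CommRingCat.of k))] [IsIntegral X]
  (hX : GoodCurve k X)
include hX

/-- In genus one an extension of `B` by `A` splits when there is no nonzero map `A → B`. -/
theorem GoodCurve.isSplitEpi_one (h : Function.Bijective (Coh.toGlobal (X ↘ Spec (CommRingCat.of k))))
    (hg : Curv2.genus k X = 1) {S : ShortComplex X.Modules} (hS : S.ShortExact)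
    (h₁ : FlatMod.IsFinLocFree S.X₁) (h₃ : FlatMod.IsFinLocFree S.X₃)
    (h0 : ∀ φ : S.X₁ ⟶ S.X₃, φ = 0) : IsSplitEpi S.g := by
  haveI := hX.isLocallyNoetherian
  have h₁c := isCoh_of_isFinLocFree h₁
  have h₃c := isCoh_of_isFinLocFree h₃
  have hfp := HomShQC.isFP_of_isCoh S.X₃ h₃c
  have hH : Coh.IsCoh (RefHull.homSh S.X₃ S.X₁) := HomShEval.QCoh.isCoh_homSh S.X₃ S.X₁ h₃c h₁c
  have hHf : FlatMod.IsFinLocFree (RefHull.homSh S.X₃ S.X₁) := by
    refine isFinLocFree_of_torsionFree hX.pid hH fun x => ?_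
    haveI := h₁c.1
    haveI := (Props.QProj.free_stalk S.X₁ h₁ x).1
    haveI := h₃c.1
    haveI := (Props.QProj.free_stalk S.X₃ h₃ x).1
    haveI := finite_stalk h₃c x
    haveI := finite_stalk h₁c x
    haveI : Module.IsTorsionFree (X.presheaf.stalk x) (RefHull.StalkHom S.X₃ S.X₁ x) := inferInstance
    exact (HomShQC.evalStalk_bijective S.X₃ S.X₁ hfp x).1.moduleIsTorsionFree _ (map_smul _)
  haveI := hX.isIso_bidual h₃
  haveI := hX.subsingleton_h1_one h hg hHf (HomOne.eq_zero_of_hom_eq_zero h₁c h₃ h0)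
  have w : HomOne.postMap S.X₃ S.f ≫ HomOne.postMap S.X₃ S.g = 0 := by
    refine Serre.toHom_ext _ _ fun y t => ?_
    rw [Omega.Stalks.stalkLin_comp]
    apply (HomShQC.evalStalk_bijective S.X₃ S.X₃ hfp y).1
    rw [HomOne.evalStalk_postMap, HomOne.evalStalk_postMap]
    have h0' : stalkLin (0 : RefHull.homSh S.X₃ S.X₁ ⟶ RefHull.homSh S.X₃ S.X₃) y t = 0 := by
      obtain ⟨U, hy, m, rfl⟩ := exists_germM_eq _ y t
      exact (stalkLin_germ (0 : RefHull.homSh S.X₃ S.X₁ ⟶ RefHull.homSh S.X₃ S.X₃) U y hy m).trans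
        (map_zero ((RefHull.homSh S.X₃ S.X₃).presheaf.germ U y hy).hom)
    rw [h0', map_zero]
    refine LinearMap.ext fun v => ?_
    exact (stalk_exact hS y).2.1.apply_apply_eq_zero (RefHull.evalStalk S.X₃ S.X₁ y t v)
  have hE := HomOne.shortExact_post h₃ hS w
  obtain ⟨c, hc⟩ := CohLin.exists_hMap_g_eq hE ((ProperFin.h0Sec _).symm (RefHull.ofHom (𝟙 S.X₃) ⊤))
    (Subsingleton.elim _ _)
  refine ⟨⟨⟨Serre.toHom S.X₃ S.X₂ (ProperFin.h0Sec _ c), ?_⟩⟩⟩
  have h1 := congrArg (ProperFin.h0Sec _) hc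
  rw [AddEquiv.apply_symm_apply, ProperFin.h0Sec_hMap] at h1
  refine Serre.toHom_ext _ _ fun y t => ?_
  rw [Omega.Stalks.stalkLin_comp, Serre.stalkLin_toHom]
  exact LinearMap.congr_fun (congrFun (congrArg Subtype.val h1) ⟨y, trivial⟩) t

end Groth.Agent.VBLib
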