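import Groth.Agent.CohLin.Basic
import Groth.Agent.VBLib.GenusZero
import Groth.Agent.VBLib.H0Bound
import Groth.Agent.CurveCoh.Euler
import Groth.Agent.EulerChar.CurveVanish
import Groth.Agent.ProperFin.Descend
import Mathlib.CategoryTheory.Abelian.Refinements

/-!
# Nonsplit self extensions of the structure sheaf
-/

universe u

open CategoryTheory CategoryTheory.Limits AlgebraicGeometry CategoryTheory.Abelian

set_option linter.style.haveILetI false

noncomputable section

namespace Groth.Agent.VBLib.SelfExt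

variable {X : Scheme.{u}}

/-- Naturality of the connecting map. -/
theorem hδ_natural {S T : ShortComplex X.Modules} (hS : S.ShortExact) (hT : T.ShortExact) (φ : S ⟶ T)
    (n : ℕ) (x : Coh.HH X S.X₃ n) :
    CohLin.hMap φ.τ₁ (n + 1) (CohLin.hδ hS n x) = CohLin.hδ hT n (CohLin.hMap φ.τ₃ n x) := by
  let φ' : ShortComplex.mk (CohLin.abMap S.f) (CohLin.abMap S.g) (CohLin.abMap_w S) ⟶
      ShortComplex.mk (CohLin.abMap T.f) (CohLin.abMap T.g) (CohLin.abMap_w T) :=
    { τ₁ := CohLin.abMap φ.τ₁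
      τ₂ := CohLin.abMap φ.τ₂
      τ₃ := CohLin.abMap φ.τ₃
      comm₁₂ := by rw [← CohLin.abMap_comp, ← CohLin.abMap_comp, φ.comm₁₂]
      comm₂₃ := by rw [← CohLin.abMap_comp, ← CohLin.abMap_comp, φ.comm₂₃] }
  have h := ShortComplex.ShortExact.extClass_naturality (CohLin.shortExact_abSeq (X := X) (S := S) hS) (CohLin.shortExact_abSeq (X := X) (S := T) hT) φ'
  rw [CohLin.hMap_apply, CohLin.hδ_apply, CohLin.hδ_apply, CohLin.hMap_apply]
  erw [Ext.comp_assoc_of_third_deg_zero]
  erw [h]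
  erw [← Ext.comp_assoc_of_second_deg_zero]
  rfl

variable {k : Type u} [Field k] [X.Over (Spec (CommRingCat.of k))]

/-- The unit global section. -/
def one₀ (X : Scheme.{u}) : Coh.HH X (Coh.structureModule X) 0 :=
  (GenusZero.toSec (Coh.structureModule X)).symm (Props.GenLocus.one' (⊤ : X.Opens))

theorem exists_section {A E : X.Modules} {i : A ⟶ E} {q : E ⟶ Coh.structureModule X} {w : i ≫ q = 0}
    (hS : (ShortComplex.mk i q w).ShortExact) (h0 : CohLin.hδ hS 0 (one₀ X) = 0) : IsSplitEpi q := by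
  obtain ⟨c, hc⟩ := CohLin.exists_hMap_g_eq hS _ h0
  refine ⟨⟨⟨Props.GenLocus.homOfSec (GenusZero.toSec E c), EulerChar.hom_eq_of_sec fun U => ?_⟩⟩⟩
  have h1 := congrArg (GenusZero.toSec (Coh.structureModule X)) hc
  rw [show GenusZero.toSec (Coh.structureModule X) (CohLin.hMap q 0 c) = q.app ⊤ (GenusZero.toSec E c) from
    ProperFin.h0Sec_hMap q c, one₀, AddEquiv.apply_symm_apply] at h1
  show q.app U (Props.GenLocus.sec (Props.GenLocus.homOfSec (GenusZero.toSec E c)) U) = Props.GenLocus.one' U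
  rw [Props.GenLocus.sec_homOfSec]
  refine (NatTrans.naturality_apply q.mapPresheaf (homOfLE (le_top : U ≤ ⊤)).op _).trans ?_
  exact (congrArg ((Coh.structureModule X).presheaf.map (homOfLE (le_top : U ≤ ⊤)).op) h1).trans
    (map_one (X.presheaf.map (homOfLE (le_top : U ≤ ⊤)).op).hom)

/-- Two nonsplit extensions of `O` by `O` are isomorphic when `H¹(O)` is a line. -/
theorem nonempty_iso (h1 : Module.finrank k (Coh.HH X (Coh.structureModule X) 1) = 1)
    {E E' : X.Modules} {i : Coh.structureModule X ⟶ E} {q : E ⟶ Coh.structureModule X} {w : i ≫ q = 0}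
    {i' : Coh.structureModule X ⟶ E'} {q' : E' ⟶ Coh.structureModule X} {w' : i' ≫ q' = 0}
    (hS : (ShortComplex.mk i q w).ShortExact) (hS' : (ShortComplex.mk i' q' w').ShortExact)
    (hn : ¬ IsSplitEpi q) (hn' : ¬ IsSplitEpi q') : Nonempty (E ≅ E') := by
  haveI : Mono i := hS.mono_f
  haveI : Epi q := hS.epi_g
  haveI : Mono i' := hS'.mono_f
  haveI : Epi q' := hS'.epi_g
  have hd : CohLin.hδ hS 0 (one₀ X) ≠ 0 := fun h => hn (exists_section hS h)
  have hd' : CohLin.hδ hS' 0 (one₀ X) ≠ 0 := fun h => hn' (exists_section hS' h)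
  obtain ⟨c, hc⟩ := exists_smul_eq_of_finrank_eq_one h1 hd (CohLin.hδ hS' 0 (one₀ X))
  let r : (Coh.structureModule X) ⟶ (Coh.structureModule X) := c • 𝟙 (Coh.structureModule X)
  have hr : ∀ x : Coh.HH X (Coh.structureModule X) 1, CohLin.hMap r 1 x = c • x := fun x => by
    have e : CohLin.abMap r = Coh.smulAb (Coh.structureModule X) (Coh.toGlobal (X ↘ Spec (CommRingCat.of k)) c) := by
      show (SheafOfModules.toSheaf X.ringCatSheaf).map (c • 𝟙 (Coh.structureModule X)) = _
      rw [KLin.smul_id]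
      rfl
    rw [CohLin.hMap_apply, e]
    rfl
  have hc0 : c ≠ 0 := by
    rintro rfl
    exact hd' (by rw [← hc, zero_smul])
  haveI : IsIso r := ⟨⟨c⁻¹ • 𝟙 (Coh.structureModule X), by simp [r, smul_smul, hc0], by simp [r, smul_smul, hc0]⟩⟩
  let j : (Coh.structureModule X) ⊞ (Coh.structureModule X) ⟶ pullback q' q := pullback.lift (biprod.fst ≫ i') (biprod.snd ≫ i) (by simp [w, w'])
  have hj1 : j ≫ pullback.fst q' q = biprod.fst ≫ i' := pullback.lift_fst _ _ _
  have hj2 : j ≫ pullback.snd q' q = biprod.snd ≫ i := pullback.lift_snd _ _ _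
  clear_value j
  haveI : Mono j := Preadditive.mono_of_cancel_zero _ fun x hx => by
    apply biprod.hom_ext <;> rw [zero_comp]
    · rw [← cancel_mono i', zero_comp, Category.assoc]
      simpa [hj1] using congrArg (· ≫ pullback.fst q' q) hx
    · rw [← cancel_mono i, zero_comp, Category.assoc]
      simpa [hj2] using congrArg (· ≫ pullback.snd q' q) hx
  have wj : j ≫ pullback.fst q' q ≫ q' = 0 := by simp [reassoc_of% hj1, w']
  let S'' := ShortComplex.mk j (pullback.fst q' q ≫ q') wj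
  have hS'' : S''.ShortExact := by
    haveI : Epi (pullback.fst q' q) := Abelian.epi_pullback_of_epi_g q' q
    refine { exact := ShortComplex.exact_of_f_is_kernel _ ?_, epi_g := epi_comp _ _ }
    refine KernelFork.IsLimit.ofι' _ _ fun {A} y hy => ⟨biprod.lift (hS'.exact.lift (y ≫ pullback.fst q' q) ?_)
      (hS.exact.lift (y ≫ pullback.snd q' q) ?_), ?_⟩
    · simpa using hy
    · show (y ≫ pullback.snd q' q) ≫ q = 0
      rw [Category.assoc, ← pullback.condition]
      exact hy
    · apply pullback.hom_ext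
      · simp only [S'', Category.assoc, hj1, biprod.lift_fst_assoc]
        exact hS'.exact.lift_f _ _
      · simp only [S'', Category.assoc, hj2, biprod.lift_snd_assoc]
        exact hS.exact.lift_f _ _
  let φ₁ : S'' ⟶ ShortComplex.mk i' q' w' :=
    { τ₁ := biprod.fst, τ₂ := pullback.fst q' q, τ₃ := 𝟙 (Coh.structureModule X),
      comm₁₂ := by simp [S'', hj1, hj2], comm₂₃ := by simp [S''] }
  let φ₂ : S'' ⟶ ShortComplex.mk i q w :=
    { τ₁ := biprod.snd, τ₂ := pullback.snd q' q, τ₃ := 𝟙 (Coh.structureModule X),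
      comm₁₂ := by simp [S'', hj1, hj2], comm₂₃ := by simp [S'', pullback.condition] }
  let ρ : (Coh.structureModule X) ⊞ (Coh.structureModule X) ⟶ (Coh.structureModule X) := biprod.fst - biprod.snd ≫ r
  let κ : (Coh.structureModule X) ⟶ pullback q' q := biprod.lift r (𝟙 (Coh.structureModule X)) ≫ j
  have wκ : κ ≫ pullback.fst q' q ≫ q' = 0 := by simp [κ, wj]
  let a : (Coh.structureModule X) ⟶ cokernel κ := biprod.inl ≫ j ≫ cokernel.π κ
  let b : cokernel κ ⟶ (Coh.structureModule X) := cokernel.desc κ (pullback.fst q' q ≫ q') wκ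
  have wab : a ≫ b = 0 := by simp [a, b, wj]
  have hρ : ρ ≫ a = j ≫ cokernel.π κ := by
    have h0 : biprod.inr ≫ j ≫ cokernel.π κ = - (r ≫ a) := by
      rw [eq_neg_iff_add_eq_zero]
      have := cokernel.condition κ
      simp only [κ, biprod.lift_eq, Preadditive.add_comp, Category.assoc, Category.id_comp] at this
      rw [add_comm]
      exact this
    refine biprod.hom_ext' _ _ ?_ ?_
    · simp [ρ, a]
    · rw [h0]; simp [ρ]
  haveI : Mono a := by
    refine Preadditive.mono_of_cancel_zero _ fun {A} x hx => ?_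
    haveI : Mono κ := Preadditive.mono_of_cancel_zero _ fun y hy => by
      have h0 : y ≫ biprod.lift r (𝟙 (Coh.structureModule X)) = 0 := by rw [← cancel_mono j, Category.assoc, zero_comp]; exact hy
      simpa using congrArg (· ≫ biprod.snd) h0
    have hκ : (ShortComplex.mk κ (cokernel.π κ) (cokernel.condition κ)).ShortExact :=
      { exact := ShortComplex.exact_of_g_is_cokernel _ (cokernelIsCokernel κ) }
    obtain ⟨y, hy⟩ : ∃ y : A ⟶ (Coh.structureModule X), y ≫ κ = x ≫ biprod.inl ≫ j :=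
      ⟨hκ.exact.lift (x ≫ biprod.inl ≫ j) (by simpa [a] using hx), hκ.exact.lift_f _ _⟩
    have h0 : y ≫ biprod.lift r (𝟙 (Coh.structureModule X)) = x ≫ biprod.inl := by
      rw [← cancel_mono j]; simpa [κ] using hy
    have hy0 : y = 0 := by simpa using congrArg (· ≫ biprod.snd) h0
    rw [hy0, zero_comp] at h0
    simpa using (congrArg (· ≫ biprod.fst) h0).symm
  haveI : Epi b := by
    haveI : Epi (cokernel.π κ ≫ b) := by
      rw [cokernel.π_desc]
      exact hS''.epi_g
    exact epi_of_epi (cokernel.π κ) b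
  have hF : (ShortComplex.mk a b wab).ShortExact := by
    refine { exact := ?_ }
    rw [ShortComplex.exact_iff_exact_up_to_refinements]
    intro A x hx
    obtain ⟨A', π, hπ, y, hy⟩ := surjective_up_to_refinements_of_epi (cokernel.π κ) x
    have hy0 : y ≫ pullback.fst q' q ≫ q' = 0 := by
      have := congrArg (· ≫ b) hy
      simp only [Category.assoc, cokernel.π_desc, b] at this
      rw [← this]
      simp only [b] at hx
      rw [hx, comp_zero]
    refine ⟨A', π, hπ, hS''.exact.lift y hy0 ≫ ρ, ?_⟩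
    rw [hy, Category.assoc, hρ, hS''.exact.lift_f_assoc]
  let φ₃ : S'' ⟶ ShortComplex.mk a b wab :=
    { τ₁ := ρ, τ₂ := cokernel.π κ, τ₃ := 𝟙 (Coh.structureModule X), comm₁₂ := hρ, comm₂₃ := by simp [S'', b] }
  have hsplit : IsSplitEpi b := by
    refine exists_section hF ?_
    have e₁ : CohLin.hMap biprod.fst 1 (CohLin.hδ hS'' 0 (one₀ X)) = CohLin.hδ hS' 0 (one₀ X) :=
      (hδ_natural hS'' hS' φ₁ 0 (one₀ X)).trans (congrArg (CohLin.hδ hS' 0) (CohLin.hMap_id _ 0 _))
    have e₂ : CohLin.hMap biprod.snd 1 (CohLin.hδ hS'' 0 (one₀ X)) = CohLin.hδ hS 0 (one₀ X) :=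
      (hδ_natural hS'' hS φ₂ 0 (one₀ X)).trans (congrArg (CohLin.hδ hS 0) (CohLin.hMap_id _ 0 _))
    have e₃ : CohLin.hMap ρ 1 (CohLin.hδ hS'' 0 (one₀ X)) = CohLin.hδ hF 0 (one₀ X) :=
      (hδ_natural hS'' hF φ₃ 0 (one₀ X)).trans (congrArg (CohLin.hδ hF 0) (CohLin.hMap_id _ 0 _))
    refine e₃.symm.trans ?_
    have e : CohLin.hMap ρ 1 (CohLin.hδ hS'' 0 (one₀ X)) =
        CohLin.hMap biprod.fst 1 (CohLin.hδ hS'' 0 (one₀ X)) -
          CohLin.hMap r 1 (CohLin.hMap biprod.snd 1 (CohLin.hδ hS'' 0 (one₀ X))) := by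
      rw [← CohLin.hMap_comp]
      exact map_sub (CohLin.hMapHom _ (Coh.structureModule X) 1 (CohLin.hδ hS'' 0 (one₀ X))) _ _
    rw [e, e₁, e₂, hr, hc, sub_self]
  obtain ⟨⟨⟨sec', hsec⟩⟩⟩ := hsplit
  haveI : Epi b := ‹_›
  let sp := ShortComplex.Splitting.ofExactOfSection _ hF.exact sec' hsec inferInstance
  let r' : pullback q' q ⟶ (Coh.structureModule X) := cokernel.π κ ≫ sp.r
  have hr' : j ≫ r' = ρ := by
    rw [← Category.assoc, ← hρ, Category.assoc]
    exact (congrArg (ρ ≫ ·) sp.f_r).trans (Category.comp_id _)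
  let H : pullback q' q ⟶ E' := pullback.fst q' q - r' ≫ i'
  have hjH : j ≫ H = biprod.snd ≫ r ≫ i' := by
    rw [Preadditive.comp_sub, ← Category.assoc j r' i', hr']
    simp [hj1, ρ]
  haveI : Epi (pullback.snd q' q) := Abelian.epi_pullback_of_epi_f q' q
  have wk : biprod.inl ≫ j ≫ pullback.snd q' q = 0 := by simp [hj1, hj2, reassoc_of% hj1, reassoc_of% hj2]
  have hk : (ShortComplex.mk (biprod.inl ≫ j) (pullback.snd q' q) (by simpa using wk)).Exact := by
    refine ShortComplex.exact_of_f_is_kernel _ (KernelFork.IsLimit.ofι' _ _ fun {A} y hy =>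
      ⟨hS'.exact.lift (y ≫ pullback.fst q' q) ?_, ?_⟩)
    · show (y ≫ pullback.fst q' q) ≫ q' = 0
      rw [Category.assoc, pullback.condition, ← Category.assoc]
      exact (congrArg (· ≫ q) hy).trans zero_comp
    · apply pullback.hom_ext
      · simp only [Category.assoc, hj1, biprod.inl_fst_assoc]
        exact hS'.exact.lift_f _ _
      · simpa [hj2] using hy.symm
  let f : E ⟶ E' := hk.desc H (by simp [hjH])
  have hf : pullback.snd q' q ≫ f = H := hk.g_desc _ _
  let ψ : ShortComplex.mk i q w ⟶ ShortComplex.mk i' q' w' :=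
    { τ₁ := r, τ₂ := f, τ₃ := 𝟙 (Coh.structureModule X)
      comm₁₂ := by
        show r ≫ i' = i ≫ f
        have h0 : i = biprod.inr ≫ j ≫ pullback.snd q' q := by simp [hj1, hj2, reassoc_of% hj1, reassoc_of% hj2]
        rw [h0, Category.assoc, Category.assoc, hf, hjH]
        simp
      comm₂₃ := by
        show f ≫ q' = q ≫ 𝟙 (Coh.structureModule X)
        rw [← cancel_epi (pullback.snd q' q), ← Category.assoc, hf, Category.comp_id, ← pullback.condition]
        simp [H, w'] }
  haveI : IsIso ψ.τ₁ := inferInstanceAs (IsIso r)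
  haveI : IsIso ψ.τ₃ := inferInstanceAs (IsIso (𝟙 (Coh.structureModule X)))
  haveI : IsIso f := ShortComplex.isIso₂_of_shortExact_of_isIso₁₃ ψ hS hS'
  exact ⟨asIso f⟩

end Groth.Agent.VBLib.SelfExt
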