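import Groth.Agent.VBLib.SerreOne
import Groth.Agent.VBLib.H0Bound

/-!
# Subsheaves of trivial bundles, and sections of subsheaves of semistable bundles in genus one
-/

universe u

open CategoryTheory CategoryTheory.Limits AlgebraicGeometry TopologicalSpace Opposite
open Groth.Agent.PullStalk.Sky Groth.Agent.PullStalk.Exact
open Groth.Agent.VBLib.GenusZero Groth.Agent.Props.GenLocus

set_option linter.style.haveILetI false
set_option backward.isDefEq.respectTransparency.types false

noncomputable section

namespace Groth.Agent.VBLib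

variable {k : Type u} [Field k] {X : Scheme.{u}} [X.Over (Spec (CommRingCat.of k))] [IsIntegral X]
  (hX : GoodCurve k X)
include hX

/-- `h⁰` is subadditive along short exact sequences. -/
theorem GoodCurve.h0_le_add {S : ShortComplex X.Modules} (hS : S.ShortExact) (h₁ : Coh.IsCoh S.X₁)
    (h₂ : Coh.IsCoh S.X₂) (h₃ : Coh.IsCoh S.X₃) :
    Module.finrank k (Coh.HH X S.X₂ 0) ≤
      Module.finrank k (Coh.HH X S.X₁ 0) + Module.finrank k (Coh.HH X S.X₃ 0) := by
  haveI := hX.proper
  haveI := h₁.1
  haveI := h₂.1
  haveI := h₃.1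
  haveI := CurveCoh.finite_HH_zero (k := k) S.X₁ hX.val hX.dim h₁
  haveI := CurveCoh.finite_HH_zero (k := k) S.X₂ hX.val hX.dim h₂
  haveI := CurveCoh.finite_HH_zero (k := k) S.X₃ hX.val hX.dim h₃
  have hk : LinearMap.ker (CurveCoh.mapL k S.g 0) ≤ LinearMap.range (CurveCoh.mapL k S.f 0) :=
    fun x hx => CohLin.exists_hMap_f_eq hS x hx
  have e1 := LinearMap.finrank_range_add_finrank_ker (CurveCoh.mapL k S.g 0)
  have e2 := Submodule.finrank_mono hk
  have e3 := LinearMap.finrank_range_le (CurveCoh.mapL k S.f 0)
  have e4 := Submodule.finrank_le (LinearMap.range (CurveCoh.mapL k S.g 0))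
  omega

/-- `deg O = 0`. -/
theorem GoodCurve.dg_structure :
    FlatMod.IsFinLocFree (Coh.structureModule X) ∧ rk (Coh.structureModule X) = 1 ∧
      dg k (Coh.structureModule X) = 0 := by
  have hO := ofRank_one_of_invertible (LFFrame.isInvertible_structureModule X)
  exact ⟨isFinLocFree_of_ofRank hO, rk_eq hO, by simp [dg, Curv2.deg, rk_eq hO]⟩

/-- A subsheaf of a trivial bundle has nonpositive degree and at most as many sections as its rank. -/
theorem GoodCurve.sub_free (h : Function.Bijective (Coh.toGlobal (X ↘ Spec (CommRingCat.of k))))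
    {G : X.Modules} (hG : FlatMod.IsFinLocFree G) (n : ℕ) (f : Fin n → (G ⟶ Coh.structureModule X))
    (hf : ∀ (Z : X.Modules) (g : Z ⟶ G), (∀ i, g ≫ f i = 0) → g = 0) :
    dg k G ≤ 0 ∧ Module.finrank k (Coh.HH X G 0) ≤ rk G := by
  haveI := hX.isLocallyNoetherian
  haveI := hX.proper
  induction n generalizing G with
  | zero =>
    have hz : IsZero G := by
      rw [IsZero.iff_id_eq_zero]
      exact hf G (𝟙 G) fun i => i.elim0
    have hd := hX.dg_eq_zero_of_isZero (isCoh_of_isFinLocFree hG) hz
    haveI : Subsingleton (Coh.HH X G 0) := ⟨fun a b => by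
      have : ∀ x : Coh.HH X G 0, x = 0 := fun x => by
        rw [← CohLin.hMap_id G 0 x, hz.eq_of_src (𝟙 G) 0]
        exact map_zero (CohLin.hMapHom G G 0 x)
      rw [this a, this b]⟩
    exact ⟨hd.le, by rw [Module.finrank_zero_of_subsingleton]; exact Nat.zero_le _⟩
  | succ n ih =>
    obtain ⟨hOf, hOr, hOd⟩ := hX.dg_structure
    have hOc := isCoh_of_isFinLocFree hOf
    have hGc := isCoh_of_isFinLocFree hG
    let q := f (Fin.last n)
    have hK := isFinLocFree_kernel hX.pid q hG hOc
    have hI := isFinLocFree_image hX.pid q hGc hOf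
    obtain ⟨hd, hr⟩ := hX.dg_kernel_image q hGc hOc
    obtain ⟨k1, k2⟩ := ih hK (fun i => kernel.ι q ≫ f i.castSucc) fun Z g hg => by
      rw [← cancel_mono (kernel.ι q), zero_comp]
      refine hf Z _ fun i => ?_
      rw [Category.assoc]
      induction i using Fin.lastCases with
      | last => rw [kernel.condition q, comp_zero]
      | cast i => exact hg i
    let S := ShortComplex.mk (kernel.ι q) (Abelian.factorThruImage q)
      ((cancel_mono (Abelian.image.ι q)).mp (by simp))
    have hS : S.ShortExact := by
      refine { exact := ShortComplex.exact_of_f_is_kernel _ ?_ }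
      refine KernelFork.IsLimit.ofι' _ _ fun {C} a ha => ⟨kernel.lift q a ?_, kernel.lift_ι _ _ _⟩
      rw [← Abelian.image.fac q, ← Category.assoc]
      exact (congrArg (· ≫ Abelian.image.ι q) ha).trans zero_comp
    have h0 := hX.h0_le_add hS (isCoh_of_isFinLocFree hK) hGc (isCoh_of_isFinLocFree hI)
    have hI' : dg k (Abelian.image q) ≤ 0 ∧
        Module.finrank k (Coh.HH X (Abelian.image q) 0) ≤ rk (Abelian.image q) := by
      have h1 := rk_le_of_mono (Abelian.image.ι q) hOc
      have h2 := hX.finrank_H0_le (Abelian.image.ι q) hOc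
      rw [finrank_H0_structure_eq_one h] at h2
      rcases Nat.eq_zero_or_pos (rk (Abelian.image q)) with h3 | h3
      · have hz := isZero_of_rk_eq_zero hI h3
        refine ⟨(hX.dg_eq_zero_of_isZero (isCoh_of_isFinLocFree hI) hz).le, ?_⟩
        haveI : Subsingleton (Coh.HH X (Abelian.image q) 0) := ⟨fun a b => by
          have : ∀ x : Coh.HH X (Abelian.image q) 0, x = 0 := fun x => by
            rw [← CohLin.hMap_id (Abelian.image q) 0 x, hz.eq_of_src (𝟙 (Abelian.image q)) 0]
            exact map_zero (CohLin.hMapHom (Abelian.image q) (Abelian.image q) 0 x)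
          rw [this a, this b]⟩
        rw [Module.finrank_zero_of_subsingleton]
        exact Nat.zero_le _
      · exact ⟨hOd ▸ (hX.dg_le_of_mono (Abelian.image.ι q) (isCoh_of_isFinLocFree hI) hOc (by omega)).1,
          by omega⟩
    exact ⟨by omega, by simp only [S] at h0; omega⟩

/-- Sections of subsheaves of a semistable bundle of slope at least one, in genus one. -/
theorem GoodCurve.h0_sub_le (h : Function.Bijective (Coh.toGlobal (X ↘ Spec (CommRingCat.of k))))
    (hg : Curv2.genus k X = 1) {F : X.Modules} (hss : SS k F) (hμ : (rk F : ℤ) ≤ dg k F)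
    {G : X.Modules} (hG : FlatMod.IsFinLocFree G) (i : G ⟶ F) (hi : Mono i) :
    (rk F : ℤ) * Module.finrank k (Coh.HH X G 0) ≤ rk G * dg k F ∧
      ((rk F : ℤ) < dg k F → Stable k F → 0 < rk G → rk G < rk F →
        (rk F : ℤ) * Module.finrank k (Coh.HH X G 0) < rk G * dg k F) := by
  haveI := hX.isLocallyNoetherian
  haveI := hX.proper
  induction hn : rk G using Nat.strong_induction_on generalizing G with
  | _ n ih =>
    subst hn
    have hGc := isCoh_of_isFinLocFree hG
    haveI := hGc.1
    rcases Nat.eq_zero_or_pos (rk G) with h0 | hpos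
    · have hz := isZero_of_rk_eq_zero hG h0
      haveI : Subsingleton (Coh.HH X G 0) := ⟨fun a b => by
        have : ∀ x : Coh.HH X G 0, x = 0 := fun x => by
          rw [← CohLin.hMap_id G 0 x, hz.eq_of_src (𝟙 G) 0]
          exact map_zero (CohLin.hMapHom G G 0 x)
        rw [this a, this b]⟩
      rw [Module.finrank_zero_of_subsingleton, h0]
      exact ⟨by simp, fun _ _ h1 => absurd h1 (lt_irrefl 0)⟩
    · by_cases hz : ∀ φ : G ⟶ Coh.structureModule X, φ = 0
      · haveI := hX.subsingleton_h1_one h hg hG hz
        have hrr := hX.riemannRoch h hGc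
        rw [Module.finrank_zero_of_subsingleton (R := k) (M := Coh.HH X G 1), hg] at hrr
        push_cast at hrr
        have hle := hss G i hi hG hpos
        have e : (Module.finrank k (Coh.HH X G 0) : ℤ) = dg k G := by linarith
        refine ⟨by rw [e]; linarith, fun _ hst _ hlt => ?_⟩
        have := hst G i hi hG hpos hlt
        rw [e]
        linarith
      · push Not at hz
        obtain ⟨φ, hφ⟩ := hz
        obtain ⟨hOf, hOr, hOd⟩ := hX.dg_structure
        have hOc := isCoh_of_isFinLocFree hOf
        have hK := isFinLocFree_kernel hX.pid φ hG hOc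
        have hI := isFinLocFree_image hX.pid φ hGc hOf
        obtain ⟨-, hr⟩ := hX.dg_kernel_image φ hGc hOc
        have hI1 : rk (Abelian.image φ) = 1 := by
          have := rk_le_of_mono (Abelian.image.ι φ) hOc
          have : rk (Abelian.image φ) ≠ 0 := fun h0 => hφ (eq_zero_of_rk_image φ hI h0)
          omega
        have hI2 := hX.finrank_H0_le (Abelian.image.ι φ) hOc
        rw [finrank_H0_structure_eq_one h] at hI2
        let S := ShortComplex.mk (kernel.ι φ) (Abelian.factorThruImage φ)
          ((cancel_mono (Abelian.image.ι φ)).mp (by simp))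
        have hS : S.ShortExact := by
          refine { exact := ShortComplex.exact_of_f_is_kernel _ ?_ }
          refine KernelFork.IsLimit.ofι' _ _ fun {C} a ha => ⟨kernel.lift φ a ?_, kernel.lift_ι _ _ _⟩
          rw [← Abelian.image.fac φ, ← Category.assoc]
          exact (congrArg (· ≫ Abelian.image.ι φ) ha).trans zero_comp
        have h0 := hX.h0_le_add hS (isCoh_of_isFinLocFree hK) hGc (isCoh_of_isFinLocFree hI)
        haveI := hi
        have hih := (ih (rk (kernel φ)) (by omega) hK (kernel.ι φ ≫ i) (mono_comp _ _) rfl).1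
        have h1 : (Module.finrank k (Coh.HH X G 0) : ℤ) ≤ Module.finrank k (Coh.HH X (kernel φ) 0) + 1 := by
          simp only [S] at h0
          omega
        have h2 : (rk G : ℤ) = rk (kernel φ) + 1 := by omega
        have h3 : (rk F : ℤ) * Module.finrank k (Coh.HH X G 0) ≤
            (rk F : ℤ) * (Module.finrank k (Coh.HH X (kernel φ) 0) + 1) :=
          mul_le_mul_of_nonneg_left h1 (Int.natCast_nonneg _)
        rw [h2]
        exact ⟨by linarith, fun hlt _ _ _ => by linarith⟩

end Groth.Agent.VBLib
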