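import Groth.Agent.VBLib.Basic
import Mathlib.LinearAlgebra.Quotient.Basic

/-!
# Saturated submodules cut out at the generic point

For a subspace `V` of the generic stalk of a module, the submodule of sections whose germ at the
generic point lies in `V`; its quotient has torsion-free stalks.
-/

universe u

open CategoryTheory AlgebraicGeometry Limits TopologicalSpace
open Groth.Agent.PullStalk.Sky Groth.Agent.PullStalk.Exact

set_option linter.style.haveILetI false

namespace Groth.Agent.VBLib

variable {X : Scheme.{u}} [IsIntegral X] {M : X.Modules}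
  (V : Submodule (X.presheaf.stalk (genericPoint X)) (M.presheaf.stalk (genericPoint X)))

/-- The map to the quotient of the generic stalk by `V`. -/
noncomputable def genQuot : M ⟶ sky (genericPoint X) (M.presheaf.stalk (genericPoint X) ⧸ V) :=
  toSky V.mkQ

/-- The sections whose germ at the generic point lies in `V`. -/
noncomputable def genSub : X.Modules := kernel (genQuot V)

/-- The inclusion. -/
noncomputable def genIncl : genSub V ⟶ M := kernel.ι (genQuot V)

instance : Mono (genIncl V) := inferInstanceAs (Mono (kernel.ι (genQuot V)))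

lemma germ_genIncl (U : X.Opens) (hU : genericPoint X ∈ U) (a : Γ(genSub V, U)) :
    germM M U (genericPoint X) hU ((genIncl V).app U a) ∈ V := by
  have h0 : (genQuot V).app U ((genIncl V).app U a) = 0 := by
    rw [← ConcreteCategory.comp_apply, ← Scheme.Modules.Hom.comp_app]
    change (kernel.ι (genQuot V) ≫ genQuot V).app U a = 0
    rw [kernel.condition]
    rfl
  have h1 := toSky_app V.mkQ U ((genIncl V).app U a) ⟨hU⟩
  change _ = V.mkQ _ at h1
  rw [show (toSky V.mkQ).app U ((genIncl V).app U a) = 0 from h0] at h1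
  exact (Submodule.Quotient.mk_eq_zero _).mp h1.symm

lemma exists_genIncl_eq (U : X.Opens) (m : Γ(M, U))
    (h : ∀ hU : genericPoint X ∈ U, germM M U (genericPoint X) hU m ∈ V) :
    ∃ a, (genIncl V).app U a = m := by
  let K := ShortComplex.mk (kernel.ι (genQuot V)) (genQuot V) (kernel.condition _)
  have hK : K.Exact := K.exact_of_f_is_kernel (kernelIsKernel _)
  haveI : Mono K.f := inferInstanceAs (Mono (kernel.ι (genQuot V)))
  refine QCoh.exists_app_eq_of_app_eq_zero K hK U m ?_
  funext hη
  exact (toSky_app V.mkQ U m hη).trans ((Submodule.Quotient.mk_eq_zero _).mpr (h hη.down))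

/-- The generic stalk of `genSub V` is `V`. -/
lemma range_stalkLin_genIncl : LinearMap.range (stalkLin (genIncl V) (genericPoint X)) = V := by
  apply le_antisymm
  · rintro _ ⟨t, rfl⟩
    obtain ⟨U, hU, a, rfl⟩ := exists_germM_eq _ _ t
    rw [stalkLin_germ]
    exact germ_genIncl V U hU a
  · intro v hv
    obtain ⟨U, hU, m, rfl⟩ := exists_germM_eq M _ v
    obtain ⟨a, rfl⟩ := exists_genIncl_eq V U m fun _ => hv
    exact ⟨germM _ U _ hU a, stalkLin_germ _ _ _ hU a⟩

lemma rk_genSub : rk (genSub V) = Module.finrank (X.presheaf.stalk (genericPoint X)) V :=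
  (LinearMap.finrank_range_of_inj (stalkLin_injective (genIncl V) (genericPoint X))).symm.trans
    (by rw [range_stalkLin_genIncl])

/-- `genSub V` is quasi-coherent. -/
theorem isQuasicoherent_genSub [M.IsQuasicoherent] : (genSub V).IsQuasicoherent := by
  rw [QCoh.isQuasicoherent_iff_forall_isAffineOpen]
  intro U hU f
  have H := QCoh.isLocalizingAt M hU f
  have hres : ∀ (W W' : X.Opens) (h : W' ≤ W) (a : Γ(genSub V, W)),
      (genIncl V).app W' (QCoh.res (genSub V) h a) = QCoh.res M h ((genIncl V).app W a) :=
    fun W W' h a => NatTrans.naturality_apply (genIncl V).mapPresheaf (homOfLE h).op a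
  constructor
  · intro s
    obtain ⟨n, t, ht⟩ := H.surj ((genIncl V).app _ s)
    by_cases hη : genericPoint X ∈ X.basicOpen f
    · obtain ⟨a, ha⟩ := exists_genIncl_eq V U t fun hU' => by
        rw [show germM M U (genericPoint X) hU' t =
          germM M (X.basicOpen f) (genericPoint X) hη (QCoh.res M (X.basicOpen_le f) t) from
            (M.presheaf.germ_res_apply (homOfLE (X.basicOpen_le f)) _ hη t).symm, ht]
        rw [germM_smul]
        exact V.smul_mem _ (germ_genIncl V _ hη s)
      refine ⟨n, a, QCoh.app_injective_of_mono (genIncl V) _ ?_⟩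
      rw [hres, ha, ht, Scheme.Modules.Hom.app_smul]
    · refine ⟨n, 0, QCoh.app_injective_of_mono (genIncl V) _ ?_⟩
      have hbot : X.basicOpen f = ⊥ := by
        refine eq_bot_iff.mpr fun x hx => hη (genericPoint_mem_of_mem hx)
      haveI : Subsingleton Γ(M, X.basicOpen f) := by
        rw [hbot]
        exact ⟨fun a b => TopCat.Sheaf.eq_of_locally_eq' (⟨M.presheaf, M.isSheaf⟩ : TopCat.Sheaf Ab X)
          (PEmpty.elim : PEmpty.{u + 1} → X.Opens) ⊥ (fun i => i.elim) bot_le a b (fun i => i.elim)⟩
      exact Subsingleton.elim _ _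
  · intro t ht
    obtain ⟨n, hn⟩ := H.eq_zero ((genIncl V).app U t) (by rw [← hres, ht, map_zero])
    refine ⟨n, QCoh.app_injective_of_mono (genIncl V) U ?_⟩
    rw [Scheme.Modules.Hom.app_smul, hn, map_zero]

/-- The quotient by `genSub V` has torsion-free stalks. -/
theorem isTorsionFree_stalk_cokernel (x : X) :
    Module.IsTorsionFree (X.presheaf.stalk x) ((cokernel (genIncl V)).presheaf.stalk x) := by
  let η := genericPoint X
  let π := cokernel.π (genIncl V)
  let S := ShortComplex.mk (genIncl V) π (cokernel.condition _)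
  have hS : S.ShortExact := { exact := S.exact_of_g_is_cokernel (cokernelIsCokernel _) }
  obtain ⟨-, hex, hsurj⟩ := stalk_exact hS x
  rw [Module.isTorsionFree_iff_smul_eq_zero]
  intro r c hrc
  by_cases hr : r = 0
  · exact Or.inl hr
  refine Or.inr ?_
  obtain ⟨e, rfl⟩ := hsurj c
  rw [← map_smul] at hrc
  obtain ⟨g, hg⟩ := (hex _).mp hrc
  obtain ⟨U, hx, m, rfl⟩ := exists_germM_eq M x e
  obtain ⟨W, hxW, a, rfl⟩ := exists_germM_eq (genSub V) x g
  obtain ⟨O, hxO, s, rfl⟩ := X.presheaf.exists_germ_eq (x := x) r
  -- compare on a common neighbourhood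
  let Y := U ⊓ W ⊓ O
  have hY : x ∈ Y := ⟨⟨hx, hxW⟩, hxO⟩
  have e1 : stalkLin (genIncl V) x (germM _ W x hxW a) =
      germM M Y x hY (QCoh.res M (inf_le_left.trans inf_le_right) ((genIncl V).app W a)) := by
    rw [stalkLin_germ]
    exact (M.presheaf.germ_res_apply _ x hY _).symm
  have e2 : X.presheaf.germ O x hxO s • germM M U x hx m = germM M Y x hY
      (QCoh.rres (inf_le_right : Y ≤ O) s • QCoh.res M (inf_le_left.trans inf_le_left) m) := by
    rw [germM_smul]
    congr 1
    · exact (X.presheaf.germ_res_apply _ x hY _).symm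
    · exact (M.presheaf.germ_res_apply _ x hY _).symm
  obtain ⟨Z, hxZ, i₁, i₂, hZ⟩ := M.presheaf.germ_eq x hY hY _ _ (e1.symm.trans (hg.trans e2))
  have hηZ : η ∈ Z := genericPoint_mem_of_mem hxZ
  have key := congrArg (germM M Z η hηZ) hZ
  have k2 := (M.presheaf.germ_res_apply i₁ η hηZ _).symm.trans
    (key.trans (M.presheaf.germ_res_apply i₂ η hηZ _))
  have k3 : germM M W η (genericPoint_mem_of_mem hxW) ((genIncl V).app W a) =
      X.presheaf.germ O η (genericPoint_mem_of_mem hxO) s •
        germM M U η (genericPoint_mem_of_mem hx) m := by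
    refine ((M.presheaf.germ_res_apply _ η (i₁.le hηZ) _).symm.trans k2).trans ?_
    refine (germM_smul M Y η (i₂.le hηZ) _ _).trans ?_
    congr 1
    · exact X.presheaf.germ_res_apply _ η (i₂.le hηZ) _
    · exact M.presheaf.germ_res_apply _ η (i₂.le hηZ) _
  have hne : X.presheaf.germ O η (genericPoint_mem_of_mem hxO) s ≠ 0 := by
    intro h
    refine hr ?_
    apply IsFractionRing.injective (X.presheaf.stalk x) X.functionField
    rw [map_zero, RingHom.algebraMap_toAlgebra, ← ConcreteCategory.comp_apply,
      X.presheaf.germ_stalkSpecializes]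
    exact h
  letI : Field (X.presheaf.stalk η) := inferInstanceAs (Field X.functionField)
  have hV : germM M U η (genericPoint_mem_of_mem hx) m ∈ V := by
    rw [← V.smul_mem_iff hne]
    exact k3 ▸ germ_genIncl V W (genericPoint_mem_of_mem hxW) a
  obtain ⟨b, hb⟩ := exists_genIncl_eq V U m fun _ => hV
  refine (hex _).mpr ⟨germM _ U x hx b, ?_⟩
  rw [stalkLin_germ, hb]

/-- The inclusion of a submodule into the saturation of its generic image. -/
theorem exists_lift_genSub {G : X.Modules} (i : G ⟶ M) :
    ∃ j : G ⟶ genSub (LinearMap.range (stalkLin i (genericPoint X))),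
      j ≫ genIncl (LinearMap.range (stalkLin i (genericPoint X))) = i := by
  refine ⟨kernel.lift _ i ?_, kernel.lift_ι _ _ _⟩
  ext U m
  funext h
  change (toSky (LinearMap.range (stalkLin i (genericPoint X))).mkQ).app U (i.app U m) h = 0
  refine (toSky_app _ U _ h).trans ((Submodule.Quotient.mk_eq_zero _).mpr ?_)
  exact ⟨germM G U _ h.down m, stalkLin_germ i U _ h.down m⟩

end Groth.Agent.VBLib
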