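import Groth.Agent.VBLib.Simple
import Groth.Agent.VBLib.Line
import Groth.Agent.HomShQC.Stalk
import Groth.Agent.VarDim.Curve
import Groth.Agent.CohDev.Tensor
import Groth.Agent.KFlat.LocFree
import Groth.Agent.VBLib.Fitting

/-!
# Bundles inside trivial ones without sections: a projection with negative image
-/

universe u

open CategoryTheory AlgebraicGeometry Limits Opposite
open Groth.Agent.PullStalk.Sky Groth.Agent.PullStalk.Exact

set_option linter.style.haveILetI false

noncomputable section

namespace Groth.Agent.VBLib.NegFilt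

variable {k : Type u} [Field k] {X : Scheme.{u}} [X.Over (Spec (CommRingCat.of k))]

lemma stalkLin_smul_apply {M N : X.Modules} (c : k) (f : M ⟶ N) (x : X) (t : M.presheaf.stalk x) :
    stalkLin (c • f) x t =
      X.presheaf.germ ⊤ x trivial (Coh.toGlobal (X ↘ Spec (CommRingCat.of k)) c) • stalkLin f x t := by
  obtain ⟨U, hx, m, rfl⟩ := exists_germM_eq M x t
  rw [stalkLin_germ, stalkLin_germ]
  refine (congrArg (germM N U x hx) (KLin.smul_app_apply c f U m)).trans ?_
  refine (germM_smul N U x hx _ _).trans ?_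
  exact congrArg (fun z => z • germM N U x hx (f.app U m)) (X.presheaf.germ_res_apply _ x hx _)

variable (p : Spec (CommRingCat.of k) ⟶ X)

/-- The value at a rational point of a morphism to the structure module. -/
def val {N : X.Modules} (v : N.presheaf.stalk (p (IsLocalRing.closedPoint k)))
    (q : N ⟶ Coh.structureModule X) : k :=
  LinSerLib.chi p ((HomShQC.unitStalk _).symm (stalkLin q _ v))

lemma val_add {N : X.Modules} (v : N.presheaf.stalk (p (IsLocalRing.closedPoint k)))
    (q q' : N ⟶ Coh.structureModule X) : val p v (q + q') = val p v q + val p v q' := by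
  simp only [val, CohDev.stalkLin_add_apply, map_add]

lemma val_smul (hp : p ≫ (X ↘ Spec (CommRingCat.of k)) = 𝟙 _) {N : X.Modules}
    (v : N.presheaf.stalk (p (IsLocalRing.closedPoint k)))
    (c : k) (q : N ⟶ Coh.structureModule X) : val p v (c • q) = c * val p v q := by
  simp only [val]
  rw [stalkLin_smul_apply, map_smul, smul_eq_mul, map_mul, LinSerLib.chi_global p hp c]

lemma not_epi_of_val_eq_zero {N : X.Modules} (q : N ⟶ Coh.structureModule X)
    {r : ℕ} (b : Module.Basis (Fin r) (X.presheaf.stalk (p (IsLocalRing.closedPoint k)))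
      (N.presheaf.stalk (p (IsLocalRing.closedPoint k))))
    (h : ∀ i, val p (b i) q = 0) : ¬ Epi q := by
  intro hq
  let x := p (IsLocalRing.closedPoint k)
  let S := ShortComplex.mk (kernel.ι q) q (kernel.condition q)
  haveI : Epi S.g := hq
  haveI : Mono S.f := inferInstanceAs (Mono (kernel.ι q))
  have hS : S.ShortExact := { exact := S.exact_of_f_is_kernel (kernelIsKernel q) }
  obtain ⟨v, hv⟩ := (stalk_exact hS x).2.2 (HomShQC.unitStalk x 1)
  have e : LinSerLib.chi p ((HomShQC.unitStalk x).symm (stalkLin q x v)) = 1 := by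
    rw [show stalkLin q x v = HomShQC.unitStalk x 1 from hv, LinearEquiv.symm_apply_apply, map_one]
  rw [← b.sum_repr v] at e
  simp only [map_sum, map_smul, smul_eq_mul, map_mul] at e
  rw [Finset.sum_eq_zero fun i _ => by rw [show LinSerLib.chi p
    ((HomShQC.unitStalk x).symm (stalkLin q x (b i))) = 0 from h i, mul_zero]] at e
  exact zero_ne_one e

variable [IsIntegral X] [IsAlgClosed k]

/-- A bundle inside a trivial one, with no sections, maps onto no structure module through all projections. -/
theorem exists_not_epi (hX : GoodCurve k X) {N : X.Modules} {r : ℕ} (hr : 0 < r)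
    (hN : FlatMod.IsFinLocFreeOfRank r N) {m : ℕ} (ι : N ⟶ FlatMod.freeMod X m) [Mono ι]
    (h0 : ∀ s : Γ(N, ⊤), s = 0) :
    ∃ q : N ⟶ Coh.structureModule X, q ≠ 0 ∧ ¬ Epi q := by
  classical
  by_contra hcon
  push_neg at hcon
  haveI := hX.proper
  haveI := hX.isLocallyNoetherian
  haveI : CompactSpace X := QuasiCompact.compactSpace_of_compactSpace (X ↘ Spec (CommRingCat.of k))
  let π : ∀ j : Fin m, FlatMod.freeMod X m ⟶ Coh.structureModule X := fun j =>
    Sigma.desc fun i => if i = j then 𝟙 _ else 0
  have htot : ∀ n (π : ∀ j : Fin n, FlatMod.freeMod X n ⟶ Coh.structureModule X),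
      (∀ i j, Sigma.ι (fun _ : Fin n => Coh.structureModule X) i ≫ π j = if i = j then 𝟙 _ else 0) →
      ∑ j, π j ≫ Sigma.ι (fun _ : Fin n => Coh.structureModule X) j = 𝟙 _ := fun n π hπ => by
    refine Sigma.hom_ext _ _ fun i => ?_
    rw [Preadditive.comp_sum]
    simp only [← Category.assoc, hπ]
    rw [Finset.sum_eq_single i (fun j _ hj => by rw [if_neg (Ne.symm hj), zero_comp])
      (fun h => absurd (Finset.mem_univ i) h), if_pos rfl, Category.id_comp, Category.comp_id]
  have hπ : ∀ i j : Fin m, Sigma.ι (fun _ : Fin m => Coh.structureModule X) i ≫ π j =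
      if i = j then 𝟙 _ else 0 := fun i j => Sigma.ι_desc _ _
  let W : Submodule k (N ⟶ Coh.structureModule X) := Submodule.span k (Set.range fun j => ι ≫ π j)
  haveI : Module.Finite k W := Module.Finite.span_of_finite k (Set.finite_range _)
  let d := Module.finrank k W
  let bW := Module.finBasis k W
  let Q : N ⟶ FlatMod.freeMod X d :=
    ∑ i, (bW i : N ⟶ Coh.structureModule X) ≫ Sigma.ι (fun _ : Fin d => Coh.structureModule X) i
  let ρ : ∀ j : Fin d, FlatMod.freeMod X d ⟶ Coh.structureModule X := fun j =>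
    Sigma.desc fun i => if i = j then 𝟙 _ else 0
  have hρ : ∀ i j : Fin d, Sigma.ι (fun _ : Fin d => Coh.structureModule X) i ≫ ρ j =
      if i = j then 𝟙 _ else 0 := fun i j => Sigma.ι_desc _ _
  have hQρ : ∀ j, Q ≫ ρ j = bW j := fun j => by
    simp only [Q, Preadditive.sum_comp, Category.assoc, hρ]
    rw [Finset.sum_eq_single j (fun i _ hi => by rw [if_neg hi, comp_zero])
      (fun h => absurd (Finset.mem_univ j) h), if_pos rfl, Category.comp_id]
  haveI hQm : Mono Q := Preadditive.mono_of_cancel_zero Q fun {A} g hg => by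
    have hW : W ≤ LinearMap.ker (Linear.leftComp k (Coh.structureModule X) g) := by
      intro w hw
      rw [LinearMap.mem_ker]
      have hsum : w = ∑ i, bW.repr ⟨w, hw⟩ i • (bW i : N ⟶ Coh.structureModule X) := by
        refine (congrArg W.subtype (bW.sum_repr ⟨w, hw⟩)).symm.trans ?_
        rw [map_sum]
        rfl
      rw [hsum, map_sum]
      refine Finset.sum_eq_zero fun i _ => ?_
      rw [map_smul, ← hQρ i]
      show _ • g ≫ Q ≫ ρ i = 0
      rw [← Category.assoc, hg, zero_comp, smul_zero]
    refine (cancel_mono ι).mp ?_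
    rw [zero_comp]
    calc g ≫ ι = (g ≫ ι) ≫ ∑ j, π j ≫ Sigma.ι (fun _ : Fin m => Coh.structureModule X) j := by
          rw [htot m π hπ, Category.comp_id]
      _ = 0 := by
          rw [Preadditive.comp_sum]
          refine Finset.sum_eq_zero fun j _ => ?_
          have : g ≫ ι ≫ π j = 0 := hW (Submodule.subset_span ⟨j, rfl⟩)
          rw [← Category.assoc, Category.assoc g, this, zero_comp]
  have hOr : FlatMod.IsFinLocFreeOfRank d (FlatMod.freeMod X d) := fun _ =>
    ⟨⊤, trivial, ⟨(Scheme.Modules.restrictFunctorIsoPullback _).app _ ≪≫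
      Groth.Agent.KFlat.LocFree.pullFreeIso _ d⟩⟩
  have hNc := isCoh_of_ofRank hN
  have hFc := isCoh_of_ofRank hOr
  have hrd : r ≤ d := by
    have := rk_le_of_mono Q hFc
    rwa [rk_eq hN, rk_eq hOr] at this
  -- values at a closed point
  have key : ∀ x : X, IsClosed ({x} : Set X) → d ≤ r ∧ Function.Surjective (stalkLin Q x) := by
    intro x₀ hx₀
    let pp := pointOfClosedPoint (X ↘ Spec (CommRingCat.of k)) x₀ hx₀
    have hpp := pointOfClosedPoint_comp (X ↘ Spec (CommRingCat.of k)) x₀ hx₀
    have hx : pp (IsLocalRing.closedPoint k) = x₀ := pointOfClosedPoint_apply _ x₀ hx₀ _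
    rw [← hx]
    obtain ⟨U, hxU, ⟨ψ⟩⟩ := hN (pp (IsLocalRing.closedPoint k))
    obtain ⟨e, he⟩ := exists_isFrame_of_iso ψ
    let bN : Module.Basis (Fin r) (X.presheaf.stalk (pp (IsLocalRing.closedPoint k)))
        (N.presheaf.stalk (pp (IsLocalRing.closedPoint k))) :=
      Module.Basis.ofEquivFun (LinearEquiv.ofBijective _ (he.stalkComb_bijective _ hxU)).symm
    let Φ : W →ₗ[k] (Fin r → k) :=
      { toFun := fun q i => val pp (bN i) q.1
        map_add' := fun q q' => funext fun i => val_add pp (bN i) q.1 q'.1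
        map_smul' := fun c q => funext fun i => val_smul pp hpp (bN i) c q.1 }
    have hΦ : Function.Injective Φ := (injective_iff_map_eq_zero Φ).mpr fun q hq => by
      by_contra hne
      exact not_epi_of_val_eq_zero pp q.1 bN (fun i => congrFun hq i)
        (hcon q.1 fun h => hne (Subtype.ext h))
    have hdr : d ≤ r := by
      have := LinearMap.finrank_le_finrank_of_injective hΦ
      rwa [Module.finrank_fin_fun] at this
    refine ⟨hdr, fun w => ?_⟩
    let A : Matrix (Fin d) (Fin r) (X.presheaf.stalk (pp (IsLocalRing.closedPoint k))) :=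
      fun i j => (HomShQC.unitStalk _).symm (stalkLin (bW i).1 _ (bN j))
    obtain rfl : d = r := le_antisymm hdr hrd
    have hli : LinearIndependent k fun i => Φ (bW i) := bW.linearIndependent.map' Φ (LinearMap.ker_eq_bot.mpr hΦ)
    have hdet : IsUnit A.det := by
      haveI : IsLocalHom (LinSerLib.chi pp) := by delta LinSerLib.chi; infer_instance
      apply (isUnit_map_iff (LinSerLib.chi pp) _).mp
      rw [RingHom.map_det, ← Matrix.isUnit_iff_isUnit_det, ← Matrix.linearIndependent_rows_iff_isUnit]
      exact hli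
    obtain ⟨c, hc⟩ := (Matrix.mulVec_surjective_iff_isUnit.mpr ((Matrix.isUnit_iff_isUnit_det A).mpr hdet))
      fun i => (HomShQC.unitStalk _).symm (stalkLin (ρ i) _ w)
    refine ⟨∑ j, c j • bN j, ?_⟩
    have hv : ∀ i, stalkLin (bW i).1 _ (∑ j, c j • bN j) = stalkLin (ρ i) _ w := fun i => by
      apply (HomShQC.unitStalk _).symm.injective
      rw [← congrFun hc i]
      simp only [map_sum, map_smul, smul_eq_mul, Matrix.mulVec, dotProduct, A, mul_comm]
    conv_rhs => rw [← CohDev.stalkLin_id_apply (pp (IsLocalRing.closedPoint k)) w, ← htot _ ρ hρ,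
      CohDev.stalkLin_sum_apply]
    rw [CohDev.stalkLin_sum_apply]
    refine Finset.sum_congr rfl fun i _ => ?_
    rw [stalkLin_comp, stalkLin_comp, hv]
  obtain ⟨x₁, -, hx₁⟩ := IsClosed.exists_closed_singleton (isClosed_univ (X := X)) Set.univ_nonempty
  have hdr := (key x₁ hx₁).1
  haveI : Epi Q := Omega.Stalks.epi_of_stalk fun x => by
    by_cases hx : x = genericPoint X
    · subst hx
      letI : Field (X.presheaf.stalk (genericPoint X)) := inferInstanceAs (Field X.functionField)
      haveI := finite_stalk hNc (genericPoint X)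
      haveI := finite_stalk hFc (genericPoint X)
      refine (LinearMap.injective_iff_surjective_of_finrank_eq_finrank ?_).mp (stalkLin_injective Q _)
      show rk N = rk (FlatMod.freeMod X d)
      rw [rk_eq hN, rk_eq hOr]
      omega
    · exact (key x (VarDim.isClosed_singleton_of_ne_genericPoint k hX.dim hx)).2
  haveI : IsIso Q := isIso_of_mono_of_epi Q
  let i₀ : Fin d := ⟨0, by omega⟩
  let s : Coh.structureModule X ⟶ N := Sigma.ι (fun _ : Fin d => Coh.structureModule X) i₀ ≫ inv Q
  have hs : s ≫ (bW i₀).1 = 𝟙 _ := by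
    rw [← hQρ i₀, Category.assoc, ← Category.assoc (inv Q), IsIso.inv_hom_id, Category.id_comp, hρ, if_pos rfl]
  have h1 : (s ≫ (bW i₀).1).app ⊤ (show Γ(Coh.structureModule X, ⊤) from (1 : Γ(X, ⊤))) = 0 := by
    show (bW i₀).1.app ⊤ (s.app ⊤ _) = 0
    rw [h0 (s.app ⊤ _), map_zero]
  rw [hs] at h1
  exact one_ne_zero (α := Γ(X, ⊤)) h1

end Groth.Agent.VBLib.NegFilt
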