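import Groth.Agent.VBLib.Slope

/-!
# Semistable bundles of a fixed slope form an abelian subcategory
-/

universe u

open CategoryTheory AlgebraicGeometry Limits

set_option linter.style.haveILetI false

namespace Groth.Agent.VBLib

variable {k : Type u} [Field k] {X : Scheme.{u}} [X.Over (Spec (CommRingCat.of k))] [IsIntegral X]
  (hX : GoodCurve k X)
include hX

/-- The kernel and the cokernel of a map of semistable bundles of equal slope. -/
theorem GoodCurve.kernel_cokernel_of_ss {E F : X.Modules} (hE : FlatMod.IsFinLocFree E)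
    (hF : FlatMod.IsFinLocFree F) (hEr : 0 < rk E) (hFr : 0 < rk F) (hE' : SS k E) (hF' : SS k F)
    (hμ : dg k E * (rk F : ℤ) = dg k F * (rk E : ℤ)) (f : E ⟶ F) :
    (FlatMod.IsFinLocFree (kernel f) ∧ dg k (kernel f) * (rk E : ℤ) = dg k E * (rk (kernel f) : ℤ) ∧
        SS k (kernel f)) ∧
      (FlatMod.IsFinLocFree (cokernel f) ∧
        dg k (cokernel f) * (rk F : ℤ) = dg k F * (rk (cokernel f) : ℤ) ∧ SS k (cokernel f)) := by
  haveI := hX.isLocallyNoetherian
  have hEc := isCoh_of_isFinLocFree hE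
  have hFc := isCoh_of_isFinLocFree hF
  have hI := isFinLocFree_image hX.pid f hEc hF
  have hIc := isCoh_of_isFinLocFree hI
  have hK := isFinLocFree_kernel hX.pid f hE hFc
  obtain ⟨h1, h2⟩ := hX.dg_kernel_image f hEc hFc
  have hE0 : (0 : ℤ) < (rk E : ℤ) := by exact_mod_cast hEr
  have hF0 : (0 : ℤ) < (rk F : ℤ) := by exact_mod_cast hFr
  have hIeq : dg k (Abelian.image f) * (rk F : ℤ) = dg k F * (rk (Abelian.image f) : ℤ) := by
    rcases Nat.eq_zero_or_pos (rk (Abelian.image f)) with h0 | hpos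
    · rw [h0, hX.dg_eq_zero_of_isZero hIc (isZero_of_rk_eq_zero hI h0)]
      simp
    · refine le_antisymm (hF' _ (Abelian.image.ι f) inferInstance hI hpos) ?_
      refine le_of_mul_le_mul_right ?_ hE0
      calc dg k F * (rk (Abelian.image f) : ℤ) * (rk E : ℤ)
          = dg k E * (rk (Abelian.image f) : ℤ) * (rk F : ℤ) := by
            rw [mul_right_comm, ← hμ]; ring
        _ ≤ dg k (Abelian.image f) * (rk E : ℤ) * (rk F : ℤ) :=
            mul_le_mul_of_nonneg_right (hX.slope_image f hE hFc hE') hF0.le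
        _ = dg k (Abelian.image f) * (rk F : ℤ) * (rk E : ℤ) := by ring
  have hKeq : dg k (kernel f) * (rk E : ℤ) = dg k E * (rk (kernel f) : ℤ) := by
    have hz1 : dg k (kernel f) = dg k E - dg k (Abelian.image f) := by omega
    have hz2 : (rk (kernel f) : ℤ) = (rk E : ℤ) - (rk (Abelian.image f) : ℤ) := by omega
    refine mul_right_cancel₀ hF0.ne' ?_
    calc dg k (kernel f) * (rk E : ℤ) * (rk F : ℤ)
        = (dg k E * (rk F : ℤ)) * (rk E : ℤ) - (dg k (Abelian.image f) * (rk F : ℤ)) * (rk E : ℤ) := by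
          rw [hz1]; ring
      _ = (dg k E * (rk F : ℤ)) * (rk E : ℤ) - (dg k F * (rk E : ℤ)) * (rk (Abelian.image f) : ℤ) := by
          rw [hIeq]; ring
      _ = dg k E * (rk (kernel f) : ℤ) * (rk F : ℤ) := by rw [← hμ, hz2]; ring
  refine ⟨⟨hK, hKeq, ?_⟩, ?_⟩
  · intro G i hi hG hpos
    have h3 := hE' G (i ≫ kernel.ι f) inferInstance hG hpos
    refine le_of_mul_le_mul_right ?_ hE0
    calc dg k G * (rk (kernel f) : ℤ) * (rk E : ℤ)
        = dg k G * (rk E : ℤ) * (rk (kernel f) : ℤ) := by ring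
      _ ≤ dg k E * (rk G : ℤ) * (rk (kernel f) : ℤ) := mul_le_mul_of_nonneg_right h3 (Int.natCast_nonneg _)
      _ = dg k (kernel f) * (rk G : ℤ) * (rk E : ℤ) := by
          rw [mul_right_comm, ← hKeq]; ring
  -- the image is saturated
  obtain ⟨P, j, i', hji, hj, hi', hP, hPq, hPr, hPd⟩ :=
    hX.exists_saturation (Abelian.image.ι f) hIc hF
  have hPc := isCoh_of_isFinLocFree hP
  have hPd' : dg k P = dg k (Abelian.image f) := by
    refine le_antisymm ?_ hPd
    rcases Nat.eq_zero_or_pos (rk P) with h0 | hpos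
    · rw [hX.dg_eq_zero_of_isZero hPc (isZero_of_rk_eq_zero hP h0)]
      rw [hX.dg_eq_zero_of_isZero hIc (isZero_of_rk_eq_zero hI (by omega))]
    · refine le_of_mul_le_mul_right ?_ hF0
      rw [hIeq, ← hPr]
      exact hF' P i' hi' hP hpos
  haveI := hj
  haveI := hi'
  haveI : IsIso j := (hX.dg_le_of_mono j hIc hPc hPr.symm).2 hPd'.symm
  have hfac : (Abelian.factorThruImage f ≫ j) ≫ i' = f := by
    rw [Category.assoc, hji, Abelian.image.fac]
  let ec : cokernel f ≅ cokernel i' :=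
    (cokernelIsoOfEq hfac.symm) ≪≫ cokernelEpiComp (Abelian.factorThruImage f ≫ j) i'
  have hC : FlatMod.IsFinLocFree (cokernel f) := by
    intro x
    obtain ⟨U, n, hx, ⟨e⟩⟩ := hPq x
    exact ⟨U, n, hx, ⟨(Scheme.Modules.restrictFunctor U.ι).mapIso ec ≪≫ e⟩⟩
  have hCc := isCoh_of_isFinLocFree hC
  obtain ⟨c1, c2⟩ := hX.dg_mono_cokernel i' hPc hFc
  obtain ⟨d1, d2⟩ := hX.dg_iso ec hCc (isCoh_cokernel i' hPc hFc)
  have hCeq : dg k (cokernel f) * (rk F : ℤ) = dg k F * (rk (cokernel f) : ℤ) := by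
    have hz1 : dg k (cokernel f) = dg k F - dg k (Abelian.image f) := by omega
    have hz2 : (rk (cokernel f) : ℤ) = (rk F : ℤ) - (rk (Abelian.image f) : ℤ) := by omega
    rw [hz1, hz2, sub_mul, mul_sub, hIeq]
  refine ⟨hC, hCeq, fun Q q hq hQ hpos => ?_⟩
  obtain ⟨R, r, hr, hR, e1, e2⟩ := hX.exists_preimage (cokernel.π f) q hF hCc (isCoh_of_isFinLocFree hQ)
  have hle := rk_le_of_mono q hCc
  have hz1 : dg k Q = dg k R + dg k (cokernel f) - dg k F := by omega
  have hz2 : (rk Q : ℤ) = (rk R : ℤ) + (rk (cokernel f) : ℤ) - (rk F : ℤ) := by omega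
  refine le_of_mul_le_mul_right ?_ hF0
  have h3 : dg k R * (rk F : ℤ) ≤ dg k F * (rk R : ℤ) := hF' R r hr hR (by omega)
  calc dg k Q * (rk (cokernel f) : ℤ) * (rk F : ℤ)
      = (dg k R * (rk F : ℤ)) * (rk (cokernel f) : ℤ)
        + (dg k (cokernel f) * (rk F : ℤ)) * (rk (cokernel f) : ℤ)
        - (dg k F * (rk F : ℤ)) * (rk (cokernel f) : ℤ) := by rw [hz1]; ring
    _ ≤ (dg k F * (rk R : ℤ)) * (rk (cokernel f) : ℤ)
        + (dg k (cokernel f) * (rk F : ℤ)) * (rk (cokernel f) : ℤ)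
        - (dg k F * (rk F : ℤ)) * (rk (cokernel f) : ℤ) := by
          have := mul_le_mul_of_nonneg_right h3 (Int.natCast_nonneg (rk (cokernel f)))
          linarith
    _ = dg k (cokernel f) * (rk Q : ℤ) * (rk F : ℤ) := by
          rw [hCeq, hz2, mul_right_comm (dg k (cokernel f)), hCeq]; ring

end Groth.Agent.VBLib
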