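import Groth.Agent.VBLib.Mutation
import Groth.Agent.VBLib.SerreGen
import Groth.Agent.VBLib.TwistOne

/-!
# Semistable bundles in genus one as subbundles of copies of a line bundle
-/

universe u

open CategoryTheory CategoryTheory.Limits AlgebraicGeometry TopologicalSpace Opposite
open Groth.Agent.PullStalk.Sky Groth.Agent.PullStalk.Exact Groth.Agent.QCoh
open Groth.Agent.Props.GenLocus

set_option linter.style.haveILetI false
set_option backward.isDefEq.respectTransparency.types false

noncomputable section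

namespace Groth.Agent.VBLib

variable {k : Type u} [Field k] {X : Scheme.{u}} [X.Over (Spec (CommRingCat.of k))] [IsIntegral X]
  (hX : GoodCurve k X)
include hX

/-- The dual of a semistable bundle is semistable. -/
theorem GoodCurve.ss_dual {E : X.Modules} (hE : FlatMod.IsFinLocFree E) (hss : SS k E) :
    SS k (RefHull.dual E) := by
  haveI := hX.isLocallyNoetherian
  obtain ⟨hD, hDr⟩ := DualDeg.isFinLocFree_dual hX.pid hE
  intro G g hg hG hGr
  haveI := hg
  obtain ⟨G', j, i, -, hj, hi, hG', hQ, hG'r, hG'd⟩ := hX.exists_saturation g (isCoh_of_isFinLocFree hG) hD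
  haveI := hi
  obtain ⟨hd, hr⟩ := hX.dg_mono_cokernel i (isCoh_of_isFinLocFree hG') (isCoh_of_isFinLocFree hD)
  let S := ShortComplex.mk i (cokernel.π i) (cokernel.condition i)
  have hS : S.ShortExact := { exact := S.exact_of_g_is_cokernel (cokernelIsCokernel i) }
  obtain ⟨hQd, hQdr⟩ := DualDeg.isFinLocFree_dual hX.pid hQ
  rw [hX.dg_dual hE, hDr] at *
  have hGG : dg k G * (rk E : ℤ) ≤ dg k G' * (rk E : ℤ) :=
    mul_le_mul_of_nonneg_right hG'd (Int.natCast_nonneg _)
  rw [← hG'r]
  refine hGG.trans ?_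
  rcases Nat.eq_zero_or_pos (rk (cokernel i)) with h0 | hpos
  · have hz := hX.dg_eq_zero_of_isZero (isCoh_of_isFinLocFree hQ) (isZero_of_rk_eq_zero hQ h0)
    rw [show dg k G' = - dg k E by omega, show rk G' = rk E by omega]
  haveI := hX.isIso_bidual hE
  have w : DualDeg.dualMap S.g ≫ DualDeg.dualMap S.f = 0 := by
    rw [← DualDeg.dualMap_comp, S.zero]
    refine Serre.toHom_ext _ _ fun y t => ?_
    obtain ⟨U, hy, m, rfl⟩ := exists_germM_eq _ y t
    rw [stalkLin_germ, stalkLin_germ]
    refine congrArg (germM _ U y hy) (Subtype.ext (funext fun z => LinearMap.ext fun v => ?_))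
    show m.1 z (RefHull.stalkMapₗ (0 : G' ⟶ cokernel i) z.1 v) = _
    obtain ⟨V, hV, a, rfl⟩ := exists_germM_eq _ z.1 v
    rw [RefHull.stalkMapₗ_germ]
    refine (congrArg (m.1 z) (map_zero ((cokernel i).presheaf.germ V z.1 hV).hom)).trans ?_
    exact map_zero _
  haveI := (DualDeg.shortExact_dual hS (isCoh_of_isFinLocFree hG') (isCoh_of_isFinLocFree hD) hQ w).mono_f
  let m : RefHull.dual (cokernel i) ⟶ E := DualDeg.dualMap S.g ≫ inv (RefHull.bidualMap E)
  have h := hss _ m (mono_comp _ _) hQd (by rw [hQdr]; exact hpos)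
  rw [hX.dg_dual hQ, hQdr] at h
  have e : (rk E : ℤ) = rk G' + rk (cokernel i) := by omega
  have e' : dg k (cokernel i) = - dg k E - dg k G' := by omega
  rw [e', show (rk (cokernel i) : ℤ) = rk E - rk G' by omega] at h
  linarith

/-- A semistable bundle maps injectively to copies of a line bundle of degree above its slope plus one. -/
theorem GoodCurve.exists_mono_copies (h : Function.Bijective (Coh.toGlobal (X ↘ Spec (CommRingCat.of k))))
    (hg : Curv2.genus k X = 1) {F L : X.Modules} (hF : FlatMod.IsFinLocFree F) (hss : SS k F)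
    (hr : 0 < rk F) (hL : PicF.IsInvertible L) (hd : dg k F < (dg k L - 1) * (rk F : ℤ)) :
    ∃ (M : ℕ), 0 < M ∧ ∃ (j : F ⟶ ∐ fun _ : Fin M => L), Mono j := by
  classical
  haveI := hX.isLocallyNoetherian
  haveI := hX.proper
  have hLr := ofRank_one_of_invertible hL
  obtain ⟨hD, hDr⟩ := DualDeg.isFinLocFree_dual hX.pid hF
  obtain ⟨hTf, hTr, hTd⟩ := hX.dg_tensor_line hD hL
  obtain ⟨e⟩ := SerreGen.nonempty_iso F L hF
  have hTss := (hX.ss_tensor hD hL).1 (hX.ss_dual hF hss)
  rw [hX.dg_dual hF, hDr] at hTd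
  rw [hDr] at hTr
  have hdT : (rk (CohB1.tensorMod (RefHull.dual F) L) : ℤ) < dg k (CohB1.tensorMod (RefHull.dual F) L) := by
    rw [hTd, hTr]
    linear_combination hd
  obtain ⟨M, P, ι, ev, w, hS, hM, hMr, hMd, -, -, hgen⟩ :=
    hX.exists_mutation h hg hTf hTss (by omega) hdT
  let H := CohB1.tensorMod (RefHull.dual F) L
  have hHc := isCoh_of_isFinLocFree hTf
  haveI := hHc.1
  haveI := CurveCoh.finite_HH_zero (k := k) H hX.val hX.dim hHc
  let d := Module.finrank k (Coh.HH X H 0)
  let b := Module.finBasis k (Coh.HH X H 0)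
  let σ : Fin d → Γ(RefHull.homSh F L, ⊤) := fun i => e.hom.app ⊤ (GenusZero.toSec H (b i))
  let φ : Fin d → (F ⟶ L) := fun i => Serre.toHom F L (σ i)
  obtain ⟨mj, hmj⟩ := SerreGen.exists_mono_double F L hF hLr
  have hjoint : ∀ (Z : X.Modules) (g : Z ⟶ F), (∀ i, g ≫ φ i = 0) → g = 0 := by
    intro Z g hg0
    have hz : ∀ (y : X) (v : Z.presheaf.stalk y) (θ : (RefHull.homSh F L).presheaf.stalk y),
        RefHull.evalStalk F L y θ (stalkLin g y v) = 0 := by
      intro y v θ
      obtain ⟨t, rfl⟩ := (show Function.Surjective (stalkLin e.hom y) from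
        PullStalk.Exact.stalk_surjective e.hom y) θ
      obtain ⟨p, rfl⟩ := (stalk_exact hS y).2.2 t
      by_contra hne
      let Φ : H ⟶ RefHull.homSh F L := e.hom
      let B : ∀ U : X.Opens, Γ(H, U) →ₗ[Γ(X, U)] Γ(Z, U) →ₗ[Γ(X, U)] Γ(L, U) := fun U =>
        LinearMap.mk₂ Γ(X, U) (fun t z => HomShEval.QCoh.app F L (Φ.app U t) le_rfl (g.app U z))
          (fun t t' z => ExtFilt.Stalkwise.sec_ext fun x hx => by
            rw [HomShEval.QCoh.germ_app, map_add (Φ.app U).hom]
            refine Eq.trans ?_ (map_add (L.presheaf.germ U x hx).hom _ _).symm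
            exact congrArg₂ (· + ·) (HomShEval.QCoh.germ_app F L _ le_rfl _ x hx).symm
              (HomShEval.QCoh.germ_app F L _ le_rfl _ x hx).symm)
          (fun r t z => ExtFilt.Stalkwise.sec_ext fun x hx => by
            rw [HomShEval.QCoh.germ_app, Φ.app_smul, germM_smul, HomShEval.QCoh.germ_app]
            rfl)
          (fun t z z' => ExtFilt.Stalkwise.sec_ext fun x hx => by
            rw [HomShEval.QCoh.germ_app, map_add (g.app U).hom]
            refine (congrArg _ (map_add (F.presheaf.germ U x hx).hom _ _)).trans ?_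
            refine (map_add _ _ _).trans (Eq.trans ?_ (map_add (L.presheaf.germ U x hx).hom _ _).symm)
            exact congrArg₂ (· + ·) (HomShEval.QCoh.germ_app F L _ le_rfl _ x hx).symm
              (HomShEval.QCoh.germ_app F L _ le_rfl _ x hx).symm)
          (fun r t z => ExtFilt.Stalkwise.sec_ext fun x hx => by
            rw [HomShEval.QCoh.germ_app, g.app_smul, germM_smul, map_smul, germM_smul, HomShEval.QCoh.germ_app])
      have hB : ∀ (U V : X.Opens) (h : V ≤ U) (t : Γ(H, U)) (z : Γ(Z, U)),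
          res L h (B U t z) = B V (res H h t) (res Z h z) := fun U V h t z =>
        ExtFilt.Stalkwise.sec_ext fun x hx => by
          rw [HomShQC.germM_res]
          show germM L U x (h hx) (HomShEval.QCoh.app F L (Φ.app U t) le_rfl (g.app U z)) =
            germM L V x hx (HomShEval.QCoh.app F L (Φ.app V (res H h t)) le_rfl (g.app V (res Z h z)))
          rw [HomShEval.QCoh.germ_app, HomShEval.QCoh.germ_app,
            show g.app V (res Z h z) = res F h (g.app U z) from NatTrans.naturality_apply g.mapPresheaf (homOfLE h).op z,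
            show Φ.app V (res H h t) = res _ h (Φ.app U t) from NatTrans.naturality_apply Φ.mapPresheaf (homOfLE h).op t,
            HomShQC.germM_res]
          rfl
      have hq : Curry.hom B hB = 0 := hgen _ _ fun f => by
        have hfsec : ∃ c : Coh.HH X H 0, f = homOfSec (GenusZero.toSec H c) := ⟨(GenusZero.toSec H).symm (sec f ⊤),
          EulerChar.hom_eq_of_sec fun U => by rw [AddEquiv.apply_symm_apply, sec_homOfSec, sec_res]⟩
        obtain ⟨c, rfl⟩ := hfsec
        refine EulerChar.hom_eq_of_sec fun U => ?_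
        show (Curry.hom B hB).app U (sec (homOfSec (GenusZero.toSec H c)) U) = _
        rw [sec_homOfSec]
        refine Eq.trans (Subtype.ext (funext fun x => LinearMap.ext fun z => ?_)) (rfl : (0 : Γ(RefHull.homSh Z L, U)) = _)
        obtain ⟨V₀, hV₀, z₀, rfl⟩ := exists_germM_eq Z x.1 z
        rw [← HomShQC.germM_res Z (inf_le_left : V₀ ⊓ U ≤ V₀) x.1 ⟨hV₀, x.2⟩]
        refine (Curry.hom_germ B hB _ x (V₀ ⊓ U) inf_le_right ⟨hV₀, x.2⟩ _).trans ?_
        show germM L (V₀ ⊓ U) x.1 _ (HomShEval.QCoh.app F L (Φ.app _ (res H inf_le_right (res H le_top (GenusZero.toSec H c)))) le_rfl (g.app _ (res Z inf_le_left z₀))) = 0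
        rw [HomShEval.QCoh.germ_app, res_res,
          show Φ.app (V₀ ⊓ U) (res H (inf_le_right.trans le_top) (GenusZero.toSec H c)) = res (RefHull.homSh F L) le_top (Φ.app ⊤ (GenusZero.toSec H c)) from
            NatTrans.naturality_apply Φ.mapPresheaf (homOfLE le_top).op _]
        show (Φ.app ⊤ (GenusZero.toSec H c)).1 ⟨x.1, trivial⟩ _ = 0
        rw [← Serre.stalkLin_toHom]
        -- linear in `c`
        let Ψ : Coh.HH X H 0 →+ L.presheaf.stalk x.1 :=
          { toFun := fun c => (Φ.app ⊤ (GenusZero.toSec H c)).1 ⟨x.1, trivial⟩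
              (germM F (V₀ ⊓ U) x.1 ⟨hV₀, x.2⟩ (g.app _ (res Z inf_le_left z₀)))
            map_zero' := by
              rw [map_zero (GenusZero.toSec H), map_zero (Φ.app ⊤).hom]
              rfl
            map_add' := fun a a' => by
              rw [map_add (GenusZero.toSec H), map_add (Φ.app ⊤).hom]
              rfl }
        rw [Serre.stalkLin_toHom]
        show Ψ c = 0
        rw [← b.sum_repr c, map_sum]
        refine Finset.sum_eq_zero fun i _ => ?_
        have hb0 : Ψ (b i) = 0 := by
          show (σ i).1 ⟨x.1, trivial⟩ _ = 0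
          rw [← Serre.stalkLin_toHom, ← stalkLin_germ, ← Omega.Stalks.stalkLin_comp, hg0 i, stalkLin_germ]
          exact map_zero (L.presheaf.germ _ x.1 _).hom
        have hsm : GenusZero.toSec H ((b.repr c i) • b i) =
            X.presheaf.map (homOfLE (le_refl (⊤ : X.Opens))).op
              (Coh.toGlobal (X ↘ Spec (CommRingCat.of k)) (b.repr c i)) • GenusZero.toSec H (b i) :=
          (Sheaf.H.equiv₀_naturality
            (f := Coh.smulAb H (Coh.toGlobal (X ↘ Spec (CommRingCat.of k)) (b.repr c i))) isTerminalTop (b i)).symm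
        show (Φ.app ⊤ (GenusZero.toSec H ((b.repr c i) • b i))).1 ⟨x.1, trivial⟩ _ = 0
        rw [hsm, Φ.app_smul]
        show X.presheaf.germ ⊤ x.1 trivial _ • Ψ (b i) = 0
        rw [hb0, smul_zero]
      obtain ⟨U, hy, z, rfl⟩ := exists_germM_eq Z y v
      obtain ⟨t', ht'⟩ : ∃ t' : H.presheaf.stalk y, t' = stalkLin ev y p := ⟨_, rfl⟩
      obtain ⟨U', hy', m, hm⟩ := exists_germM_eq H y t'
      apply hne
      rw [← ht', ← hm, stalkLin_germ, RefHull.evalStalk_germ, stalkLin_germ]
      have h1 := Curry.hom_germ B hB m ⟨y, hy'⟩ (U' ⊓ U) inf_le_left ⟨hy', hy⟩ (res Z inf_le_right z)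
      rw [hq] at h1
      refine Eq.trans ?_ h1.symm
      show _ = germM L (U' ⊓ U) y _ (HomShEval.QCoh.app F L (Φ.app _ (res H inf_le_left m)) le_rfl (g.app _ (res Z inf_le_right z)))
      rw [HomShEval.QCoh.germ_app,
        show g.app (U' ⊓ U) (res Z inf_le_right z) = res F inf_le_right (g.app U z) from NatTrans.naturality_apply g.mapPresheaf (homOfLE inf_le_right).op z,
        show Φ.app (U' ⊓ U) (res H inf_le_left m) = res _ inf_le_left (Φ.app U' m) from NatTrans.naturality_apply Φ.mapPresheaf (homOfLE inf_le_left).op m,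
        HomShQC.germM_res]
      rfl
    rw [← cancel_mono mj, zero_comp]
    refine Serre.toHom_ext _ _ fun y v => ?_
    rw [Omega.Stalks.stalkLin_comp]
    have hzero : stalkLin g y v = 0 := by
      haveI := (isCoh_of_isFinLocFree hF).1
      haveI := (Props.QProj.free_stalk F hF y).1
      haveI := finite_stalk (isCoh_of_isFinLocFree hF) y
      obtain ⟨U, hyU, ⟨ψ⟩⟩ := hLr y
      obtain ⟨f, hf⟩ := exists_isFrame_of_iso ψ
      let c : (Fin 1 → X.presheaf.stalk y) ≃ₗ[X.presheaf.stalk y] L.presheaf.stalk y :=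
        LinearEquiv.ofBijective _ (hf.stalkComb_bijective y hyU)
      let bF := Module.Free.chooseBasis (X.presheaf.stalk y) (F.presheaf.stalk y)
      refine bF.repr.injective (Finsupp.ext fun i => ?_)
      obtain ⟨θ, hθ⟩ := (HomShQC.evalStalk_bijective F L (HomShQC.isFP_of_isCoh F (isCoh_of_isFinLocFree hF)) y).2
        (LinearMap.smulRight (bF.coord i) (c fun _ => 1))
      have h2 := hz y v θ
      rw [hθ, LinearMap.smulRight_apply, ← map_smul] at h2
      have h3 := congrFun (c.map_eq_zero_iff.mp h2) 0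
      simpa using h3
    rw [hzero, map_zero]
    obtain ⟨U, hy, m, rfl⟩ := exists_germM_eq Z y v
    rw [stalkLin_germ]
    exact (map_zero ((RefHull.homSh (RefHull.homSh F L) L).presheaf.germ U y hy).hom).symm
  let j : F ⟶ ∐ fun _ : Fin d => L := ∑ i, φ i ≫ Sigma.ι (fun _ : Fin d => L) i
  have hproj : ∀ i, j ≫ Sigma.desc (fun l => if l = i then 𝟙 L else 0) = φ i := fun i => by
    simp [j, Preadditive.sum_comp, comp_ite, Finset.sum_ite_eq']
  have hjm : Mono j := Preadditive.mono_of_cancel_zero _ fun {Z} g hg0 => hjoint Z g fun i => by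
    rw [← hproj i, ← Category.assoc, hg0, zero_comp]
  refine ⟨d, ?_, j, hjm⟩
  by_contra hd0
  have hid : 𝟙 F = 0 := hjoint F (𝟙 F) fun i => absurd i.2 (by omega)
  have := rk_eq_zero_of_isZero' hid
  omega
where
  rk_eq_zero_of_isZero' {F : X.Modules} (h : 𝟙 F = 0) : rk F = 0 := by
    have h0 : ∀ a : F.presheaf.stalk (genericPoint X), a = 0 := fun a => by
      obtain ⟨U, hy, m, rfl⟩ := exists_germM_eq F _ a
      rw [← VBLib.stalkLin_id F _ (germM F U _ hy m), h, stalkLin_germ]
      exact map_zero (F.presheaf.germ U _ hy).hom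
    haveI : Subsingleton (F.presheaf.stalk (genericPoint X)) := ⟨fun a b => (h0 a).trans (h0 b).symm⟩
    exact Module.finrank_zero_of_subsingleton

end Groth.Agent.VBLib
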