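import Groth.Agent.VBLib.DualDeg
import Groth.Agent.VBLib.RR
import Groth.Agent.EulerChar.CurveVanish
import Groth.Agent.HomShEval.QCoh
import Groth.Agent.FormalFun.Powers

/-!
# Serre duality on a curve: the easy inequality

A nonzero map from a coherent module to a line bundle `W` is surjective on `H¹`. Hence, when
`H¹(W)` is a line, `Hom(E, W)` injects into the dual of `H¹(E)`.
-/

universe u

open CategoryTheory CategoryTheory.Limits AlgebraicGeometry TopologicalSpace Opposite
open Groth.Agent.PullStalk.Sky Groth.Agent.PullStalk.Exact Groth.Agent.QCoh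

set_option linter.style.haveILetI false
set_option backward.isDefEq.respectTransparency.types false

noncomputable section

namespace Groth.Agent.VBLib.Serre

variable {X : Scheme.{u}} (E W : X.Modules)

/-- The morphism given by a global section of the sheaf Hom. -/
def toHom (s : Γ(RefHull.homSh E W, ⊤)) : E ⟶ W :=
  ⟨PresheafOfModules.homMk
    { app := fun U => AddCommGrpCat.ofHom (AddMonoidHom.mk'
        (fun m : Γ(E, U.unop) => HomShEval.QCoh.app E W s le_top m)
        (fun m m' => HomShEval.QCoh.ext_germ W _ _ fun y hy => by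
          rw [HomShEval.QCoh.germ_app]
          refine Eq.trans ?_ (map_add (W.presheaf.germ U.unop y hy).hom _ _).symm
          refine Eq.trans ?_ (congrArg₂ (· + ·) (HomShEval.QCoh.germ_app E W s le_top m y hy).symm
            (HomShEval.QCoh.germ_app E W s le_top m' y hy).symm)
          refine (congrArg _ (map_add (E.presheaf.germ U.unop y hy).hom m m')).trans ?_
          exact map_add _ _ _))
      naturality := fun {U V} i => by
        ext (m : Γ(E, U.unop))
        refine HomShEval.QCoh.ext_germ W _ _ fun y hy => ?_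
        show germM W V.unop y hy (HomShEval.QCoh.app E W s le_top (res E i.unop.le m)) =
          germM W V.unop y hy (res W i.unop.le (HomShEval.QCoh.app E W s le_top m))
        rw [HomShEval.QCoh.germ_app, HomShQC.germM_res, HomShQC.germM_res, HomShEval.QCoh.germ_app] }
    (fun U (r : Γ(X, U.unop)) (m : Γ(E, U.unop)) => by
      refine HomShEval.QCoh.ext_germ W _ _ fun y hy => ?_
      show germM W U.unop y hy (HomShEval.QCoh.app E W s le_top (r • m)) =
        germM W U.unop y hy (r • HomShEval.QCoh.app E W s le_top m)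
      rw [HomShEval.QCoh.germ_app, germM_smul, germM_smul, map_smul, HomShEval.QCoh.germ_app])⟩

lemma stalkLin_toHom (s : Γ(RefHull.homSh E W, ⊤)) (y : X) (t : E.presheaf.stalk y) :
    stalkLin (toHom E W s) y t = s.1 ⟨y, trivial⟩ t := by
  obtain ⟨U, hy, m, rfl⟩ := exists_germM_eq E y t
  exact (stalkLin_germ (toHom E W s) U y hy m).trans (HomShEval.QCoh.germ_app E W s le_top m y hy)

lemma toHom_ext {f g : E ⟶ W} (h : ∀ (y : X) (t : E.presheaf.stalk y), stalkLin f y t = stalkLin g y t) :
    f = g := by
  ext U m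
  refine HomShEval.QCoh.ext_germ W _ _ fun y hy => ?_
  exact (stalkLin_germ f U y hy m).symm.trans ((h y _).trans (stalkLin_germ g U y hy m))

lemma toHom_add (s t : Γ(RefHull.homSh E W, ⊤)) : toHom E W (s + t) = toHom E W s + toHom E W t := by
  ext U m
  refine HomShEval.QCoh.ext_germ W _ _ fun y hy => ?_
  show germM W U y hy (HomShEval.QCoh.app E W (s + t) le_top m) =
    germM W U y hy (HomShEval.QCoh.app E W s le_top m + HomShEval.QCoh.app E W t le_top m)
  refine Eq.trans ?_ (map_add (W.presheaf.germ U y hy).hom _ _).symm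
  rw [HomShEval.QCoh.germ_app]
  exact (congrArg₂ (· + ·) (HomShEval.QCoh.germ_app E W s le_top m y hy)
    (HomShEval.QCoh.germ_app E W t le_top m y hy)).symm

lemma toHom_injective : Function.Injective (toHom E W) := fun s t h =>
  Subtype.ext <| funext fun y => LinearMap.ext fun v => by
    have := congrArg (fun f => stalkLin f y.1 v) h
    simpa only [stalkLin_toHom] using this

lemma toHom_smul (r : Coh.Γtop X) (s : Γ(RefHull.homSh E W, ⊤)) :
    toHom E W ((show Γ(X, ⊤) from r) • s) = Formal.smulModΓ E r ≫ toHom E W s := by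
  ext U m
  refine HomShEval.QCoh.ext_germ W _ _ fun y hy => ?_
  show germM W U y hy (HomShEval.QCoh.app E W ((show Γ(X, ⊤) from r) • s) le_top m) =
    germM W U y hy (HomShEval.QCoh.app E W s le_top ((show Γ(X, U) from Coh.resTop X (op U) r) • m))
  rw [HomShEval.QCoh.germ_app, HomShEval.QCoh.germ_app]
  refine Eq.trans ?_ (congrArg _ (germM_smul E U y hy (show Γ(X, U) from Coh.resTop X (op U) r) m)).symm
  rw [map_smul]
  show X.presheaf.germ ⊤ y trivial (show Γ(X, ⊤) from r) • s.1 ⟨y, trivial⟩ (germM E U y hy m) = _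
  congr 1
  exact (HomShQC.germ_rres le_top y hy (show Γ(X, ⊤) from r)).symm

variable (k : Type u) [Field k] [X.Over (Spec (CommRingCat.of k))]

/-- The pairing `Hom(E, W) × H¹(E) → H¹(W)`. -/
def pair : Coh.HH X (RefHull.homSh E W) 0 →ₗ[k] (Coh.HH X E 1 →ₗ[k] Coh.HH X W 1) where
  toFun c := CohLin.overLin k (CohLin.hMap (toHom E W (ProperFin.h0Sec _ c)) 1)
  map_add' c d := LinearMap.ext fun x => by
    show CohLin.hMap _ 1 x = CohLin.hMap _ 1 x + CohLin.hMap _ 1 x
    rw [map_add, toHom_add]
    exact CohLin.hMap_add _ _ 1 x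
  map_smul' a c := LinearMap.ext fun x => by
    show CohLin.hMap (toHom E W (ProperFin.h0Sec _
        ((Coh.toGlobal (X ↘ Spec (CommRingCat.of k)) a) • c))) 1 x =
      (Coh.toGlobal (X ↘ Spec (CommRingCat.of k)) a) • CohLin.hMap (toHom E W (ProperFin.h0Sec _ c)) 1 x
    rw [ProperFin.h0Sec_smul, toHom_smul]
    exact EulerChar.hMap_comp_scal _ _ _ rfl 1 x

variable [IsIntegral X] [IsProper (X ↘ Spec (CommRingCat.of k))]

include k in
/-- A map surjective at the generic point is surjective on `H¹`. -/
theorem surjective_h1_of_generic (hdim : topologicalKrullDim X = 1) {A B : X.Modules} (f : A ⟶ B)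
    (hA : Coh.IsCoh A) (hB : Coh.IsCoh B)
    (hf : Function.Surjective (stalkLin f (genericPoint X))) :
    Function.Surjective (CohLin.hMap f 1) := by
  haveI := EulerChar.isNoetherian k (X := X)
  have hI : Coh.IsCoh (Abelian.image f) := CohDev.isCoh_image f hA hB.1
  have hCc := CohDev.isCoh_cokernel f hA.1 hB
  have hCd := EulerChar.dim_support_le_zero k hdim hCc (CohDev.not_mem_support_cokernel f hf)
  let S₁ := ShortComplex.mk (kernel.ι f) (Abelian.factorThruImage f)
    ((cancel_mono (Abelian.image.ι f)).mp (by simp))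
  have hS₁ : S₁.ShortExact := by
    refine { exact := ShortComplex.exact_of_f_is_kernel _ ?_ }
    refine KernelFork.IsLimit.ofι' _ _ fun {C} a ha => ⟨kernel.lift f a ?_, kernel.lift_ι _ _ _⟩
    rw [← Abelian.image.fac f, ← Category.assoc]
    exact (congrArg (· ≫ Abelian.image.ι f) ha).trans zero_comp
  have hS₂ : (ShortComplex.mk (Abelian.image.ι f) (cokernel.π f) (kernel.condition _)).ShortExact :=
    ShortComplex.ShortExact.mk' (ShortComplex.exact_kernel (cokernel.π f))
      (inferInstanceAs (Mono (kernel.ι (cokernel.π f)))) (inferInstanceAs (Epi (cokernel.π f)))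
  haveI : Subsingleton (Coh.HH X (cokernel f) 1) := EulerChar.subsingleton_HH_of_support k hCc hCd 0
  haveI : Subsingleton (Coh.HH X (kernel f) 2) := EulerChar.subsingleton_HH_two_le k hdim _ one_lt_two
  intro y
  obtain ⟨z, hz⟩ := CohLin.exists_hMap_f_eq hS₂ y (Subsingleton.elim _ _)
  obtain ⟨x, hx⟩ := CohLin.exists_hMap_g_eq hS₁ z (Subsingleton.elim _ _)
  refine ⟨x, ?_⟩
  rw [← Abelian.image.fac f, CohLin.hMap_comp]
  exact (congrArg _ hx).trans hz

end Groth.Agent.VBLib.Serre

namespace Groth.Agent.VBLib

variable {k : Type u} [Field k] {X : Scheme.{u}} [X.Over (Spec (CommRingCat.of k))] [IsIntegral X]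
  (hX : GoodCurve k X)
include hX

/-- A nonzero map to a line bundle is surjective on `H¹`. -/
theorem GoodCurve.surjective_h1_to_line {E W : X.Modules} (hE : Coh.IsCoh E)
    (hW : FlatMod.IsFinLocFreeOfRank 1 W) (f : E ⟶ W) (hf : f ≠ 0) :
    Function.Surjective (CohLin.hMap f 1) := by
  haveI := hX.proper
  haveI := hX.isLocallyNoetherian
  have hWf := isFinLocFree_of_ofRank hW
  letI : Field (X.presheaf.stalk (genericPoint X)) := inferInstanceAs (Field X.functionField)
  refine Serre.surjective_h1_of_generic k hX.dim f hE (isCoh_of_ofRank hW) ?_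
  haveI := finite_stalk (isCoh_of_ofRank hW) (genericPoint X)
  rw [← LinearMap.range_eq_top]
  refine Submodule.eq_top_of_finrank_eq (le_antisymm (Submodule.finrank_le _) ?_)
  rw [show Module.finrank (X.presheaf.stalk (genericPoint X)) (W.presheaf.stalk (genericPoint X)) = 1
    from rk_eq hW]
  refine Nat.one_le_iff_ne_zero.mpr fun h0 => hf ?_
  have hb : LinearMap.range (stalkLin f (genericPoint X)) = ⊥ := Submodule.finrank_eq_zero.1 h0
  refine eq_zero_of_rk_image f (isFinLocFree_image hX.pid f hE hWf) ?_
  let S₁ := ShortComplex.mk (kernel.ι f) (Abelian.factorThruImage f)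
    ((cancel_mono (Abelian.image.ι f)).mp (by simp))
  have hS₁ : S₁.ShortExact := by
    refine { exact := ShortComplex.exact_of_f_is_kernel _ ?_ }
    refine KernelFork.IsLimit.ofι' _ _ fun {C} a ha => ⟨kernel.lift f a ?_, kernel.lift_ι _ _ _⟩
    rw [← Abelian.image.fac f, ← Category.assoc]
    exact (congrArg (· ≫ Abelian.image.ι f) ha).trans zero_comp
  have hs := (stalk_exact hS₁ (genericPoint X)).2.2
  haveI : Subsingleton ((Abelian.image f).presheaf.stalk (genericPoint X)) := ⟨fun a b => by
    apply stalkLin_injective (Abelian.image.ι f) (genericPoint X)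
    obtain ⟨a, rfl⟩ := hs a
    obtain ⟨b, rfl⟩ := hs b
    rw [← Omega.Stalks.stalkLin_comp, ← Omega.Stalks.stalkLin_comp]
    show stalkLin (Abelian.factorThruImage f ≫ Abelian.image.ι f) _ a =
      stalkLin (Abelian.factorThruImage f ≫ Abelian.image.ι f) _ b
    rw [Abelian.image.fac, LinearMap.range_eq_bot.mp hb]
    rfl⟩
  exact Module.finrank_zero_of_subsingleton

/-- The easy half of Serre duality. -/
theorem GoodCurve.finrank_H0_homSh_le {E W : X.Modules} (hE : Coh.IsCoh E)
    (hW : FlatMod.IsFinLocFreeOfRank 1 W) (hW1 : Module.finrank k (Coh.HH X W 1) = 1) :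
    Module.finrank k (Coh.HH X (RefHull.homSh E W) 0) ≤ Module.finrank k (Coh.HH X E 1) := by
  haveI := hX.proper
  haveI := hE.1
  haveI := (isCoh_of_ofRank hW).1
  haveI := CurveCoh.finite_HH_one (k := k) E hX.val hX.dim hE
  haveI := CurveCoh.finite_HH_one (k := k) W hX.val hX.dim (isCoh_of_ofRank hW)
  haveI : Nontrivial (Coh.HH X W 1) := Module.nontrivial_of_finrank_pos (R := k) (by omega)
  have hinj : Function.Injective (Serre.pair E W k) := by
    rw [injective_iff_map_eq_zero]
    intro c hc
    by_contra hne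
    have hf : Serre.toHom E W (ProperFin.h0Sec _ c) ≠ 0 := fun h0 => hne <|
      (ProperFin.h0Sec _).injective (Serre.toHom_injective E W (by
        rw [h0, map_zero]
        refine Serre.toHom_ext E W fun y t => ?_
        obtain ⟨U, hy, m, rfl⟩ := exists_germM_eq E y t
        rw [Serre.stalkLin_toHom, stalkLin_germ]
        exact map_zero (W.presheaf.germ U y hy).hom))
    obtain ⟨v, hv⟩ := exists_ne (0 : Coh.HH X W 1)
    obtain ⟨x, hx⟩ := hX.surjective_h1_to_line hE hW _ hf v
    exact hv (hx.symm.trans (LinearMap.congr_fun hc x))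
  refine (LinearMap.finrank_le_finrank_of_injective hinj).trans ?_
  rw [Module.finrank_linearMap, hW1, mul_one]

end Groth.Agent.VBLib
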