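import Groth.Agent.VBLib.SerreInj
import Groth.Agent.HomShEval.Reflexive

/-!
# Serre duality on a curve of genus one
-/

universe u

open CategoryTheory CategoryTheory.Limits AlgebraicGeometry TopologicalSpace Opposite
open Groth.Agent.PullStalk.Sky Groth.Agent.PullStalk.Exact

set_option linter.style.haveILetI false
set_option backward.isDefEq.respectTransparency.types false

noncomputable section

namespace Groth.Agent.VBLib

variable {k : Type u} [Field k] {X : Scheme.{u}} [X.Over (Spec (CommRingCat.of k))] [IsIntegral X]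
  (hX : GoodCurve k X)
include hX

/-- A vector bundle is its own double dual. -/
theorem GoodCurve.isIso_bidual {E : X.Modules} (hE : FlatMod.IsFinLocFree E) :
    IsIso (RefHull.bidualMap E) := by
  haveI := hX.isLocallyNoetherian
  refine (HomShEval.Reflexive.isReflexive_iff E (isCoh_of_isFinLocFree hE)).mpr fun x => ?_
  haveI := (isCoh_of_isFinLocFree hE).1
  haveI := (Props.QProj.free_stalk E hE x).1
  haveI := finite_stalk (isCoh_of_isFinLocFree hE) x
  show Module.IsReflexive (X.presheaf.stalk x) (E.presheaf.stalk x)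
  infer_instance

/-- Serre duality in genus one: `h¹(E) = h⁰(E^∨)`. -/
theorem GoodCurve.serre_one (h : Function.Bijective (Coh.toGlobal (X ↘ Spec (CommRingCat.of k))))
    (hg : Curv2.genus k X = 1) {E : X.Modules} (hE : FlatMod.IsFinLocFree E) :
    Module.finrank k (Coh.HH X E 1) = Module.finrank k (Coh.HH X (RefHull.dual E) 0) := by
  haveI := hX.isLocallyNoetherian
  have hO : FlatMod.IsFinLocFreeOfRank 1 (Coh.structureModule X) :=
    ProjTwist.isFinLocFreeOfRank_one (PicLoc.isInvertible_structureModule X)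
  have hO1 : Module.finrank k (Coh.HH X (Coh.structureModule X) 1) = 1 := hg
  obtain ⟨hD, hDr⟩ := DualDeg.isFinLocFree_dual hX.pid hE
  obtain ⟨hDD, hDDr⟩ := DualDeg.isFinLocFree_dual hX.pid hD
  have h1 : Module.finrank k (Coh.HH X (RefHull.dual E) 0) ≤ Module.finrank k (Coh.HH X E 1) :=
    hX.finrank_H0_homSh_le (isCoh_of_isFinLocFree hE) hO hO1
  have h2 : Module.finrank k (Coh.HH X (RefHull.dual (RefHull.dual E)) 0) ≤
      Module.finrank k (Coh.HH X (RefHull.dual E) 1) :=
    hX.finrank_H0_homSh_le (isCoh_of_isFinLocFree hD) hO hO1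
  haveI := hX.isIso_bidual hE
  have h3 : Module.finrank k (Coh.HH X E 0) ≤
      Module.finrank k (Coh.HH X (RefHull.dual (RefHull.dual E)) 0) :=
    hX.finrank_H0_le (RefHull.bidualMap E) (isCoh_of_isFinLocFree hDD)
  have hE' := hX.riemannRoch h (isCoh_of_isFinLocFree hE)
  have hD' := hX.riemannRoch h (isCoh_of_isFinLocFree hD)
  rw [hX.dg_dual hE, hg] at hD'
  rw [hg] at hE'
  push_cast at hD' hE'
  omega

/-- In genus one, `h¹` vanishes as soon as there is no map to the structure sheaf. -/
theorem GoodCurve.subsingleton_h1_one (h : Function.Bijective (Coh.toGlobal (X ↘ Spec (CommRingCat.of k))))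
    (hg : Curv2.genus k X = 1) {E : X.Modules} (hE : FlatMod.IsFinLocFree E)
    (hz : ∀ f : E ⟶ Coh.structureModule X, f = 0) :
    Subsingleton (Coh.HH X E 1) := by
  haveI := hX.proper
  haveI := (isCoh_of_isFinLocFree hE).1
  haveI := CurveCoh.finite_HH_one (k := k) E hX.val hX.dim (isCoh_of_isFinLocFree hE)
  haveI : Subsingleton (Coh.HH X (RefHull.dual E) 0) := ⟨fun a b =>
    (ProperFin.h0Sec _).injective (Serre.toHom_injective E _ ((hz _).trans (hz _).symm))⟩
  exact Module.finrank_zero_iff.mp ((hX.serre_one h hg hE).trans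
    (Module.finrank_zero_of_subsingleton (R := k) (M := Coh.HH X (RefHull.dual E) 0)))

/-- In genus one, a semistable bundle of positive degree has no `H¹`. -/
theorem GoodCurve.subsingleton_h1_of_ss (h : Function.Bijective (Coh.toGlobal (X ↘ Spec (CommRingCat.of k))))
    (hg : Curv2.genus k X = 1) {E : X.Modules} (hE : FlatMod.IsFinLocFree E) (hss : SS k E)
    (hpos : 0 < dg k E) : Subsingleton (Coh.HH X E 1) := by
  refine hX.subsingleton_h1_one h hg hE fun f => ?_
  have hO : FlatMod.IsFinLocFreeOfRank 1 (Coh.structureModule X) :=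
    ProjTwist.isFinLocFreeOfRank_one (PicLoc.isInvertible_structureModule X)
  refine hX.hom_eq_zero hE (isFinLocFree_of_ofRank hO) hss (fun G i hi hG hr => ?_) f
  have hrk : rk G ≤ 1 := by
    haveI := hi
    exact (rk_le_of_mono i (isCoh_of_ofRank hO)).trans_eq (rk_eq hO)
  have hd : dg k G ≤ dg k (Coh.structureModule X) := by
    haveI := hi
    exact (hX.dg_le_of_mono i (isCoh_of_isFinLocFree hG) (isCoh_of_ofRank hO) (by rw [rk_eq hO]; omega)).1
  have h0 : dg k (Coh.structureModule X) = 0 := by
    simp [dg, Curv2.deg, rk_eq hO]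
  have h1 : dg k G * (rk E : ℤ) ≤ 0 := mul_nonpos_of_nonpos_of_nonneg (h0 ▸ hd) (by positivity)
  have h2 : 0 < dg k E * (rk G : ℤ) := mul_pos hpos (by exact_mod_cast hr)
  omega

end Groth.Agent.VBLib
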